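import Cfsg.Agent.Lib.Recog.G2TwoLocal.WholeBasic

/-!
With weights of order nine the second element cannot fix a whole weight: a long and a short element would be
conjugate.
-/

set_option autoImplicit false
set_option maxRecDepth 100000
set_option linter.unusedSectionVars false
set_option linter.style.haveILetI false

namespace CfsgLib.Recog.G2TwoLocal

open Cm Subgroup

universe u

variable {G : Type u} [Group G] [Finite G]

theorem Cfg.isA_frame {z : G} {φ φ' : Cm →* G} (_ : Cfg z φ) (h : Sib φ φ') : IsA φ (φ' aC) :=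
  (h _).1.1 (isA_base φ')

/-- The frame of a whole weight group sees the original subgroup of order nine as its weight group. -/
theorem Whole.partner {z : G} {φ φ' : Cm →* G} {X : Cfg z φ} (P : Whole X)
    (h9 : Nat.card (Cfg.kt X) = 9) (Y : Cfg (φ tau) φ') (hY : φ' tau = z) (hS : Sib φ φ')
    (hk : Cfg.kt X = p9Sub φ') : Cfg.kt Y = p9Sub φ ∧ Whole Y := by
  have hmem : ∀ {y : G}, y ∈ p9Sub φ' → y * φ aC = φ aC * y ∧ y * φ bC = φ bC * y := fun {y} hy => by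
    have hy' : y ∈ Cfg.kt X := hk ▸ hy
    exact ⟨(X.mem_kt.1 hy').1, mem_cent.1 (P.le hy')⟩
  have hcomm : ∀ {y : G}, y ∈ p9Sub φ' → ∀ c ∈ p9, φ c * y = y * φ c := by
    intro y hy c hc
    obtain ⟨i, j, hij⟩ := p9_eq c hc
    rw [hij, map_mul, map_pow, map_pow]
    exact ((Commute.pow_left (hmem hy).1.symm i).mul_left (Commute.pow_left (hmem hy).2.symm j))
  have hle : p9Sub φ ≤ Cfg.kt Y := by
    rintro _ ⟨c, hc, rfl⟩
    refine Y.mem_kt.2 ⟨hcomm (aC_mem_p9Sub φ').1 c hc, ?_⟩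
    rw [hY]
    exact X.wt_z_iff.2 ⟨c, (p9_cube c hc).2.2.2, rfl⟩
  have hcard : Nat.card (Cfg.kt Y) = 9 := (X.card_kt_eq Y (X.isA_frame hS)).trans h9
  have he : Cfg.kt Y = p9Sub φ := (Subgroup.eq_of_le_of_card_ge hle (by rw [hcard, X.card_p9])).symm
  have hle' : Cfg.kt Y ≤ Subgroup.centralizer ({φ' bC} : Set G) := by
    rw [he]; rintro _ ⟨c, hc, rfl⟩
    exact mem_cent.2 (hcomm (aC_mem_p9Sub φ').2 c hc)
  refine ⟨he, hle', ?_⟩
  have h := Y.fixed_bounds.1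
  rw [inf_eq_left.2 hle', hcard] at h
  have hp : 0 < Nat.card ↥(Cfg.kzt Y ⊓ Subgroup.centralizer ({φ' bC} : Set G)) := Nat.card_pos
  exact Subgroup.card_eq_one.1 (by omega)

/-- A long element of the whole weight is conjugate to its product with a power of the short element. -/
theorem Whole.twist {z : G} {φ φ' : Cm →* G} {X : Cfg z φ} (P : Whole X)
    (h9 : Nat.card (Cfg.kt X) = 9) (Y : Cfg (φ tau) φ') (hY : φ' tau = z) (hS : Sib φ φ')
    (hk : Cfg.kt X = p9Sub φ') :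
    ∃ v : G, ∃ d ∈ Subgroup.zpowers (φ bC), d ≠ 1 ∧ v * φ' aC * v⁻¹ = d * φ' aC ∧
      v * φ bC = φ bC * v := by
  classical
  obtain ⟨hke, PY⟩ := P.partner h9 Y hY hS hk
  obtain ⟨hks, PS⟩ := P.kt_sigma
  have ea : (φ.comp sigma) aC = φ bC := congrArg φ sigma_facts.1
  have et : (φ.comp sigma) tau = φ tau := congrArg φ sigma_facts.2.2.1
  have hc : ∀ v ∈ Cfg.kzt X.preSigma, ∀ e ∈ p9Sub φ', v * e * v⁻¹ * e⁻¹ ∈ Subgroup.zpowers (φ bC) := by
    intro v hv e he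
    have he' : e ∈ Cfg.kt X.preSigma := hks ▸ hk ▸ he
    rw [← ea]; exact X.preSigma.comm_mod_a hv.1 he'.1
  have hvb : ∀ v ∈ Cfg.kzt X.preSigma, v * φ bC = φ bC * v := fun v hv => by
    have := (X.preSigma.mem_kzt.1 hv).1
    rwa [ea] at this
  have c9 : Nat.card (Cfg.kzt X.preSigma) = 9 := by rw [X.preSigma.card_kzt, hks, h9]
  by_contra hcon
  push Not at hcon
  have hr : ∀ v ∈ Cfg.kzt X.preSigma, v * φ' aC = φ' aC * v := by
    intro v hv
    have h := hc v hv _ (aC_mem_p9Sub φ').1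
    by_contra hne
    refine hcon v _ h (fun h1 => hne (mul_inv_eq_iff_eq_mul.1 (mul_inv_eq_one.1 h1))) ?_ (hvb v hv)
    rw [inv_mul_cancel_right]
  obtain ⟨v₁, v₂, hne, heq⟩ : ∃ v₁ v₂ : Cfg.kzt X.preSigma, v₁ ≠ v₂ ∧
      (v₁ : G) * φ' bC * (v₁ : G)⁻¹ = (v₂ : G) * φ' bC * (v₂ : G)⁻¹ := by
    let f : Cfg.kzt X.preSigma → Subgroup.zpowers (φ bC) := fun v => ⟨_, hc v v.2 _ (aC_mem_p9Sub φ').2⟩
    have hni : ¬Function.Injective f := fun h => by
      have := Nat.card_le_card_of_injective f h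
      rw [c9, X.card_zpowers_rep (x := bC) (by decide +kernel)] at this
      omega
    simp only [Function.Injective, not_forall] at hni
    obtain ⟨v₁, v₂, h, hne⟩ := hni
    exact ⟨v₁, v₂, hne, mul_right_cancel (congrArg Subtype.val h : _ * (φ' bC)⁻¹ = _ * (φ' bC)⁻¹)⟩
  obtain ⟨v, hv⟩ : ∃ v, v = (v₂ : G)⁻¹ * v₁ := ⟨_, rfl⟩
  have hvK : v ∈ Cfg.kzt X.preSigma := hv ▸ mul_mem (inv_mem v₂.2) v₁.2
  have hvs : v * φ' bC = φ' bC * v := by
    refine mul_inv_eq_iff_eq_mul.1 ?_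
    rw [hv]
    calc (v₂ : G)⁻¹ * v₁ * φ' bC * ((v₂ : G)⁻¹ * v₁)⁻¹
        = (v₂ : G)⁻¹ * ((v₁ : G) * φ' bC * (v₁ : G)⁻¹) * v₂ := by group
      _ = φ' bC := by rw [heq]; group
  obtain ⟨-, hw1, hw2, hw3⟩ := X.preSigma.mem_kzt.1 hvK
  rw [et] at hw2
  have hwt : Wt (φ tau) (φ tau * φ' tau) v := by
    rw [hY, X.t_comm]
    refine ⟨hw1, hw2, ?_⟩
    calc φ tau * v * (φ tau)⁻¹ = z⁻¹ * (z * φ tau * v * (φ tau)⁻¹) := by group
      _ = z⁻¹ * (v * (z * φ tau) * (φ tau)⁻¹) := by rw [hw2]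
      _ = z⁻¹ * v * z := by group
      _ = v⁻¹ := by rw [Cfg.inv_sq X.z_sq, ← hw3, Cfg.inv_sq X.z_sq]
  have h1 : v = 1 := Subgroup.mem_bot.1
    (PY.bot ▸ ⟨Y.mem_kzt.2 ⟨hr v hvK, hwt⟩, mem_cent.2 hvs⟩)
  exact hne (Subtype.ext (inv_mul_eq_one.1 (hv.symm.trans h1)).symm)

theorem Whole.false_nine {z : G} {φ : Cm →* G} {X : Cfg z φ} (P : Whole X)
    (h9 : Nat.card (Cfg.kt X) = 9) : False := by
  rcases X.wt_group' (Cfg.kt X) (fun _ hy => (X.mem_kt.1 hy).2) with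
    h | ⟨φ', F, -, -, x, hx, h⟩ | ⟨φ', Y, hY, hS, hk⟩
  · rw [h, Subgroup.card_bot] at h9; omega
  · rw [h, F.card_zpowers_rep hx] at h9; omega
  obtain ⟨hke, PY⟩ := P.partner h9 Y hY hS hk
  obtain ⟨v, d, hd, hd1, hv, hvb⟩ := P.twist h9 Y hY hS hk
  obtain ⟨hkys, PYs⟩ := PY.kt_sigma
  have et : (φ'.comp sigma) tau = z := (congrArg φ' sigma_facts.2.2.1).trans hY
  have ea : (φ'.comp sigma) bC = φ' aC := congrArg φ' sigma_facts.2.1
  have hps : p9Sub (φ.comp sigma) = p9Sub φ := by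
    have hs : ∀ p ∈ p9, sigma p ∈ p9 := by decide +kernel
    refine SetLike.ext fun y => ⟨?_, ?_⟩
    · rintro ⟨c, hc, rfl⟩; exact ⟨sigma c, hs c hc, rfl⟩
    · rintro ⟨c, hc, rfl⟩; exact ⟨sigma c, hs c hc, congrArg φ (sigma_sigma c)⟩
  have hS' : Sib (φ'.comp sigma) (φ.comp sigma) := fun y =>
    ⟨by rw [(isA_sigma φ y).1, (isA_sigma φ' y).1, (hS y).2],
      by rw [(isA_sigma φ y).2, (isA_sigma φ' y).2, (hS y).1]⟩
  obtain ⟨v', d', hd', hd1', hv', -⟩ := PYs.twist (φ' := φ.comp sigma)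
    (by rw [hkys, hke, X.card_p9]) (by rw [et]; exact X.preSigma)
    (congrArg φ sigma_facts.2.2.1) hS' (by rw [hkys, hke, hps])
  rw [ea] at hd'
  rw [show (φ.comp sigma) aC = φ bC from congrArg φ sigma_facts.1] at hv'
  have hA : IsA φ (φ' aC) := X.isA_frame hS
  have hA1 : IsA φ (d * φ' aC) := hv ▸ isA_conj hA v
  have hA2 : IsA φ (d⁻¹ * φ' aC) := by
    have hdv : Commute d v := by
      obtain ⟨i, rfl⟩ := Subgroup.mem_zpowers_iff.1 hd
      exact Commute.zpow_left hvb.symm i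
    have e : v⁻¹ * φ' aC * v = d⁻¹ * φ' aC := by
      have h2 : φ' aC = v⁻¹ * (d * φ' aC) * v := by rw [← hv]; group
      calc v⁻¹ * φ' aC * v = d⁻¹ * (d * v⁻¹) * φ' aC * v := by group
        _ = d⁻¹ * (v⁻¹ * (d * φ' aC) * v) := by rw [hdv.inv_right.eq]; group
        _ = d⁻¹ * φ' aC := by rw [← h2]
    rw [← e]
    simpa using isA_conj hA v⁻¹
  have hB : IsB φ (d' * φ bC) := hv' ▸ isB_conj (isB_base φ) v'
  have hbr : φ bC * φ' aC = φ' aC * φ bC :=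
    (mem_cent.1 (P.le (hk ▸ (aC_mem_p9Sub φ').1))).symm
  have hA3 : IsA φ (φ bC * φ' aC) ∧ IsA φ ((φ bC)⁻¹ * φ' aC) := by
    rcases zpowers_of_cube (by rw [← map_mul, ← map_mul, (reps_cube bC (by decide +kernel)).1, map_one]) hd
      with rfl | rfl | rfl
    · exact absurd rfl hd1
    · exact ⟨hA1, hA2⟩
    · rw [inv_inv] at hA2; exact ⟨hA2, hA1⟩
  rcases zpowers_of_cube (by rw [← map_mul, ← map_mul, (reps_cube aC (by decide +kernel)).1, map_one]) hd'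
    with rfl | rfl | rfl
  · exact absurd rfl hd1'
  · rw [← hbr] at hB
    exact X.not_isA_isB hA3.1 hB
  · have e : ((φ bC)⁻¹ * φ' aC)⁻¹ = (φ' aC)⁻¹ * φ bC := by group
    exact X.not_isA_isB (e ▸ isA_inv hA3.2) hB

end CfsgLib.Recog.G2TwoLocal
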