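import Cfsg.Agent.Lib.Recog.G2TwoLocal.Side
import Cfsg.Agent.Lib.AmalgamG2Three.Frame.OfHyp
import Cfsg.Agent.Lib.AmalgamG2Three.Recognise

/-!
The normalisers of a long and of a short element form the amalgam of `G_2(3)`.
-/

set_option autoImplicit false
set_option maxRecDepth 100000
set_option linter.unusedSectionVars false
set_option linter.style.haveILetI false

namespace CfsgLib.Recog.G2TwoLocal

open Cm Subgroup CfsgLib.AmalgamG2Three

universe u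

theorem sigma_bar : sigma (jB * bC * jB⁻¹) = jA * aC * jA⁻¹ := by decide +kernel

variable {G : Type u} [Group G] [Finite G]

/-- A 3-group inside the normaliser has order at most `729`. -/
theorem card_le_729 {A Q Z D : Subgroup G} (s : Frame.Side A Q Z D) {P : Subgroup G} (hP : P ≤ A)
    (h3 : IsPGroup 3 P) : Nat.card P ≤ 729 := by
  haveI : Fact (Nat.Prime 3) := ⟨Nat.prime_three⟩
  obtain ⟨k, hk⟩ := IsPGroup.iff_card.1 h3
  have h : 3 ^ k ∣ 243 * 48 := hk ▸ s.a_card ▸ Subgroup.card_dvd_of_le hP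
  have h6 : k ≤ 6 := by
    by_contra hk6
    have : 3 ^ 7 ∣ 243 * 48 := (pow_dvd_pow 3 (by omega)).trans h
    norm_num at this
  rw [hk]
  exact Nat.pow_le_pow_right (by norm_num) h6

/-- An element of odd order normalising a subgroup of order three centralises it. -/
theorem comm_of_odd_norm {x y : G} (ho : ∃ n, Odd n ∧ y ^ n = 1)
    (h : y * x * y⁻¹ = x ∨ y * x * y⁻¹ = x⁻¹) : y * x = x * y := by
  rcases h with h | h
  · exact mul_inv_eq_iff_eq_mul.1 h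
  · obtain ⟨n, ⟨m, rfl⟩, hy⟩ := ho
    have h2 : Commute (y * y) x := by
      refine mul_inv_eq_iff_eq_mul.1 ?_
      calc y * y * x * (y * y)⁻¹ = y * (y * x * y⁻¹) * y⁻¹ := by group
        _ = (y * x * y⁻¹)⁻¹ := by rw [h, ← conj_inv, h]
        _ = x := by rw [h, inv_inv]
    have e : y = (y * y) ^ (m + 1) := by
      rw [← pow_two, ← pow_mul, show 2 * (m + 1) = 2 * m + 1 + 1 by ring, pow_succ, hy, one_mul]
    rw [e]
    exact h2.pow_left _

theorem odd_of_cube {y : G} (h : y * y * y = 1) : ∃ n, Odd n ∧ y ^ n = 1 :=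
  ⟨3, by decide, by rw [pow_succ, pow_two, h]⟩

namespace Norm

variable {z : G} {φ φ' : Cm →* G} {X : Cfg z φ} (P : Norm X φ')

include P

/-- The frame of the short central element. -/
theorem exists_psi : ∃ ψ : Cm →* G, Cfg (z * φ tau) ψ ∧ ψ tau = z ∧ ψ aC = jconj φ (φ' bC) ∧
    ψ bC = jconj φ (φ' aC) ∧ ψ (jB * bC * jB⁻¹) = jconj φ (φ' (jA * aC * jA⁻¹)) := by
  obtain ⟨-, h2, h3, -⟩ := X.jB_maps
  refine ⟨(MulAut.conj (φ jB)).toMonoidHom.comp (φ'.comp sigma), ?_, ?_, ?_, ?_, ?_⟩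
  · have := P.frame.preSigma.conjFrame (φ jB)
    rwa [h2] at this
  · show φ jB * φ' (sigma tau) * (φ jB)⁻¹ = z
    rw [sigma_facts.2.2.1, P.tau_z, h3]
  · show φ jB * φ' (sigma aC) * (φ jB)⁻¹ = _
    rw [sigma_facts.1]; rfl
  · show φ jB * φ' (sigma bC) * (φ jB)⁻¹ = _
    rw [sigma_facts.2.1]; rfl
  · show φ jB * φ' (sigma (jB * bC * jB⁻¹)) * (φ jB)⁻¹ = _
    rw [sigma_bar]; rfl

theorem z_q : jconj φ (φ' bC) * φ bC = φ bC * jconj φ (φ' bC) := by
  have h := jconj_comm φ P.s_b'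
  rwa [jconj_phi, beta_facts.2.2.2.2] at h

/-- The amalgam. -/
theorem hyp {ψ : Cm →* G} (Y : Cfg (z * φ tau) ψ) (hψt : ψ tau = z)
    (hψa : ψ aC = jconj φ (φ' bC)) (hψb : ψ bC = jconj φ (φ' aC))
    (hψc : ψ (jB * bC * jB⁻¹) = jconj φ (φ' (jA * aC * jA⁻¹))) :
    Frame.Hyp (nA (φ aC)) (nA (ψ aC)) (oddW (φ aC)) (oddW (ψ aC)) (zW (φ aC)) (zW (ψ aC))
      (Subgroup.zpowers (φ aC)) (Subgroup.zpowers (ψ aC)) := by
  haveI : Fact (Nat.Prime 3) := ⟨Nat.prime_three⟩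
  obtain ⟨-, hY2, -, hY4⟩ := Y.jB_maps
  obtain ⟨hrk, hsk⟩ := P.mem_kt
  have hqz := P.q_mem
  have hψzt : z * φ tau * ψ tau = φ tau := by
    rw [hψt, mul_assoc, X.t_comm, ← mul_assoc, X.z_sq, one_mul]
  rw [hψzt] at hY2 hY4
  rw [hψt] at hY2 hY4
  have hq3 : ψ aC * ψ aC * ψ aC = 1 := cube_aC aC (by decide +kernel)
  have hqne : ∀ {c : Cm}, c ∈ reps → ψ c ≠ 1 := fun hc h =>
    (reps_cube _ hc).2.1 (Y.inj (by rw [h, map_one]))
  refine ⟨X.side, Y.side, fun g hg => ?_, ?_, fun N hN hN₁ hN₂ => ?_⟩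
  -- the sides are not conjugate
  · obtain ⟨y, hy⟩ : ∃ y, y = g * φ aC * g⁻¹ := ⟨_, rfl⟩
    have hy3 : y * y * y = 1 := by
      rw [hy, conj_mul, conj_mul, cube_aC aC (by decide +kernel), mul_one, mul_inv_cancel]
    have hy1 : y ≠ 1 := by
      rw [hy]; exact fun h => X.a_ne (conj_eq_one_iff.1 h)
    have hyA : ∀ u ∈ nA (ψ aC), u * y * u⁻¹ = y ∨ u * y * u⁻¹ = y⁻¹ := by
      intro u hu
      rw [← hg] at hu
      obtain ⟨v, hv, rfl⟩ := hu
      show g * v * g⁻¹ * y * (g * v * g⁻¹)⁻¹ = y ∨ g * v * g⁻¹ * y * (g * v * g⁻¹)⁻¹ = y⁻¹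
      have e : g * v * g⁻¹ * y * (g * v * g⁻¹)⁻¹ = g * (v * φ aC * v⁻¹) * g⁻¹ := by rw [hy]; group
      rw [e]
      rcases X.mem_A.1 hv with h | h <;> rw [h]
      · exact Or.inl hy.symm
      · exact Or.inr (by rw [hy]; group)
    have hymem : y ∈ nA (ψ aC) := by
      rw [← hg, hy]
      exact ⟨φ aC, X.mem_A_of_comm rfl, rfl⟩
    have hycomm : ∀ u ∈ oddW (ψ aC), u * y = y * u := fun u hu =>
      comm_of_odd_norm ⟨_, odd_oddW _, oddW_pow _ hu⟩ (hyA u (Y.W_le_A hu))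
    have hyW : y ∈ oddW (ψ aC) := by
      refine (Y.side.act₁ y hymem).2 fun x hx => ?_
      rw [← hycomm x hx, mul_inv_cancel_right, mul_inv_cancel]
      exact one_mem _
    -- the two involutions of the frame act with the same sign
    have hzt : (z * φ tau) * y = y * (z * φ tau) := by
      rcases hyA _ Y.z_mem_A with h | h
      · exact mul_inv_eq_iff_eq_mul.1 h
      exfalso
      have hj := hyA _ Y.jB_mem_A
      have hz' : z * y * z⁻¹ = y ∨ z * y * z⁻¹ = y⁻¹ := hψt ▸ hyA _ Y.t_mem_A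
      have et : φ tau * y * (φ tau)⁻¹ = (z⁻¹ * y * z)⁻¹ := by
        calc φ tau * y * (φ tau)⁻¹ = z⁻¹ * (z * φ tau * y * (z * φ tau)⁻¹) * z := by group
          _ = (z⁻¹ * y * z)⁻¹ := by rw [h]; group
      have ej : φ tau * (ψ jB * y * (ψ jB)⁻¹) * (φ tau)⁻¹ = ψ jB * (z * y * z⁻¹) * (ψ jB)⁻¹ := by
        rw [← hY2]; group
      rcases hz' with e | e
      · have ezy : z⁻¹ * y * z = y := by nth_rewrite 1 [← e]; group
        rw [ezy] at et
        rw [e] at ej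
        rcases hj with f | f <;> rw [f] at ej
        · exact hy1 (eq_one_of_inv_cube hy3 (ej.symm.trans et))
        · rw [← conj_inv, et, inv_inv] at ej
          exact hy1 (eq_one_of_inv_cube hy3 ej)
      · have ezy : z⁻¹ * y * z = y⁻¹ := by
          calc z⁻¹ * y * z = (z⁻¹ * (z * y * z⁻¹) * z)⁻¹ := by rw [e]; group
            _ = y⁻¹ := by group
        rw [ezy, inv_inv] at et
        rw [e, ← conj_inv] at ej
        rcases hj with f | f <;> rw [f] at ej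
        · exact hy1 (eq_one_of_inv_cube hy3 (et.symm.trans ej))
        · rw [← conj_inv, et, inv_inv] at ej
          exact hy1 (eq_one_of_inv_cube hy3 ej.symm)
    have hyD : y ∈ Subgroup.zpowers (ψ aC) := Y.oddW_z_eq.le ⟨hyW, mem_cent.2 hzt.symm⟩
    have hA : IsA φ y := hy ▸ isA_conj (isA_base φ) g
    have hB : IsB φ (ψ aC) := hψa ▸ isB_conj ((P.sib _).2.1 (isB_base φ')) (φ jB)
    rcases zpowers_of_cube hq3 hyD with h | h | h
    · exact hy1 h
    · exact X.not_isA_isB (h ▸ hA) hB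
    · exact X.not_isA_isB (by simpa [h] using isA_inv hA) hB
  -- a common Sylow subgroup
  · obtain ⟨S, hSd⟩ : ∃ S, S = oddW (φ aC) ⊔ Subgroup.zpowers (φ bC) := ⟨_, rfl⟩
    have hbn : Subgroup.zpowers (φ bC) ≤ Subgroup.normalizer (oddW (φ aC) : Set G) :=
      Subgroup.zpowers_le.2 (mem_normalizer_fintype fun y hy => oddW_normal X.b_comm_a hy)
    have hb3 : IsPGroup 3 (Subgroup.zpowers (φ bC)) :=
      IsPGroup.of_card (n := 1) (by rw [X.card_zpowers_rep (by decide +kernel)]; norm_num)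
    have hS3 : IsPGroup 3 S := by
      rw [hSd]
      exact IsPGroup.to_sup_of_normal_left' (IsPGroup.of_card (n := 5) (by rw [P.card_W]; norm_num)) hb3 hbn
    have hS1 : S ≤ nA (φ aC) := hSd ▸ sup_le X.W_le_A (Subgroup.zpowers_le.2 X.b_mem_A)
    have hS2 : S ≤ nA (ψ aC) := by
      rw [hSd]
      refine sup_le (fun y hy => Y.mem_A_of_comm ?_) (Subgroup.zpowers_le.2 (Y.mem_A_of_comm ?_))
      · rw [hψa]; exact Subgroup.mem_centralizer_iff.1 P.q_central.2 y hy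
      · rw [hψa]; exact P.z_q.symm
    have hbS : φ bC ∈ S := hSd ▸ Subgroup.mem_sup_right (Subgroup.mem_zpowers _)
    have hS729 : Nat.card S = 729 := by
      refine le_antisymm (card_le_729 X.side hS1 hS3) ?_
      have hW : oddW (φ aC) ≤ S := hSd ▸ le_sup_left
      obtain ⟨k, hk⟩ := IsPGroup.iff_card.1 hS3
      have h1 : 243 < Nat.card S := by
        rw [← P.card_W]
        refine lt_of_le_of_ne (Subgroup.card_le_of_le hW) fun e => ?_
        have hbW : φ bC ∈ oddW (φ aC) := Subgroup.eq_of_le_of_card_ge hW e.ge ▸ hbS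
        exact X.b_notin_a (X.oddW_z_eq.le ⟨hbW, mem_cent.2 ((X.range _).2 ⟨_, rfl⟩)⟩)
      rw [hk] at h1 ⊢
      calc 729 = 3 ^ 6 := by norm_num
        _ ≤ 3 ^ k := Nat.pow_le_pow_right (by norm_num) ((Nat.pow_lt_pow_iff_right (by norm_num)).1
          (show 3 ^ 5 < 3 ^ k by norm_num; exact h1))
    refine ⟨S, le_inf hS1 hS2, hS729, hSd ▸ le_sup_left, ?_⟩
    have hn : S ≤ Subgroup.normalizer (oddW (ψ aC) : Set G) := fun u hu =>
      mem_normalizer_fintype fun y hy => Y.A_norm_W (hS2 hu) hy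
    have h3 : IsPGroup 3 ↥(oddW (ψ aC) ⊔ S) := IsPGroup.to_sup_of_normal_left'
      (IsPGroup.of_card (n := 5) (by rw [Y.side.q_card]; norm_num)) hS3 hn
    have h729 := card_le_729 Y.side (sup_le Y.W_le_A hS2) h3
    rw [Subgroup.eq_of_le_of_card_ge (le_sup_right : S ≤ oddW (ψ aC) ⊔ S) (by rw [hS729]; exact h729)]
    exact le_sup_left
  -- no common normal subgroup
  have hn₁ : ∀ g ∈ nA (φ aC), ∀ k ∈ N, g * k * g⁻¹ ∈ N := fun g hg k hk =>
    (Subgroup.mem_normalizer_iff.1 (hN₁ hg) k).1 hk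
  have hn₂ : ∀ g ∈ nA (ψ aC), ∀ k ∈ N, g * k * g⁻¹ ∈ N := fun g hg k hk =>
    (Subgroup.mem_normalizer_iff.1 (hN₂ hg) k).1 hk
  have comm_mem : ∀ {v u : G}, v ∈ N → u * v * u⁻¹ ∈ N → v * u * v⁻¹ = u⁻¹ → u * u * u = 1 → u ∈ N := by
    intro v u hv hu hi h3
    have h := mul_mem hu (inv_mem hv)
    have h2 : u * v * u⁻¹ * v⁻¹ = u⁻¹ := by
      have e : v * u⁻¹ * v⁻¹ = u := by rw [← conj_inv, hi, inv_inv]
      calc u * v * u⁻¹ * v⁻¹ = u * (v * u⁻¹ * v⁻¹) := by group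
        _ = u⁻¹ := by rw [e]; exact eq_inv_of_mul_eq_one_left h3
    rw [h2] at h
    exact (Subgroup.inv_mem_iff _).1 h
  have hQ : N ≤ oddW (φ aC) := by
    refine (X.normal_le_or (hN.trans inf_le_left) hn₁).resolve_right fun hz => ?_
    have hp : ψ bC ∈ N := comm_mem hz (hn₂ _ Y.b_mem_A _ hz)
      (hψt ▸ Y.tau_rep (x := bC) (by decide +kernel)) (cube_aC bC (by decide +kernel))
    have hpb : ψ (jB * bC * jB⁻¹) ∈ N := by
      rw [map_mul, map_mul, map_inv]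
      exact hn₂ _ Y.jB_mem_A _ hp
    have h := X.mem_A.1 (hN hpb).1
    have hcu : ψ (jB * bC * jB⁻¹) * ψ (jB * bC * jB⁻¹) * ψ (jB * bC * jB⁻¹) = 1 := by
      rw [← map_mul, ← map_mul, show jB * bC * jB⁻¹ * (jB * bC * jB⁻¹) * (jB * bC * jB⁻¹) = (1 : Cm) by
        decide +kernel, map_one]
    have hc := comm_of_odd_norm (odd_of_cube hcu) h
    rw [hψc] at hc
    obtain ⟨hraC, hrw⟩ := X.mem_kt.1 hrk
    have hc2 : φ' (jA * aC * jA⁻¹) * φ aC = φ aC * φ' (jA * aC * jA⁻¹) := by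
      have e : jconj φ (φ aC) = φ aC := X.jB_maps.1
      rw [← e, jconj_mul, jconj_mul] at hc
      exact mul_left_cancel (mul_right_cancel hc)
    refine X.a_ne (P.frame.preSigma.cent_pair_one ?_ ?_ (X.tau_rep (by decide +kernel))
      (cube_aC aC (by decide +kernel)))
    · show φ aC * φ' (sigma bC) = φ' (sigma bC) * φ aC
      rw [sigma_facts.2.1]; exact hraC.symm
    · show φ aC * φ' (sigma (jB * bC * jB⁻¹)) = φ' (sigma (jB * bC * jB⁻¹)) * φ aC
      rw [sigma_bar]; exact hc2.symm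
  have hQ₂ : N ≤ oddW (ψ aC) := by
    refine (Y.normal_le_or (hN.trans inf_le_right) hn₂).resolve_right fun hz => ?_
    have htb : z * φ tau * φ bC * (z * φ tau)⁻¹ = (φ bC)⁻¹ := by
      calc z * φ tau * φ bC * (z * φ tau)⁻¹ = z * (φ tau * φ bC * (φ tau)⁻¹) * z⁻¹ := by group
        _ = (φ bC)⁻¹ := by
          rw [X.tau_rep (by decide +kernel)]
          exact mul_inv_eq_iff_eq_mul.2 (show Commute z (φ bC)⁻¹ from
            (show Commute z (φ bC) from ((X.range _).2 ⟨_, rfl⟩).symm).inv_right).eq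
    have hb : φ bC ∈ N := comm_mem hz (hn₁ _ X.b_mem_A _ hz) htb (cube_aC bC (by decide +kernel))
    have hbb : jconj φ (φ bC) ∈ N := hn₁ _ X.jB_mem_A _ hb
    have hcu : jconj φ (φ bC) * jconj φ (φ bC) * jconj φ (φ bC) = 1 := by
      rw [jconj_mul, jconj_mul, cube_aC bC (by decide +kernel), jconj, mul_one, mul_inv_cancel]
    have hc := comm_of_odd_norm (odd_of_cube hcu) (Y.mem_A.1 (hN hbb).2)
    rw [hψa, jconj_mul, jconj_mul] at hc
    exact P.s_b (mul_left_cancel (mul_right_cancel hc)).symm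
  rw [Subgroup.eq_bot_iff_forall]
  by_contra hne
  push Not at hne
  obtain ⟨k, hk, hk1⟩ := hne
  -- the centre of the odd core meets it
  have hNZ : ∃ y ∈ N, y ∈ zW (φ aC) ∧ y ≠ 1 := by
    by_contra hno
    push Not at hno
    refine hk1 (hno k hk ⟨hQ hk, Subgroup.mem_centralizer_iff.2 fun y hy => ?_⟩)
    have h1 : y * k * y⁻¹ * k⁻¹ ∈ N := mul_mem (hn₁ _ (X.W_le_A hy) _ hk) (inv_mem hk)
    have h := hno _ h1 (Subgroup.zpowers_le.2 P.a_central_W (X.comm_mod_a hy (hQ hk)))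
    exact mul_inv_eq_iff_eq_mul.1 (mul_inv_eq_one.1 h)
  have hpow : ∀ {x y : G}, x * x * x = 1 → y ∈ Subgroup.zpowers x → y ∈ N → y ≠ 1 → x ∈ N := by
    intro x y hx hy hyN hy1
    rcases zpowers_of_cube hx hy with h | h | h
    · exact absurd h hy1
    · exact h ▸ hyN
    · exact (Subgroup.inv_mem_iff _).1 (h ▸ hyN)
  have hsq : φ aC ∈ N ∨ φ' bC ∈ N := by
    obtain ⟨y, hyN, hyZ, hy1⟩ := hNZ
    obtain ⟨K, hK⟩ : ∃ K, K = N ⊓ zW (φ aC) := ⟨_, rfl⟩
    have hKle : K ≤ zW (φ aC) := hK ▸ inf_le_right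
    have hKinv : ∀ g ∈ nA (φ aC), ∀ u ∈ K, g * u * g⁻¹ ∈ K := fun g hg u hu => by
      rw [hK] at hu ⊢
      exact ⟨hn₁ g hg u hu.1, X.A_norm_Z hg hu.2⟩
    have hc := X.card_T (K := K)
      (Odd.of_dvd_nat (odd_oddW _) (Subgroup.card_dvd_of_le (hKle.trans inf_le_left)))
      (hKinv z X.z_mem_A) (hKinv _ X.t_mem_A)
    by_contra hno
    push Not at hno
    have b1 : K ⊓ Subgroup.centralizer ({z} : Set G) = ⊥ := by
      rw [Subgroup.eq_bot_iff_forall]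
      intro u hu
      by_contra hu1
      exact hno.1 (hpow (cube_aC aC (by decide +kernel))
        (X.oddW_z_eq.le ⟨(hKle hu.1).1, hu.2⟩) (hK.le hu.1).1 hu1)
    have b2 : K ⊓ Subgroup.centralizer ({φ tau} : Set G) = ⊥ := by
      rw [Subgroup.eq_bot_iff_forall]
      intro u hu
      by_contra hu1
      exact hno.2 (hpow (cube_aC bC (by decide +kernel))
        (P.zt_part.le ⟨hKle hu.1, hu.2⟩) (hK.le hu.1).1 hu1)
    have b3 : K ⊓ Subgroup.centralizer ({z * φ tau} : Set G) = ⊥ := by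
      rw [Subgroup.eq_bot_iff_forall]
      intro u hu
      by_contra hu1
      have hqN : jconj φ (φ' bC) ∈ N := hpow
        (by rw [jconj_mul, jconj_mul, cube_aC bC (by decide +kernel), jconj, mul_one, mul_inv_cancel])
        (P.zzt_part.le ⟨hKle hu.1, hu.2⟩) (hK.le hu.1).1 hu1
      have h := hn₁ _ X.jB_mem_A _ hqN
      have e : φ jB * jconj φ (φ' bC) * (φ jB)⁻¹ = (φ' bC)⁻¹ := hqz.2
      rw [e] at h
      exact hno.2 ((Subgroup.inv_mem_iff _).1 h)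
    rw [b1, b2, b3, Subgroup.card_bot] at hc
    exact hy1 (Subgroup.mem_bot.1 (Subgroup.card_eq_one.1 hc ▸ (hK.ge ⟨hyN, hyZ⟩ : y ∈ K)))
  have haN : φ aC ∈ N := by
    rcases hsq with h | h
    · exact h
    have h' : ψ jB * φ' bC * (ψ jB)⁻¹ ∈ N := hn₂ _ Y.jB_mem_A _ h
    refine hpow (cube_aC aC (by decide +kernel)) (X.oddW_z_eq.le ⟨hQ h', mem_cent.2 ?_⟩) h'
      fun e => P.s_ne (conj_eq_one_iff.1 e)
    rw [← hY4, conj_mul, (X.mem_kt.1 hsk).2.2.1, ← conj_mul]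
  have hx : ψ jB * φ aC * (ψ jB)⁻¹ ∈ N := hn₂ _ Y.jB_mem_A _ haN
  have hxk : ψ jB * φ aC * (ψ jB)⁻¹ ∈ p9Sub φ' := by
    rw [← P.kt_eq]
    refine ⟨hQ hx, mem_cent.2 ?_⟩
    rw [← hY2, conj_mul, (X.z_comm_rep (x := aC)).symm, ← conj_mul]
  have hr : φ' aC ∈ N := by
    rcases P.frame.isA_unique hxk ((P.sib _).1.2 (isA_conj (isA_base φ) (ψ jB))) with h | h
    · exact h ▸ hx
    · exact (Subgroup.inv_mem_iff _).1 (h ▸ hx)
  have hp : jconj φ (φ' aC) ∈ oddW (ψ aC) := hQ₂ (hn₁ _ X.jB_mem_A _ hr)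
  have hp' := Y.oddW_z_eq.le ⟨hp, mem_cent.2 (X.mem_kzt.1 (X.jconj_kt hrk).1).2.2.1⟩
  rw [← hψb] at hp'
  exact Y.b_notin_a hp'

end Norm

/-- A group with the local data is `G_2(3)`. -/
theorem Cfg.equiv_g2 {z : G} {φ : Cm →* G} (X : Cfg z φ) (F : Type*) [Field F] [Fintype F]
    (hF : Fintype.card F = 3) : Nonempty (G ≃* ↥(Cfsg.Lie.G2 F)) := by
  obtain ⟨φ₁, X₁, -, -, φ', P⟩ := canNorm X
  obtain ⟨ψ, Y, h1, h2, h3, h4⟩ := P.exists_psi
  exact (P.hyp Y h1 h2 h3 h4).nonempty_equiv_g2 F hF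

end CfsgLib.Recog.G2TwoLocal
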