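import Cfsg.Agent.Lib.Recog.G2TwoLocal.Alpha

/-!
With weights of order three the fixed line is diagonal, both odd cores are abelian, and the odd core of the
centralizer of the diagonal element would contain too large a centralizer.
-/

set_option autoImplicit false
set_option maxRecDepth 100000
set_option linter.unusedSectionVars false
set_option linter.style.haveILetI false

namespace CfsgLib.Recog.G2TwoLocal

open Cm Subgroup
open scoped commutatorElement

universe u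

variable {G : Type u} [Group G] [Finite G]

theorem cube_aC {φ : Cm →* G} (c : Cm) (hc : c ∈ reps) : φ c * φ c * φ c = 1 := by
  rw [← map_mul, ← map_mul, (reps_cube c hc).1, map_one]

theorem sigma_comp_sigma (φ : Cm →* G) : (φ.comp sigma).comp sigma = φ :=
  MonoidHom.ext fun c => congrArg φ (sigma_sigma c)

namespace Cfg

variable {z : G} {φ : Cm →* G} (X : Cfg z φ)

include X

theorem b_notin_a : φ bC ∉ Subgroup.zpowers (φ aC) := by
  intro h
  rcases zpowers_of_cube (cube_aC aC (by decide +kernel)) h with h | h | h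
  · exact absurd (X.inj (h.trans (map_one φ).symm)) (by decide +kernel)
  · exact absurd (X.inj h) (by decide +kernel)
  · rw [← map_inv] at h
    exact absurd (X.inj h) (by decide +kernel)

theorem zt_inverted {y : G} (h : Wt z (z * φ tau) y) : φ tau * y * (φ tau)⁻¹ = y⁻¹ := by
  calc φ tau * y * (φ tau)⁻¹ = z⁻¹ * (z * φ tau * y * (φ tau)⁻¹) := by group
    _ = z⁻¹ * (y * (z * φ tau) * (φ tau)⁻¹) := by rw [h.2.1]
    _ = z⁻¹ * y * z := by group
    _ = y⁻¹ := by rw [inv_sq X.z_sq, ← h.2.2, inv_sq X.z_sq]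

theorem wt_zt_conv {y : G} (h : Wt z (z * φ tau) y) : Wt (φ tau) (φ tau * z) y :=
  ⟨h.1, by rw [X.t_comm]; exact h.2.1, X.zt_inverted h⟩

end Cfg

/-- The relation coming from a moved element and `τ`. -/
theorem tau_relation {t u a k d : G} (htu : t * u * t⁻¹ = u⁻¹) (hta : t * a * t⁻¹ = a⁻¹)
    (htk : t * k * t⁻¹ = k) (htd : t * d * t⁻¹ = d⁻¹) (hka : Commute k a) (hkd : Commute k d)
    (hda : Commute d a) (hud : Commute u d) (h : u * a * u⁻¹ = (d * k)⁻¹ * a) :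
    u * k * u⁻¹ = k * (d * d) := by
  have h1 : u⁻¹ * a⁻¹ * u = (d⁻¹ * k)⁻¹ * a⁻¹ := by
    calc u⁻¹ * a⁻¹ * u = (t * u * t⁻¹) * (t * a * t⁻¹) * (t * u * t⁻¹)⁻¹ := by rw [htu, hta, inv_inv]
      _ = t * (u * a * u⁻¹) * t⁻¹ := by group
      _ = t * ((d * k)⁻¹ * a) * t⁻¹ := by rw [h]
      _ = (t * k * t⁻¹)⁻¹ * (t * d * t⁻¹)⁻¹ * (t * a * t⁻¹) := by group
      _ = _ := by rw [htk, htd, hta, inv_inv, _root_.mul_inv_rev, inv_inv]
  have h2 : u⁻¹ * a * u = a * (d⁻¹ * k) := by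
    calc u⁻¹ * a * u = (u⁻¹ * a⁻¹ * u)⁻¹ := by group
      _ = _ := by rw [h1]; group
  have h3 : a = u * (a * (d⁻¹ * k)) * u⁻¹ := by rw [← h2]; group
  have h4 : u * (a * (d⁻¹ * k)) * u⁻¹ = (d * k)⁻¹ * a * (d⁻¹ * (u * k * u⁻¹)) := by
    rw [← h, ← conj_mul, ← conj_mul, ← conj_inv, mul_inv_eq_iff_eq_mul.2 hud.eq]
  rw [h4] at h3
  have h5 : u * k * u⁻¹ = d * (a⁻¹ * (d * k) * a) := by
    calc u * k * u⁻¹ = d * (a⁻¹ * (d * k) * ((d * k)⁻¹ * a * (d⁻¹ * (u * k * u⁻¹)))) := by group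
      _ = _ := by rw [← h3]
  rw [h5, show a⁻¹ * (d * k) * a = d * k by
    rw [mul_assoc, (hda.mul_left hka).eq, ← mul_assoc, inv_mul_cancel, one_mul], ← mul_assoc]
  exact ((hkd.mul_right hkd).eq).symm

/-- An element acting on the long element. -/
theorem Whole.move' {z : G} {φ : Cm →* G} {X : Cfg z φ} (P : Whole X) {v : G} (hv : v ∈ Cfg.kzt X) :
    ∃ d ∈ Subgroup.zpowers (φ aC), ∃ k ∈ Cfg.kt X,
      v * φ bC * v⁻¹ = (d * k)⁻¹ * φ bC ∧ (v ≠ 1 → k ≠ 1) ∧ v * k * v⁻¹ = k * (d * d) := by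
  obtain ⟨d, hd, k, hk, e⟩ := P.move hv
  have h1 : v * φ bC * v⁻¹ = (d * k)⁻¹ * φ bC := by rw [← e]; group
  refine ⟨d, hd, k, hk, h1, fun hv1 => P.move_ne hv hv1 hd e, ?_⟩
  obtain ⟨hva, hvw⟩ := X.mem_kzt.1 hv
  obtain ⟨hka, hkw⟩ := X.mem_kt.1 hk
  have hta := X.tau_rep (x := aC) (by decide +kernel)
  obtain ⟨i, rfl⟩ := Subgroup.mem_zpowers_iff.1 hd
  refine tau_relation (t := φ tau) (a := φ bC) (X.zt_inverted hvw) (X.tau_rep (x := bC) (by decide +kernel))
    (mul_inv_eq_iff_eq_mul.2 hkw.2.1.symm) (by rw [← conj_zpow, hta, inv_zpow]) (mem_cent.1 (P.le hk))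
    (Commute.zpow_right hka i) (Commute.zpow_left X.b_comm_a.symm i) (Commute.zpow_right hva i) h1

/-- Both odd cores are abelian. -/
theorem Whole.abelian {z : G} {φ : Cm →* G} {X : Cfg z φ} (P : Whole X)
    (h3 : Nat.card (Cfg.kt X) = 3) : ∀ u ∈ Cfg.kzt X.preSigma, ∀ k ∈ Cfg.kt X, u * k = k * u := by
  haveI : Fact (Nat.Prime 3) := ⟨Nat.prime_three⟩
  obtain ⟨hks, PS⟩ := P.kt_sigma
  intro u hu k₀ hk₀
  by_contra hne
  have hu1 : u ≠ 1 := fun h => hne (by rw [h, one_mul, mul_one])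
  obtain ⟨d, hd, k, hk, hua, hk1, hrel⟩ := PS.move' hu
  rw [hks] at hk
  rw [show (φ.comp sigma) aC = φ bC from congrArg φ sigma_facts.1] at hd
  rw [show (φ.comp sigma) bC = φ aC from congrArg φ sigma_facts.2.1] at hua
  have hkgen : ∀ y ∈ Cfg.kt X, y ∈ Subgroup.zpowers k := fun y hy => by
    have h := mem_zpowers_of_prime_card h3 (g := (⟨k, hk⟩ : Cfg.kt X)) (g' := ⟨y, hy⟩)
      (fun e => hk1 hu1 (congrArg Subtype.val e))
    obtain ⟨i, hi⟩ := Subgroup.mem_zpowers_iff.1 h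
    exact Subgroup.mem_zpowers_iff.2 ⟨i, by simpa using congrArg Subtype.val hi⟩
  have hkc : k * k * k = 1 := (X.mem_kt.1 hk).2.1
  have hd1 : d ≠ 1 := fun e => by
    rw [e, one_mul, mul_one] at hrel
    obtain ⟨i, rfl⟩ := Subgroup.mem_zpowers_iff.1 (hkgen k₀ hk₀)
    exact hne (Commute.zpow_right (mul_inv_eq_iff_eq_mul.1 hrel) i)
  obtain ⟨ε, hε, hdε⟩ : ∃ ε : ℤ, (ε = 1 ∨ ε = -1) ∧ d⁻¹ = φ bC ^ ε := by
    rcases zpowers_of_cube (cube_aC bC (by decide +kernel)) hd with h | h | h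
    · exact absurd h hd1
    · exact ⟨-1, Or.inr rfl, by rw [h, zpow_neg_one]⟩
    · exact ⟨1, Or.inl rfl, by rw [h, inv_inv, zpow_one]⟩
  obtain ⟨v, hv, hv1⟩ : ∃ v ∈ Cfg.kzt X, v ≠ 1 := by
    by_contra hc
    push Not at hc
    have h := X.card_kzt
    rw [Subgroup.card_eq_one.2 ((Subgroup.eq_bot_iff_forall _).2 hc), h3] at h
    omega
  obtain ⟨d', hd', k', hk', hvb, hk1', -⟩ := P.move' hv
  obtain ⟨l, hl, hkl⟩ : ∃ l : ℤ, (l = 1 ∨ l = -1) ∧ k' = k ^ l := by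
    rcases zpowers_of_cube hkc (hkgen k' hk') with h | h | h
    · exact absurd h (hk1' hv1)
    · exact ⟨1, Or.inl rfl, by rw [h, zpow_one]⟩
    · exact ⟨-1, Or.inr rfl, by rw [h, zpow_neg_one]⟩
  obtain ⟨hka, hkw⟩ := X.mem_kt.1 hk
  have hkb : Commute k (φ bC) := mem_cent.1 (P.le hk)
  have hSa : ∀ A ∈ Subgroup.zpowers (φ aC), Commute A k ∧ Commute A (φ bC) ∧ v * A * v⁻¹ = A := by
    intro A hA
    obtain ⟨i, rfl⟩ := Subgroup.mem_zpowers_iff.1 hA
    exact ⟨(Commute.zpow_right hka i).symm, Commute.zpow_left X.b_comm_a.symm i,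
      Cfg.a_central X hv.1 hA⟩
  have step : ∀ (A : G), A ∈ Subgroup.zpowers (φ aC) → ∀ m : ℤ,
      ∃ A' ∈ Subgroup.zpowers (φ aC),
        v * (A * (φ bC ^ ε * k ^ m)) * v⁻¹ = A' * (φ bC ^ ε * k ^ (m - l * ε)) := by
    intro A hA m
    obtain ⟨d'', hd'', e2⟩ : ∃ e ∈ Subgroup.zpowers (φ aC), v * k * v⁻¹ = e * k :=
      ⟨v * k * v⁻¹ * k⁻¹, X.comm_mod_a hv.1 hk.1, by group⟩
    have e1 : v * φ bC * v⁻¹ = d'⁻¹ * (φ bC * k ^ (-l)) := by
      rw [hvb, hkl, _root_.mul_inv_rev, zpow_neg]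
      have c1 := ((hSa _ hd').1.zpow_right l).inv_left.inv_right
      rw [← c1.eq, mul_assoc, ((hkb.zpow_left l).inv_left).eq]
    refine ⟨A * (d'⁻¹ ^ ε * d'' ^ m), mul_mem hA (mul_mem (zpow_mem (inv_mem hd') ε) (zpow_mem hd'' m)), ?_⟩
    rw [← conj_mul, ← conj_mul, (hSa A hA).2.2, ← conj_zpow, ← conj_zpow, e1, e2,
      ((hSa _ (inv_mem hd')).2.1.mul_right ((hSa _ (inv_mem hd')).1.zpow_right (-l))).mul_zpow,
      (hkb.symm.zpow_right (-l)).mul_zpow, (hSa _ hd'').1.mul_zpow, ← zpow_mul,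
      show m - l * ε = -l * ε + m by ring, zpow_add]
    have c3 : Commute (φ bC ^ ε * k ^ (-l * ε)) (d'' ^ m) :=
      ((((hSa _ (zpow_mem hd'' m)).2.1).zpow_right ε).mul_right
        (((hSa _ (zpow_mem hd'' m)).1).zpow_right (-l * ε))).symm
    calc A * (d'⁻¹ ^ ε * (φ bC ^ ε * k ^ (-l * ε)) * (d'' ^ m * k ^ m))
        = A * (d'⁻¹ ^ ε * ((φ bC ^ ε * k ^ (-l * ε)) * d'' ^ m) * k ^ m) := by
          simp only [mul_assoc]
      _ = _ := by rw [c3.eq]; simp only [mul_assoc]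
  have hA0 : IsA φ (φ aC * (φ bC ^ ε * k ^ (-1 : ℤ))) := by
    have e : (d * k)⁻¹ * φ aC = φ aC * (φ bC ^ ε * k ^ (-1 : ℤ)) := by
      rw [_root_.mul_inv_rev, hdε, zpow_neg_one]
      have c1 : Commute (k⁻¹ * φ bC ^ ε) (φ aC) :=
        ((show Commute k (φ aC) from hka).inv_left).mul_left (Commute.zpow_left X.b_comm_a ε)
      rw [c1.eq, (hkb.inv_left.zpow_right ε).eq]
    rw [← e, ← hua]
    exact isA_conj (isA_base φ) u
  obtain ⟨A1, hA1, s1⟩ := step (φ aC) (Subgroup.mem_zpowers _) (-1)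
  obtain ⟨A2, hA2, s2⟩ := step A1 hA1 (-1 - l * ε)
  have i1 : IsA φ (A1 * (φ bC ^ ε * k ^ (-1 - l * ε))) := s1 ▸ isA_conj hA0 v
  have i2 : IsA φ (A2 * (φ bC ^ ε * k ^ (-1 - l * ε - l * ε))) := s2 ▸ isA_conj i1 v
  have k3 : k ^ (-3 : ℤ) = 1 := by
    rw [zpow_neg, show (3 : ℤ) = ((3 : ℕ) : ℤ) by norm_num, zpow_natCast, pow_succ, pow_two, hkc, inv_one]
  obtain ⟨A, hA, hAB⟩ : ∃ A ∈ Subgroup.zpowers (φ aC), IsA φ (A * φ bC ^ ε) := by
    rcases hl with rfl | rfl <;> rcases hε with rfl | rfl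
    · exact ⟨A2, hA2, by norm_num [k3] at i2 ⊢; exact i2⟩
    · exact ⟨A1, hA1, by norm_num at i1 ⊢; exact i1⟩
    · exact ⟨A1, hA1, by norm_num at i1 ⊢; exact i1⟩
    · exact ⟨A2, hA2, by norm_num [k3] at i2 ⊢; exact i2⟩
  have hbε : φ bC ^ ε ∈ Subgroup.zpowers (φ aC) := by
    have hmem : A * φ bC ^ ε ∈ p9Sub φ := mul_mem
      (Subgroup.zpowers_le.2 (aC_mem_p9Sub φ).1 hA) (zpow_mem (aC_mem_p9Sub φ).2 ε)
    rw [← inv_mul_cancel_left A (φ bC ^ ε)]
    rcases X.isA_unique hmem hAB with h | h <;> rw [h]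
    · exact mul_mem (inv_mem hA) (Subgroup.mem_zpowers _)
    · exact mul_mem (inv_mem hA) (inv_mem (Subgroup.mem_zpowers _))
  refine X.b_notin_a ?_
  rcases hε with rfl | rfl
  · rwa [zpow_one] at hbε
  · rw [zpow_neg_one] at hbε; exact Subgroup.inv_mem_iff _ |>.1 hbε

/-- The commutators are powers of the diagonal element. -/
theorem Whole.comm_kt {z : G} {φ : Cm →* G} {X : Cfg z φ} (P : Whole X)
    (h3 : Nat.card (Cfg.kt X) = 3) {v : G} (hv : v ∈ Cfg.kzt X) :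
    (∀ k ∈ Cfg.kt X, v * k = k * v) ∧ v * φ bC * v⁻¹ * (φ bC)⁻¹ ∈ Cfg.kt X := by
  obtain ⟨hks, PS⟩ := P.kt_sigma
  have hab : ∀ k ∈ Cfg.kt X, v * k = k * v := by
    intro k hk
    refine PS.abelian (by rw [hks, h3]) v ?_ k (hks ▸ hk)
    show v ∈ oddW (((φ.comp sigma).comp sigma) aC) ⊓
      Subgroup.centralizer ({z * ((φ.comp sigma).comp sigma) tau} : Set G)
    rw [sigma_comp_sigma]; exact hv
  refine ⟨hab, ?_⟩
  obtain ⟨d, hd, k, hk, hvb, -, hrel⟩ := P.move' hv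
  rw [mul_inv_eq_iff_eq_mul.2 (hab k hk), left_eq_mul] at hrel
  have hd1 : d = 1 := by
    rcases zpowers_of_cube (cube_aC aC (by decide +kernel)) hd with h | h | h
    · exact h
    · rw [h] at hrel ⊢
      rw [← cube_aC (φ := φ) aC (by decide +kernel), hrel, one_mul]
    · rw [h, ← _root_.mul_inv_rev, inv_eq_one] at hrel
      rw [h, inv_eq_one, ← cube_aC (φ := φ) aC (by decide +kernel), hrel, one_mul]
  rw [hvb, hd1, one_mul, mul_inv_cancel_right]
  exact inv_mem hk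

theorem eq_one_of_inv_cube {H : Type*} [Group H] {w : H} (h : w * w * w = 1) (he : w = w⁻¹) : w = 1 := by
  have hww : w * w = 1 := by nth_rewrite 2 [he]; exact mul_inv_cancel w
  rw [hww, one_mul] at h
  exact h

theorem closure_comm {H : Type*} [Group H] {S : Set H} (h : ∀ s ∈ S, ∀ t ∈ S, s * t = t * s) :
    ∀ x ∈ Subgroup.closure S, ∀ y ∈ Subgroup.closure S, x * y = y * x := by
  have h1 : Subgroup.closure S ≤ Subgroup.centralizer S :=
    (Subgroup.closure_le _).2 fun s hs => Subgroup.mem_centralizer_iff.2 fun t ht => h t ht s hs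
  intro x hx y hy
  have h2 : Subgroup.closure S ≤ Subgroup.centralizer ({x} : Set H) :=
    (Subgroup.closure_le _).2 fun s hs => mem_cent.2 (Subgroup.mem_centralizer_iff.1 (h1 hx) s hs)
  exact (mem_cent.1 (h2 hy)).symm

/-- Commutators and cubes in a group generated modulo a central cyclic subgroup by commuting cubes. -/
theorem closure_mod {D : Subgroup G} {S : Set G} (hD : ∀ s ∈ S, ∀ d ∈ D, s * d = d * s)
    (hS : ∀ s ∈ S, ∀ t ∈ S, s * t * s⁻¹ * t⁻¹ ∈ D) (h3 : ∀ s ∈ S, s ^ 3 ∈ D) :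
    (∀ y ∈ Subgroup.closure S, ∀ d ∈ D, y * d * y⁻¹ = d) ∧
      ∀ y ∈ Subgroup.closure S, y ^ 3 ∈ D ∧
        ∀ y' ∈ Subgroup.closure S, y * y' * y⁻¹ * y'⁻¹ ∈ D := by
  have hC : Subgroup.closure S ≤ Subgroup.centralizer (D : Set G) :=
    (Subgroup.closure_le _).2 fun s hs => Subgroup.mem_centralizer_iff.2 fun d hd => (hD s hs d hd).symm
  have hc : ∀ y ∈ Subgroup.closure S, ∀ d ∈ D, y * d * y⁻¹ = d := fun y hy d hd => by
    rw [← Subgroup.mem_centralizer_iff.1 (hC hy) d hd, mul_inv_cancel_right]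
  refine ⟨hc, ?_⟩
  obtain ⟨C, hCdef⟩ : ∃ C, C = Subgroup.normalizer (D : Set G) := ⟨_, rfl⟩
  have hN : Subgroup.closure S ≤ C := by
    intro y hy
    rw [hCdef]
    exact mem_normalizer_fintype fun d hd => by rw [hc y hy d hd]; exact hd
  subst hCdef
  obtain ⟨π, hπ⟩ : ∃ π, π = QuotientGroup.mk' (D.subgroupOf (Subgroup.normalizer (D : Set G))) := ⟨_, rfl⟩
  have hcl : ((Subgroup.closure S).subgroupOf (Subgroup.normalizer (D : Set G))).map π ≤
      Subgroup.closure (π '' {y | (y : G) ∈ S}) := by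
    rw [← MonoidHom.map_closure]
    refine Subgroup.map_mono fun y hy => ?_
    rw [← Subgroup.mem_map_iff_mem (Subgroup.subtype_injective (Subgroup.normalizer (D : Set G))),
      MonoidHom.map_closure]
    refine Subgroup.closure_mono ?_ (Subgroup.mem_subgroupOf.1 hy)
    intro s hs
    exact ⟨⟨s, hN (Subgroup.subset_closure hs)⟩, hs, rfl⟩
  have one_iff : ∀ y, π y = 1 ↔ (y : G) ∈ D := fun y => by
    rw [hπ]; exact (QuotientGroup.eq_one_iff y).trans Subgroup.mem_subgroupOf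
  have hcomm := closure_comm (S := π '' {y | (y : G) ∈ S}) (by
    rintro _ ⟨s, hs, rfl⟩ _ ⟨t, ht, rfl⟩
    refine commutatorElement_eq_one_iff_commute.1 ?_
    rw [← map_commutatorElement]
    exact (one_iff _).2 (hS s hs t ht))
  intro y hy
  have my : π ⟨y, hN hy⟩ ∈ Subgroup.closure (π '' {y | (y : G) ∈ S}) :=
    hcl ⟨_, Subgroup.mem_subgroupOf.2 hy, rfl⟩
  refine ⟨?_, fun y' hy' => ?_⟩
  · have h : π ⟨y, hN hy⟩ ^ 3 = 1 := by
      refine Subgroup.closure_induction (p := fun x _ => x ^ 3 = 1) ?_ (one_pow 3) ?_ ?_ my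
      · rintro _ ⟨s, hs, rfl⟩
        rw [← map_pow]
        exact (one_iff _).2 (by simpa using h3 _ hs)
      · intro x x' hx hx' e e'
        rw [(show Commute x x' from hcomm x hx x' hx').mul_pow, e, e', one_mul]
      · intro x _ e
        rw [inv_pow, e, inv_one]
    rw [← map_pow] at h
    simpa using (one_iff _).1 h
  · have h : π ⁅(⟨y, hN hy⟩ : Subgroup.normalizer (D : Set G)), ⟨y', hN hy'⟩⁆ = 1 := by
      rw [map_commutatorElement]
      exact commutatorElement_eq_one_iff_commute.2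
        (hcomm _ my _ (hcl ⟨_, Subgroup.mem_subgroupOf.2 hy', rfl⟩))
    exact (one_iff _).1 h

theorem Whole.false_three {z : G} {φ : Cm →* G} {X : Cfg z φ} (P : Whole X)
    (h3 : Nat.card (Cfg.kt X) = 3) : False := by
  haveI : Fact (Nat.Prime 3) := ⟨Nat.prime_three⟩
  rcases X.wt_group' (Cfg.kt X) (fun _ hy => (X.mem_kt.1 hy).2) with
    h | ⟨φ', Y, hY, hS, x, hx, hk⟩ | ⟨φ', Y, -, -, h⟩
  · rw [h, Subgroup.card_bot] at h3; omega
  swap
  · rw [h, Y.card_p9] at h3; omega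
  obtain ⟨hks, PS⟩ := P.kt_sigma
  obtain ⟨w, hw⟩ : ∃ w, w = φ' x := ⟨_, rfl⟩
  have hwk : w ∈ Cfg.kt X := by rw [hk, hw]; exact Subgroup.mem_zpowers _
  have hwa : w * φ aC = φ aC * w := (X.mem_kt.1 hwk).1
  have hwb : w * φ bC = φ bC * w := mem_cent.1 (P.le hwk)
  have hwt := (X.mem_kt.1 hwk).2
  have hn' : Nat.card (Cfg.kt Y) = 3 := (X.card_kt_eq Y (X.isA_frame hS)).trans h3
  have hn'' : Nat.card (Cfg.kt Y.preSigma) = 3 := by
    rw [X.preSigma.card_kt_eq Y.preSigma ?_, hks, h3]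
    rw [(isA_sigma φ _).1, show (φ'.comp sigma) aC = φ' bC from congrArg φ' sigma_facts.1]
    exact (hS _).2.1 (isB_base φ')
  have h9 : ∀ {ψ : Cm →* G} (Y' : Cfg (φ tau) ψ), ψ tau = z → ψ aC = w →
      p9Sub φ ≤ Cfg.kt Y' := by
    intro ψ Y' ht ha
    rintro _ ⟨c, hc, rfl⟩
    refine Y'.mem_kt.2 ⟨?_, ?_⟩
    · obtain ⟨i, j, hij⟩ := p9_eq c hc
      rw [ha, hij, map_mul, map_pow, map_pow]
      exact ((Commute.pow_left hwa.symm i).mul_left (Commute.pow_left hwb.symm j))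
    · rw [ht]; exact X.wt_z_iff.2 ⟨c, (p9_cube c hc).2.2.2, rfl⟩
  have hxd : x ∈ [cC, dC] := by
    simp only [reps, List.mem_cons, List.not_mem_nil, or_false] at hx ⊢
    rcases hx with rfl | rfl | h | h
    · have := Subgroup.card_le_of_le (h9 Y hY hw.symm)
      rw [X.card_p9, hn'] at this; omega
    · have := Subgroup.card_le_of_le (h9 Y.preSigma ((congrArg φ' sigma_facts.2.2.1).trans hY)
        ((congrArg φ' sigma_facts.1).trans hw.symm))
      rw [X.card_p9, hn''] at this; omega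
    · exact Or.inl h
    · exact Or.inr h
  have hxr : x ∈ reps := hx
  obtain ⟨hxa, hxb⟩ : x ≠ aC ∧ x ≠ bC := by
    simp only [List.mem_cons, List.not_mem_nil, or_false] at hxd
    rcases hxd with rfl | rfl <;> decide +kernel
  obtain ⟨v, hv, hv1⟩ : ∃ v ∈ Cfg.kzt X, v ≠ 1 := by
    by_contra hc
    push Not at hc
    have h := X.card_kzt
    rw [Subgroup.card_eq_one.2 ((Subgroup.eq_bot_iff_forall _).2 hc), h3] at h
    omega
  obtain ⟨u, hu, hu1⟩ : ∃ u ∈ Cfg.kzt X.preSigma, u ≠ 1 := by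
    by_contra hc
    push Not at hc
    have h := X.preSigma.card_kzt
    rw [Subgroup.card_eq_one.2 ((Subgroup.eq_bot_iff_forall _).2 hc), hks, h3] at h
    omega
  obtain ⟨hvk, hvb⟩ := P.comm_kt h3 hv
  obtain ⟨huk, hua⟩ := PS.comm_kt (by rw [hks, h3]) hu
  rw [hks] at hua huk
  rw [show (φ.comp sigma) bC = φ aC from congrArg φ sigma_facts.2.1] at hua
  obtain ⟨hva, hvw⟩ := X.mem_kzt.1 hv
  obtain ⟨hub, huw⟩ := X.preSigma.mem_kzt.1 hu
  rw [show (φ.comp sigma) aC = φ bC from congrArg φ sigma_facts.1] at hub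
  rw [show (φ.comp sigma) tau = φ tau from congrArg φ sigma_facts.2.2.1] at huw
  have hzpw : Subgroup.zpowers w = Cfg.kt X := by rw [hk, hw]
  obtain ⟨U, hU⟩ : ∃ U, U = Subgroup.closure ({φ aC, φ bC, w, u, v} : Set G) := ⟨_, rfl⟩
  have g3 : ∀ s ∈ ({φ aC, φ bC, w, u, v} : Set G), s * s * s = 1 ∧ s * w = w * s := by
    rintro s (rfl | rfl | rfl | rfl | rfl)
    · exact ⟨cube_aC aC (by decide +kernel), hwa.symm⟩
    · exact ⟨cube_aC bC (by decide +kernel), hwb.symm⟩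
    · exact ⟨hwt.1, rfl⟩
    · exact ⟨huw.1, huk w hwk⟩
    · exact ⟨hvw.1, hvk w hwk⟩
  have uv : u * v = v * u := by
    obtain ⟨ψ, F, hF⟩ : ∃ ψ, Cfg (φ (alpha tau)) ψ ∧ ψ tau = z := by
      obtain ⟨ψ, F, h, -⟩ := X.preAlpha.exists_frame_tau
      exact ⟨ψ, F, h⟩
    have et : φ (alpha tau) = z * φ tau := by rw [alpha_facts.2.2.1, map_mul, X.hz]
    have hv1' : v ∈ oddW (φ aC) := hv.1
    obtain ⟨K, hK⟩ : ∃ K : Subgroup G, K = oddW (φ' x) ⊓ Subgroup.centralizer ({z * φ tau} : Set G) := ⟨_, rfl⟩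
    have hKmem : ∀ {s : G}, s * w = w * s → Wt z (z * φ tau) s → s ∈ K := fun {s} h1 h2 => by
      rw [hK]
      exact ⟨Y.wt_mem hxr (hw ▸ h1) (X.wt_zt_conv h2), mem_cent.2 h2.2.1⟩
    have hKwt : ∀ s ∈ K, Wt z (z * φ tau) s := by
      intro s hs
      rw [hK] at hs
      have h := Y.oddW_wt_t hxr (t := φ tau * φ' tau) (Or.inr rfl) hs.1 (by
        rw [hY, X.t_comm]; exact mem_cent.1 hs.2)
      refine ⟨h.1, mem_cent.1 hs.2, ?_⟩
      have ht := h.2.2
      have hc := mem_cent.1 hs.2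
      calc z * s * z⁻¹ = (z * φ tau) * ((φ tau)⁻¹ * s * φ tau) * (z * φ tau)⁻¹ := by group
        _ = (z * φ tau) * s⁻¹ * (z * φ tau)⁻¹ := by
          rw [show (φ tau)⁻¹ * s * φ tau = φ tau * s * (φ tau)⁻¹ by rw [Cfg.inv_sq X.t_sq], ht]
        _ = s⁻¹ := mul_inv_eq_iff_eq_mul.2 (Commute.inv_left hc).symm
    have hmu := hKmem (huk w hwk) huw
    have hmv := hKmem (hvk w hwk) hvw
    have hKwt' : ∀ s ∈ K, Wt z ((φ.comp alpha) tau) s := fun s hs => by
      rw [MonoidHom.comp_apply, et]; exact hKwt s hs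
    rcases X.preAlpha.wt_group' K hKwt' with h | ⟨ψ', -, -, -, y, -, h⟩ | ⟨ψ', -, -, -, h⟩
    · exact absurd (Subgroup.mem_bot.1 (h ▸ hmu)) hu1
    · obtain ⟨i, hi⟩ := Subgroup.mem_zpowers_iff.1 (h ▸ hmu)
      obtain ⟨j, hj⟩ := Subgroup.mem_zpowers_iff.1 (h ▸ hmv)
      rw [← hi, ← hj, ← zpow_add, ← zpow_add, add_comm]
    · exact p9Sub_comm (h ▸ hmu) (h ▸ hmv)
  have hDw : ∀ {c : G}, c = 1 → c ∈ Subgroup.zpowers w := fun h => h ▸ one_mem _
  have cpair : ∀ {s t : G}, s * t = t * s → s * t * s⁻¹ * t⁻¹ ∈ Subgroup.zpowers w := fun {s t} h =>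
    hDw (by rw [h]; group)
  have cswap : ∀ {s t : G}, s * t * s⁻¹ * t⁻¹ ∈ Subgroup.zpowers w →
      t * s * t⁻¹ * s⁻¹ ∈ Subgroup.zpowers w := fun {s t} h => by
    rw [show t * s * t⁻¹ * s⁻¹ = (s * t * s⁻¹ * t⁻¹)⁻¹ by group]; exact inv_mem h
  have aa : φ aC * φ bC = φ bC * φ aC := X.b_comm_a.symm
  have ua' : u * φ aC * u⁻¹ * (φ aC)⁻¹ ∈ Subgroup.zpowers w := hzpw ▸ hua
  have vb' : v * φ bC * v⁻¹ * (φ bC)⁻¹ ∈ Subgroup.zpowers w := hzpw ▸ hvb
  obtain ⟨hcen, hmod⟩ := closure_mod (D := Subgroup.zpowers w) (S := {φ aC, φ bC, w, u, v})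
    (fun s hs d hd => by
      obtain ⟨i, rfl⟩ := Subgroup.mem_zpowers_iff.1 hd
      exact Commute.zpow_right (g3 s hs).2 i)
    (by
      have hw' : ∀ s ∈ ({φ aC, φ bC, w, u, v} : Set G), s * w * s⁻¹ * w⁻¹ ∈ Subgroup.zpowers w :=
        fun s hs => cpair (g3 s hs).2
      rintro s hs t (rfl | rfl | rfl | rfl | rfl)
      · rcases hs with rfl | rfl | rfl | rfl | rfl
        exacts [cpair rfl, cpair aa.symm, cpair hwa, ua', cpair hva]
      · rcases hs with rfl | rfl | rfl | rfl | rfl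
        exacts [cpair aa, cpair rfl, cpair hwb, cpair hub, vb']
      · exact hw' s hs
      · rcases hs with rfl | rfl | rfl | rfl | rfl
        exacts [cswap ua', cpair hub.symm, cswap (hw' _ (by simp)), cpair rfl, cpair uv.symm]
      · rcases hs with rfl | rfl | rfl | rfl | rfl
        exacts [cpair hva.symm, cswap vb', cswap (hw' _ (by simp)), cpair uv, cpair rfl])
    (fun s hs => hDw (by rw [pow_succ, pow_two]; exact (g3 s hs).1))
  rw [← hU] at hcen hmod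
  have sub : ∀ s ∈ ({φ aC, φ bC, w, u, v} : Set G), s ∈ U := fun s hs => hU ▸ Subgroup.subset_closure hs
  have hUW : U ≤ oddW (φ' x) := by
    rw [hU, Subgroup.closure_le]
    have m : ∀ {s : G}, s * w = w * s → φ tau * s * (φ tau)⁻¹ = s⁻¹ → s * s * s = 1 →
        s ∈ oddW (φ' x) := fun {s} h1 h2 h3 =>
      Y.inverted_mem hxr (hw ▸ h1) h2 (n := 3) (by decide) (by rw [pow_succ, pow_two]; exact h3)
    rintro s (rfl | rfl | rfl | rfl | rfl)
    · exact m hwa.symm (X.tau_rep (by decide +kernel)) (cube_aC aC (by decide +kernel))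
    · exact m hwb.symm (X.tau_rep (by decide +kernel)) (cube_aC bC (by decide +kernel))
    · exact hw ▸ Y.self_mem_oddW hxr
    · exact m (huk w hwk) (X.zt_inverted huw) huw.1
    · exact m (hvk w hwk) (X.zt_inverted hvw) hvw.1
  have hUT : ∀ g : G, (∀ s ∈ ({φ aC, φ bC, w, u, v} : Set G), g * s * g⁻¹ ∈ U) →
      ∀ y ∈ U, g * y * g⁻¹ ∈ U := by
    intro g h y hy
    have hle : U ≤ U.comap (MulAut.conj g).toMonoidHom := by
      conv_lhs => rw [hU]
      exact (Subgroup.closure_le _).2 h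
    exact hle hy
  have zinv : ∀ y ∈ U, z * y * z⁻¹ ∈ U := hUT z (by
    rintro s hs
    have e : z * s * z⁻¹ = s ∨ z * s * z⁻¹ = s⁻¹ := by
      rcases hs with rfl | rfl | rfl | rfl | rfl
      · exact Or.inl (mul_inv_eq_iff_eq_mul.2 X.z_comm_rep)
      · exact Or.inl (mul_inv_eq_iff_eq_mul.2 X.z_comm_rep)
      · exact Or.inr hwt.2.2
      · exact Or.inr huw.2.2
      · exact Or.inr hvw.2.2
    rcases e with e | e <;> rw [e]
    exacts [sub s hs, inv_mem (sub s hs)])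
  have tinv : ∀ y ∈ U, φ tau * y * (φ tau)⁻¹ ∈ U := hUT (φ tau) (by
    rintro s hs
    have e : φ tau * s * (φ tau)⁻¹ = s ∨ φ tau * s * (φ tau)⁻¹ = s⁻¹ := by
      rcases hs with rfl | rfl | rfl | rfl | rfl
      · exact Or.inr (X.tau_rep (by decide +kernel))
      · exact Or.inr (X.tau_rep (by decide +kernel))
      · exact Or.inl (mul_inv_eq_iff_eq_mul.2 hwt.2.1.symm)
      · exact Or.inr (X.zt_inverted huw)
      · exact Or.inr (X.zt_inverted hvw)
    rcases e with e | e <;> rw [e]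
    exacts [sub s hs, inv_mem (sub s hs)])
  -- the weights of `U`
  have hUtau : U ⊓ Subgroup.centralizer ({φ tau} : Set G) = Subgroup.zpowers w := by
    refine le_antisymm (fun y hy => ?_)
      (Subgroup.zpowers_le.2 ⟨sub w (by simp), mem_cent.2 hwt.2.1⟩)
    obtain ⟨c, hc, rfl⟩ := Y.oddW_zpart hxr (hUW hy.1) (mem_cent.1 hy.2)
    have hc9 : c ∈ p9 := by
      rw [zpart, if_neg hxa, if_neg hxb] at hc
      exact hc
    have hwtc : Wt z (φ tau) (φ' c) := (X.sib_z Y (Or.inl hY)).2 ⟨c, (p9_cube c hc9).2.2.2, rfl⟩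
    have hd := ((hmod _ hy.1).2 _ (sub (φ aC) (by simp)))
    obtain ⟨q, hq⟩ : ∃ q, q = φ' c * φ aC * (φ' c)⁻¹ * (φ aC)⁻¹ := ⟨_, rfl⟩
    rw [← hq] at hd
    have h1 : φ' c * φ aC * (φ' c)⁻¹ = q * φ aC := by rw [hq, inv_mul_cancel_right]
    have htc : φ tau * φ' c * (φ tau)⁻¹ = φ' c := mul_inv_eq_iff_eq_mul.2 hwtc.2.1.symm
    have hta : φ tau * φ aC * (φ tau)⁻¹ = (φ aC)⁻¹ := X.tau_rep (by decide +kernel)
    have htq : φ tau * q * (φ tau)⁻¹ = q := by
      obtain ⟨i, hi⟩ := Subgroup.mem_zpowers_iff.1 hd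
      rw [← hi, ← conj_zpow, mul_inv_eq_iff_eq_mul.2 hwt.2.1.symm]
    have hqa : Commute q (φ aC) := by
      obtain ⟨i, hi⟩ := Subgroup.mem_zpowers_iff.1 hd
      rw [← hi]; exact Commute.zpow_left hwa i
    have h2 := congrArg (fun g => φ tau * g * (φ tau)⁻¹) h1
    simp only [← conj_mul, ← conj_inv, htc, hta, htq] at h2
    have h3' : φ' c * φ aC * (φ' c)⁻¹ = q⁻¹ * φ aC := by
      calc φ' c * φ aC * (φ' c)⁻¹ = (φ' c * (φ aC)⁻¹ * (φ' c)⁻¹)⁻¹ := by group
        _ = _ := by rw [← conj_inv, h2, _root_.mul_inv_rev, inv_inv, hqa.inv_left.symm.eq]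
    have hqq : q = q⁻¹ := mul_right_cancel (h1.symm.trans h3')
    have hq1 : q = 1 := by
      rcases zpowers_of_cube hwt.1 hd with h | h | h
      · exact h
      · rw [h] at hqq ⊢; exact eq_one_of_inv_cube hwt.1 hqq
      · rw [h, inv_inv] at hqq; rw [h, inv_eq_one]; exact eq_one_of_inv_cube hwt.1 hqq.symm
    rw [hq1, one_mul] at h1
    rw [hzpw]
    exact X.mem_kt.2 ⟨mul_inv_eq_iff_eq_mul.1 h1, hwtc⟩
  have hUz : Nat.card ↥(U ⊓ Subgroup.centralizer ({z} : Set G)) = 9 := by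
    have hup := Y.card_wt (U ⊓ Subgroup.centralizer ({z} : Set G)) ?_
    · have hlo : p9Sub φ ≤ U ⊓ Subgroup.centralizer ({z} : Set G) := by
        rintro _ ⟨c, hc, rfl⟩
        refine ⟨?_, mem_cent.2 ((X.range _).2 ⟨c, rfl⟩)⟩
        obtain ⟨i, j, hij⟩ := p9_eq c hc
        rw [hij, map_mul, map_pow, map_pow]
        exact mul_mem (pow_mem (sub _ (by simp)) i) (pow_mem (sub _ (by simp)) j)
      have := Subgroup.card_le_of_le hlo
      rw [X.card_p9] at this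
      omega
    intro y hy
    exact Y.oddW_wt_t hxr (Or.inl rfl) (hUW hy.1) (by rw [hY]; exact mem_cent.1 hy.2)
  have hUzt : Nat.card ↥(U ⊓ Subgroup.centralizer ({z * φ tau} : Set G)) = 9 := by
    have et : (φ'.comp alpha) tau = z * φ tau := by
      rw [MonoidHom.comp_apply, alpha_facts.2.2.1, map_mul, Y.hz, hY, X.t_comm]
    have hup := Y.preAlpha.card_wt (U ⊓ Subgroup.centralizer ({z * φ tau} : Set G)) ?_
    · have hu' : u ∈ U ⊓ Subgroup.centralizer ({z * φ tau} : Set G) := ⟨sub _ (by simp), mem_cent.2 huw.2.1⟩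
      have hv' : v ∈ U ⊓ Subgroup.centralizer ({z * φ tau} : Set G) := ⟨sub _ (by simp), mem_cent.2 hvw.2.1⟩
      rcases hup with h | h | h
      · exact absurd (Subgroup.mem_bot.1 (Subgroup.card_eq_one.1 h ▸ hu')) hu1
      · exfalso
        have hm := mem_zpowers_of_prime_card h (g := (⟨v, hv'⟩ : ↥(U ⊓ Subgroup.centralizer ({z * φ tau} : Set G))))
          (g' := ⟨u, hu'⟩) (fun e => hv1 (congrArg Subtype.val e))
        obtain ⟨i, hi⟩ := Subgroup.mem_zpowers_iff.1 hm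
        have hi' : v ^ i = u := by simpa using congrArg Subtype.val hi
        have : u ∈ Cfg.kzt X ⊓ Subgroup.centralizer ({φ bC} : Set G) :=
          ⟨hi' ▸ zpow_mem hv i, mem_cent.2 hub⟩
        rw [P.bot] at this
        exact hu1 (Subgroup.mem_bot.1 this)
      · exact h
    intro y hy
    rw [et]
    exact Y.oddW_wt_t hxr (Or.inr (by rw [hY, X.t_comm])) (hUW hy.1) (mem_cent.1 hy.2)
  have hUodd : Odd (Nat.card U) :=
    Odd.of_dvd_nat (odd_oddW _) (Subgroup.card_dvd_of_le hUW)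
  have hUcard : Nat.card U = 243 := by
    rw [X.card_T hUodd zinv tinv, hUz, hUzt, hUtau, hzpw, h3]
  -- the other element of the weight group normalises `U`
  obtain ⟨p, hp⟩ : ∃ p, p = φ' aC := ⟨_, rfl⟩
  have hpw : p * w = w * p := by
    rw [hp, hw, ← map_mul, ← map_mul]
    simp only [List.mem_cons, List.not_mem_nil, or_false] at hxd
    rcases hxd with rfl | rfl <;> congr 1 <;> decide +kernel
  have hpn : ∀ y ∈ U, p * y * p⁻¹ ∈ U := by
    have hW := Y.card_oddW hxr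
    have hpwt : Wt z (φ tau) p := hp ▸ (X.sib_z Y (Or.inl hY)).2 ⟨aC, by decide +kernel, rfl⟩
    have b1 : Nat.card ↥(oddW (φ' x) ⊓ Subgroup.centralizer ({φ tau} : Set G)) ∣ 9 := by
      refine (Subgroup.card_dvd_of_le (fun y hy => ?_)).trans (dvd_of_eq Y.card_p9)
      obtain ⟨c, hc, rfl⟩ := Y.oddW_zpart hxr hy.1 (mem_cent.1 hy.2)
      rw [zpart, if_neg hxa, if_neg hxb] at hc
      exact ⟨c, hc, rfl⟩
    have b2 := Y.card_wt (oddW (φ' x) ⊓ Subgroup.centralizer ({φ' tau} : Set G))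
      fun y hy => Y.oddW_wt_t hxr (Or.inl rfl) hy.1 (mem_cent.1 hy.2)
    have b3 := Y.preAlpha.card_wt
      (oddW (φ' x) ⊓ Subgroup.centralizer ({φ tau * φ' tau} : Set G)) fun y hy => by
        rw [MonoidHom.comp_apply, alpha_facts.2.2.1, map_mul, Y.hz]
        exact Y.oddW_wt_t hxr (Or.inr rfl) hy.1 (mem_cent.1 hy.2)
    obtain ⟨e, he9, hcase⟩ : ∃ e, e = Nat.card (oddW (φ' x)) ∧ (e = 243 ∨ e = 729) := by
      refine ⟨_, rfl, ?_⟩
      have h243 : 243 ∣ Nat.card (oddW (φ' x)) := hUcard ▸ Subgroup.card_dvd_of_le hUW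
      have hle := Nat.le_of_dvd Nat.card_pos h243
      have hb1 := Nat.le_of_dvd (by norm_num) b1
      have hbound : Nat.card (oddW (φ' x)) ∣ 729 := by
        rw [hW]
        refine dvd_trans (Nat.mul_dvd_mul (Nat.mul_dvd_mul b1 ?_) ?_) (dvd_refl (9 * 9 * 9))
        · rcases b2 with h | h | h <;> rw [h] <;> norm_num
        · rcases b3 with h | h | h <;> rw [h] <;> norm_num
      obtain ⟨q, hq⟩ := h243
      rw [hq] at hbound ⊢
      have hq' : q ∣ 3 := Nat.dvd_of_mul_dvd_mul_left (by norm_num : 0 < 243) hbound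
      rcases (Nat.dvd_prime Nat.prime_three).1 hq' with rfl | rfl <;> omega
    rcases hcase with h | h
    · have hUeq : U = oddW (φ' x) := Subgroup.eq_of_le_of_card_ge hUW (by rw [hUcard, ← he9, h])
      rw [hUeq]
      exact fun y hy => oddW_normal (hw ▸ hpw) hy
    · have hpW : p ∈ oddW (φ' x) := by
        have h81 : Nat.card ↥(oddW (φ' x) ⊓ Subgroup.centralizer ({φ tau} : Set G)) = 9 := by
          rw [← he9, h] at hW
          have hb1 := Nat.le_of_dvd (by norm_num) b1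
          rcases b2 with k2 | k2 | k2 <;> rcases b3 with k3 | k3 | k3 <;> rw [k2, k3] at hW <;> omega
        have hle : oddW (φ' x) ⊓ Subgroup.centralizer ({φ tau} : Set G) ≤ p9Sub φ' := fun y hy => by
          obtain ⟨c, hc, rfl⟩ := Y.oddW_zpart hxr hy.1 (mem_cent.1 hy.2)
          rw [zpart, if_neg hxa, if_neg hxb] at hc
          exact ⟨c, hc, rfl⟩
        have heq := Subgroup.eq_of_le_of_card_ge hle (by rw [Y.card_p9, h81])
        exact (heq ▸ hp ▸ (aC_mem_p9Sub φ').1 : p ∈ oddW (φ' x) ⊓ Subgroup.centralizer ({φ tau} : Set G)).1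
      have hpg : IsPGroup 3 (oddW (φ' x)) := IsPGroup.of_card (n := 6) (by rw [← he9, h]; norm_num)
      haveI := hpg.isNilpotent
      have hlt : U.subgroupOf (oddW (φ' x)) < ⊤ := lt_top_iff_ne_top.2 fun e' => by
        have := Subgroup.card_le_of_le (Subgroup.subgroupOf_eq_top.1 e')
        rw [hUcard, ← he9, h] at this; omega
      have hN := Group.normalizerCondition_of_isNilpotent _ hlt
      have hidx : (U.subgroupOf (oddW (φ' x))).index = 3 := by
        have := (U.subgroupOf (oddW (φ' x))).index_mul_card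
        rw [Nat.card_congr (Subgroup.subgroupOfEquivOfLe hUW).toEquiv, hUcard, ← he9, h] at this
        omega
      have htop : Subgroup.normalizer ((U.subgroupOf (oddW (φ' x)) : Subgroup _) : Set (oddW (φ' x))) = ⊤ := by
        have hdvd := Subgroup.index_dvd_of_le hN.le
        rw [hidx] at hdvd
        rcases (Nat.dvd_prime Nat.prime_three).1 hdvd with e' | e'
        · exact Subgroup.index_eq_one.1 e'
        · exfalso
          have := Subgroup.index_strictAnti hN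
          omega
      intro y hy
      exact Subgroup.mem_subgroupOf.1 ((Subgroup.mem_normalizer_iff.1
        (htop ▸ Subgroup.mem_top (⟨p, hpW⟩ : oddW (φ' x))) ⟨y, hUW hy⟩).1 (Subgroup.mem_subgroupOf.2 hy))
  have hwU : Subgroup.zpowers w ≤ U := Subgroup.zpowers_le.2 (sub w (by simp))
  have hchain := chain_bound (W := U) (D := Subgroup.zpowers w) (b := p)
    (K := Subgroup.centralizer ({p} : Set G)) hwU hcen (fun y hy y' hy' => (hmod y hy).2 y' hy')
    (fun y hy => (hmod y hy).1) hpn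
    (fun d hd => by
      obtain ⟨i, rfl⟩ := Subgroup.mem_zpowers_iff.1 hd
      rw [← conj_zpow, hpw, mul_inv_cancel_right])
    (by rw [hp, pow_succ, pow_two]; exact cube_aC aC (by decide +kernel))
    (fun y hy hd => by
      refine mem_cent.2 ?_
      have hs : ∀ c ∈ p9, sigma c ∈ p9 := by decide +kernel
      have hy9 : y * p * y⁻¹ ∈ p9Sub (φ'.comp sigma) := by
        have hmem : ∀ {g : G}, g ∈ p9Sub φ' → g ∈ p9Sub (φ'.comp sigma) := by
          rintro _ ⟨c, hc, rfl⟩; exact ⟨sigma c, hs c hc, congrArg φ' (sigma_sigma c)⟩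
        refine hmem ?_
        rw [show y * p * y⁻¹ = (p * y * p⁻¹ * y⁻¹)⁻¹ * p by group]
        refine mul_mem (inv_mem ?_) (hp ▸ (aC_mem_p9Sub φ').1)
        refine Subgroup.zpowers_le.2 ?_ hd
        rw [hw]
        have hx9 : ∀ x ∈ [cC, dC], x ∈ p9 := by decide +kernel
        exact ⟨x, hx9 x hxd, rfl⟩
      have e : (φ'.comp sigma) bC = p := by rw [hp, MonoidHom.comp_apply, sigma_facts.2.1]
      have h := Y.preSigma.comm_b_of_norm ⟨_, hUodd,
        congrArg Subtype.val (pow_card_eq_one' (x := (⟨y, hy⟩ : U)))⟩ (by rw [e]; exact hy9)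
      rw [e] at h; exact h)
  rw [hUcard, hzpw, h3] at hchain
  -- the centralizer of the weight group is small
  have hcb : Nat.card ↥(U ⊓ Subgroup.centralizer ({p} : Set G)) ≤ 9 := by
    have hbc : ∀ {y : G}, y * p = p * y → y * w = w * y → y * φ' bC = φ' bC * y := by
      intro y h1 h2
      obtain ⟨i, j, hij⟩ : ∃ i j : ℕ, bC = aC ^ i * x ^ j := by
        simp only [List.mem_cons, List.not_mem_nil, or_false] at hxd
        rcases hxd with rfl | rfl
        · exact ⟨2, 1, by decide +kernel⟩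
        · exact ⟨1, 2, by decide +kernel⟩
      rw [hij, map_mul, map_pow, map_pow, ← hp, ← hw]
      exact (Commute.pow_right h1 i).mul_right (Commute.pow_right h2 j)
    have hoddUC : Odd (Nat.card ↥(U ⊓ Subgroup.centralizer ({p} : Set G))) :=
      Odd.of_dvd_nat hUodd (Subgroup.card_dvd_of_le inf_le_left)
    have hconj : ∀ g : G, (g * p * g⁻¹ = p ∨ g * p * g⁻¹ = p⁻¹) → (∀ y ∈ U, g * y * g⁻¹ ∈ U) →
        ∀ y ∈ U ⊓ Subgroup.centralizer ({p} : Set G), g * y * g⁻¹ ∈ U ⊓ Subgroup.centralizer ({p} : Set G) := by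
      intro g hg hgU y hy
      refine ⟨hgU y hy.1, mem_cent.2 ?_⟩
      have e : g * y * g⁻¹ * (g * p * g⁻¹) = g * p * g⁻¹ * (g * y * g⁻¹) := by
        rw [conj_mul, mem_cent.1 hy.2, ← conj_mul]
      rcases hg with hg | hg <;> rw [hg] at e
      · exact e
      · exact (Commute.inv_right_iff (a := g * y * g⁻¹)).1 e
    have hpwt : Wt z (φ tau) p := hp ▸ (X.sib_z Y (Or.inl hY)).2 ⟨aC, by decide +kernel, rfl⟩
    rw [X.card_T hoddUC (hconj z (Or.inr hpwt.2.2) zinv)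
      (hconj (φ tau) (Or.inl (mul_inv_eq_iff_eq_mul.2 hpwt.2.1.symm)) tinv)]
    have c1 : Nat.card ↥(U ⊓ Subgroup.centralizer ({p} : Set G) ⊓ Subgroup.centralizer ({φ tau} : Set G)) ≤ 3 := by
      refine (Subgroup.card_le_of_le (inf_le_inf_right _ inf_le_left)).trans ?_
      rw [hUtau, hzpw, h3]
    have c2 : Nat.card ↥(U ⊓ Subgroup.centralizer ({p} : Set G) ⊓ Subgroup.centralizer ({z} : Set G)) ≤
        Nat.card ↥(Cfg.kt Y ⊓ Subgroup.centralizer ({φ' bC} : Set G)) := by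
      refine Subgroup.card_le_of_le fun y hy => ⟨Y.mem_kt.2 ⟨hp ▸ mem_cent.1 hy.1.2, ?_⟩, ?_⟩
      · exact Y.oddW_wt_t hxr (Or.inl rfl) (hUW hy.1.1) (by rw [hY]; exact mem_cent.1 hy.2)
      · exact mem_cent.2 (hbc (mem_cent.1 hy.1.2) (hw ▸ oddW_le _ _ (hUW hy.1.1)))
    have c3 : Nat.card ↥(U ⊓ Subgroup.centralizer ({p} : Set G) ⊓ Subgroup.centralizer ({z * φ tau} : Set G)) ≤
        Nat.card ↥(Cfg.kzt Y ⊓ Subgroup.centralizer ({φ' bC} : Set G)) := by
      refine Subgroup.card_le_of_le fun y hy => ⟨Y.mem_kzt.2 ⟨hp ▸ mem_cent.1 hy.1.2, ?_⟩, ?_⟩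
      · exact Y.oddW_wt_t hxr (Or.inr rfl) (hUW hy.1.1) (by
          rw [hY, X.t_comm]; exact mem_cent.1 hy.2)
      · exact mem_cent.2 (hbc (mem_cent.1 hy.1.2) (hw ▸ oddW_le _ _ (hUW hy.1.1)))
    have hY' := Y.fixed_bounds.1
    rw [hn'] at hY'
    have h23 := (Nat.mul_le_mul c2 c3).trans hY'
    calc _ = Nat.card ↥(U ⊓ Subgroup.centralizer ({p} : Set G) ⊓ Subgroup.centralizer ({φ tau} : Set G)) *
          (Nat.card ↥(U ⊓ Subgroup.centralizer ({p} : Set G) ⊓ Subgroup.centralizer ({z} : Set G)) *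
            Nat.card ↥(U ⊓ Subgroup.centralizer ({p} : Set G) ⊓ Subgroup.centralizer ({z * φ tau} : Set G))) := by ring
      _ ≤ 3 * 3 := Nat.mul_le_mul c1 h23
      _ = 9 := rfl
  have := Nat.pow_le_pow_left hcb 3
  omega

/-- The second element never fixes a whole weight. -/
theorem Whole.not {z : G} {φ : Cm →* G} {X : Cfg z φ} (P : Whole X) : False :=
  X.card_kt.elim P.false_three P.false_nine

end CfsgLib.Recog.G2TwoLocal
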