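import Cfsg.Agent.Lib.Recog.G2TwoLocal.Norm
import Cfsg.Agent.Lib.Recog.G2TwoLocal.One

/-!
All weights have order nine, the second element fixes a line in each, and after exchanging the two short
axes the configuration is the normalised one.
-/

set_option autoImplicit false
set_option maxRecDepth 100000
set_option linter.unusedSectionVars false
set_option linter.style.haveILetI false

namespace CfsgLib.Recog.G2TwoLocal

open Cm Subgroup

universe u

theorem cent_aC_inv25 : ∀ c ∈ inv25, c * aC = aC * c →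
    c ∈ [1, aC, aC⁻¹] ∨ ∃ i : Fin 3, ∃ d ∈ [bC, bC⁻¹, jB * bC * jB⁻¹, (jB * bC * jB⁻¹)⁻¹],
      c = aC ^ (i : ℕ) * d := by decide +kernel

theorem beta_facts : jB * alpha aC * jB⁻¹ = aC ∧ jB * alpha bC * jB⁻¹ = jB * bC * jB⁻¹ ∧
    jB * alpha tau * jB⁻¹ = tau ∧ jB * alpha (jB * bC * jB⁻¹) * jB⁻¹ = bC ∧
    jB * (jB * bC * jB⁻¹) * jB⁻¹ = bC := by decide +kernel

theorem meet_ab : ∀ u ∈ [1, aC, aC⁻¹], ∀ v ∈ [1, bC, bC⁻¹], u = v → u = (1 : Cm) := by decide +kernel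

theorem Sib.symm {G : Type*} [Group G] {φ φ' : Cm →* G} (h : Sib φ φ') : Sib φ' φ :=
  fun y => ⟨(h y).1.symm, (h y).2.symm⟩

theorem jconj_mul {G : Type*} [Group G] (φ : Cm →* G) (x y : G) :
    jconj φ x * jconj φ y = jconj φ (x * y) := by
  simp only [jconj]; exact conj_mul

theorem jconj_phi {G : Type*} [Group G] (φ : Cm →* G) (c : Cm) :
    jconj φ (φ c) = φ (jB * c * jB⁻¹) := by
  rw [jconj, map_mul, map_mul, map_inv]

theorem jconj_comm {G : Type*} [Group G] (φ : Cm →* G) {x y : G} (h : x * y = y * x) :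
    jconj φ x * jconj φ y = jconj φ y * jconj φ x := by
  rw [jconj_mul, h, jconj_mul]

variable {G : Type u} [Group G] [Finite G]

namespace Cfg

variable {z : G} {φ : Cm →* G} (X : Cfg z φ)

include X

/-- The generic case holds in every frame. -/
theorem nine : Nat.card (kt X) = 9 ∧
    Nat.card ↥(kt X ⊓ Subgroup.centralizer ({φ bC} : Set G)) = 3 ∧
    Nat.card ↥(kzt X ⊓ Subgroup.centralizer ({φ bC} : Set G)) = 3 := by
  rcases X.exists_split with ⟨φ', X', -, -, -, P⟩ | h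
  · exact P.not.elim
  · exact h

/-- An axis of a weight group commutes with one of the two short axes. -/
theorem either {ψ : Cm →* G} (Y : Cfg (φ tau) ψ) (hY : ψ tau = z) (hm : ψ aC ∈ kt X) :
    ψ aC * φ bC = φ bC * ψ aC ∨
      ψ aC * φ (jB * bC * jB⁻¹) = φ (jB * bC * jB⁻¹) * ψ aC := by
  have ha : φ aC ∈ kt Y := Y.mem_kt.2 ⟨(X.mem_kt.1 hm).1.symm,
    by rw [hY]; exact X.wt_z_iff.2 ⟨aC, by decide +kernel, rfl⟩⟩
  obtain ⟨y, hy, hya⟩ : ∃ y ∈ kt Y, y ∉ Subgroup.zpowers (φ aC) := by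
    refine SetLike.not_le_iff_exists.1 fun h => ?_
    have := Subgroup.card_le_of_le h
    rw [Y.nine.1, X.card_zpowers_rep (by decide +kernel)] at this
    omega
  obtain ⟨hyr, hyw⟩ := Y.mem_kt.1 hy
  rw [hY] at hyw
  obtain ⟨c, hc, rfl⟩ := X.wt_z_iff.1 hyw
  have hca : c * aC = aC * c := by
    refine X.comm_phi.1 ?_
    rcases Y.wt_group' (kt Y) (fun _ h => (Y.mem_kt.1 h).2) with h | ⟨ψ', F, -, -, x, hx, h⟩ | ⟨ψ', -, -, -, h⟩
    · exact absurd (Y.nine.1) (by rw [h, Subgroup.card_bot]; norm_num)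
    · exact absurd (Y.nine.1) (by rw [h, F.card_zpowers_rep hx]; norm_num)
    · exact p9Sub_comm (h ▸ hy) (h ▸ ha)
  rcases cent_aC_inv25 c hc hca with hl | ⟨i, d, hd, hcd⟩
  · refine absurd ?_ hya
    simp only [List.mem_cons, List.not_mem_nil, or_false] at hl
    rcases hl with rfl | rfl | rfl
    · rw [map_one]; exact one_mem _
    · exact Subgroup.mem_zpowers _
    · rw [map_inv]; exact inv_mem (Subgroup.mem_zpowers _)
  have e : φ d = ((φ aC) ^ (i : ℕ))⁻¹ * φ c := by rw [hcd, map_mul, map_pow, inv_mul_cancel_left]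
  have hrd : Commute (ψ aC) (φ d) := by
    rw [e]
    exact ((show Commute (ψ aC) (φ aC) from (X.mem_kt.1 hm).1).pow_right _).inv_right.mul_right hyr.symm
  simp only [List.mem_cons, List.not_mem_nil, or_false] at hd
  rcases hd with rfl | rfl | rfl | rfl
  · exact Or.inl hrd
  · rw [map_inv] at hrd; exact Or.inl (Commute.inv_right_iff.1 hrd)
  · exact Or.inr hrd
  · rw [map_inv] at hrd; exact Or.inr (Commute.inv_right_iff.1 hrd)

theorem jconj_kt {k : G} (hk : k ∈ kt X) : jconj φ k ∈ kzt X ∧ jconj φ (jconj φ k) = k⁻¹ := by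
  obtain ⟨h1, h2, -, -⟩ := X.jB_maps
  refine ⟨⟨oddW_norm (Or.inl h1) hk.1, mem_cent.2 ?_⟩, ?_⟩
  · simp only [jconj]
    rw [← h2, conj_mul, mem_cent.1 hk.2, ← conj_mul]
  · have hz : φ jB * φ jB = z := by rw [← map_mul, j_facts.2.2.2.2.2.2.2.2.2, X.hz]
    calc jconj φ (jconj φ k) = (φ jB * φ jB) * k * (φ jB * φ jB)⁻¹ := by simp only [jconj]; group
      _ = k⁻¹ := by rw [hz]; exact (X.mem_kt.1 hk).2.2.2

/-- There is at most one short axis in the other weight. -/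
theorem kzt_isB {y y' : G} (hy : y ∈ kzt X) (hy' : y' ∈ kzt X) (hB : IsB φ y) (hB' : IsB φ y') :
    y' = y ∨ y' = y⁻¹ := by
  have et : (φ.comp alpha) tau = z * φ tau := by
    rw [MonoidHom.comp_apply, alpha_facts.2.2.1, map_mul, X.hz]
  have e1 : kt X.preAlpha = kzt X := by
    show oddW _ ⊓ _ = oddW _ ⊓ _
    rw [MonoidHom.comp_apply φ alpha aC, alpha_facts.1, et]
  rcases X.preAlpha.wt_group' (kzt X) (fun u hu => by
      rw [et]; exact (X.mem_kzt.1 hu).2) with h | ⟨ψ, F, -, -, x, hx, h⟩ | ⟨ψ, F, -, hS, h⟩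
  · have := X.preAlpha.nine.1
    rw [e1, h, Subgroup.card_bot] at this
    omega
  · have := X.preAlpha.nine.1
    rw [e1, h, F.card_zpowers_rep hx] at this
    omega
  have hS' : Sib φ ψ := (sib_alpha φ).trans hS
  rcases F.isB_unique (h ▸ hy) ((hS' _).2.2 hB) with e | e <;>
    rcases F.isB_unique (h ▸ hy') ((hS' _).2.2 hB') with e' | e' <;> rw [e, e'] <;> simp

/-- The normalised configuration. -/
theorem norm_of {φ' : Cm →* G} (Y : Cfg (φ tau) φ') (hY : φ' tau = z) (hS : Sib φ φ')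
    (hk : kt X = p9Sub φ') (hrb : φ' aC * φ bC = φ bC * φ' aC) : Norm X φ' := by
  obtain ⟨r, hr⟩ : ∃ r, r = φ' aC := ⟨_, rfl⟩
  obtain ⟨s, hs⟩ : ∃ s, s = φ' bC := ⟨_, rfl⟩
  obtain ⟨hrk, hsk⟩ : r ∈ kt X ∧ s ∈ kt X := by rw [hk, hr, hs]; exact aC_mem_p9Sub φ'
  obtain ⟨hra, hrw⟩ := X.mem_kt.1 hrk
  obtain ⟨hsa, hsw⟩ := X.mem_kt.1 hsk
  have hne : ∀ {c : Cm}, c ∈ reps → φ' c ≠ 1 := fun hc h =>
    (reps_cube _ hc).2.1 (Y.inj (by rw [h, map_one]))
  have s_b : ¬s * φ bC = φ bC * s := by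
    intro h
    have hle : kt X ≤ Subgroup.centralizer ({φ bC} : Set G) := by
      rw [hk]; rintro _ ⟨c, hc, rfl⟩
      obtain ⟨i, j, hij⟩ := p9_eq c hc
      rw [hij, map_mul, map_pow, map_pow, ← hr, ← hs]
      exact mem_cent.2 ((Commute.pow_left (hr ▸ hrb) i).mul_left (Commute.pow_left h j))
    have := X.nine
    rw [inf_eq_left.2 hle] at this
    omega
  have eb : (φ.comp sigma) aC = φ bC := congrArg φ sigma_facts.1
  have s_b' : s * φ (jB * bC * jB⁻¹) = φ (jB * bC * jB⁻¹) * s := by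
    have e : (φ'.comp sigma) aC = s := hs ▸ congrArg φ' sigma_facts.1
    rcases X.either Y.preSigma ((congrArg φ' sigma_facts.2.2.1).trans hY) (e.symm ▸ hsk) with h | h
    · rw [e] at h; exact absurd h s_b
    · rw [e] at h; exact h
  have r_b' : ¬r * φ (jB * bC * jB⁻¹) = φ (jB * bC * jB⁻¹) * r := fun h =>
    hne (c := aC) (by decide +kernel) (hr ▸ X.cent_pair_one (hr ▸ hrb) h hrw.2.2 hrw.1)
  obtain ⟨hpz, -⟩ := X.jconj_kt hrk
  obtain ⟨hqz, hq2⟩ := X.jconj_kt hsk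
  obtain ⟨hqa, hqw⟩ := X.mem_kzt.1 hqz
  have hqb : jconj φ s * φ bC = φ bC * jconj φ s := by
    have h := jconj_comm φ s_b'
    rwa [jconj_phi, beta_facts.2.2.2.2] at h
  have r_q : r * jconj φ s = jconj φ s * r := by
    have h1 := X.comm_mod_a hrk.1 hqz.1
    have hbr : ∀ {y t : G}, y * φ bC = φ bC * y → Wt z t y → y ∈ oddW ((φ.comp sigma) aC) := by
      intro y t h1 h2
      rw [eb]; exact X.wt_mem (x := bC) (by decide +kernel) h1 h2
    have h2 := X.preSigma.comm_mod_a (hbr (hr ▸ hrb) hrw) (hbr hqb hqw)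
    rw [eb] at h2
    have h : r * jconj φ s * r⁻¹ * (jconj φ s)⁻¹ = 1 := by
      have cube : ∀ {c : Cm}, c ∈ [aC, bC] → φ c * φ c * φ c = 1 := fun {c} hc => by
        refine cube_aC c ?_
        simp only [List.mem_cons, List.not_mem_nil, or_false] at hc
        rcases hc with rfl | rfl <;> decide +kernel
      obtain ⟨u, hu, eu⟩ : ∃ u ∈ [1, aC, aC⁻¹], φ u = r * jconj φ s * r⁻¹ * (jconj φ s)⁻¹ := by
        rcases zpowers_of_cube (cube (by simp)) h1 with e | e | e <;> rw [e]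
        exacts [⟨1, by simp, map_one φ⟩, ⟨aC, by simp, rfl⟩, ⟨aC⁻¹, by simp, map_inv φ aC⟩]
      obtain ⟨v, hv, ev⟩ : ∃ v ∈ [1, bC, bC⁻¹], φ v = r * jconj φ s * r⁻¹ * (jconj φ s)⁻¹ := by
        rcases zpowers_of_cube (cube (by simp)) h2 with e | e | e <;> rw [e]
        exacts [⟨1, by simp, map_one φ⟩, ⟨bC, by simp, rfl⟩, ⟨bC⁻¹, by simp, map_inv φ bC⟩]
      rw [← eu, meet_ab u hu v hv (X.inj (eu.trans ev.symm)), map_one]
    exact mul_inv_eq_iff_eq_mul.1 (mul_inv_eq_one.1 h)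
  have s_p : s * jconj φ r = jconj φ r * s := by
    have h := jconj_comm φ r_q
    rw [hq2] at h
    exact (Commute.inv_right_iff.1 h).symm
  -- the frame `φ'`
  have hkY : kt Y = p9Sub φ := by
    refine (Subgroup.eq_of_le_of_card_ge ?_ (by rw [Y.nine.1, X.card_p9])).symm
    rintro _ ⟨c, hc, rfl⟩
    refine Y.mem_kt.2 ⟨?_, by rw [hY]; exact X.wt_z_iff.2 ⟨c, (p9_cube c hc).2.2.2, rfl⟩⟩
    obtain ⟨i, j, hij⟩ := p9_eq c hc
    rw [hij, map_mul, map_pow, map_pow]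
    exact (Commute.pow_left (hr ▸ hra).symm i).mul_left (Commute.pow_left hrb.symm j)
  have hbY : φ bC ∈ kt Y := by rw [hkY]; exact (aC_mem_p9Sub φ).2
  obtain ⟨l, hl⟩ : ∃ l, l = jconj φ' (φ bC) := ⟨_, rfl⟩
  have hlY : l ∈ kzt Y := hl ▸ (Y.jconj_kt hbY).1
  have hlB : IsB φ' l := hl ▸ isB_conj ((hS _).2.2 (isB_base φ)) (φ' jB)
  have hls : l * s = s * l := by
    rcases Y.either (ψ := φ.comp sigma) (hY.symm ▸ X.preSigma) (congrArg φ sigma_facts.2.2.1)
      (eb.symm ▸ hbY) with h | h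
    · rw [eb] at h; exact absurd (hs ▸ h.symm) s_b
    · rw [eb] at h
      have h' := jconj_comm φ' h
      rw [jconj_phi, beta_facts.2.2.2.2, ← hl, ← hs] at h'
      exact h'
  have hYmem : ∀ {y : G}, y ∈ kzt X → y * r = r * y → y ∈ kzt Y := fun {y} hy h => by
    refine Y.mem_kzt.2 ⟨hr ▸ h, ?_⟩
    rw [hY]
    exact X.wt_zt_conv (X.mem_kzt.1 hy).2
  have hl1 : l ≠ 1 := fun h => by
    rw [hl, jconj, conj_eq_one_iff, ← map_one φ] at h
    exact absurd (X.inj h) (by decide +kernel)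
  have s_q : s * jconj φ s = jconj φ s * s := by
    have hqB : IsB φ' (jconj φ s) := isB_conj (hs ▸ isB_base φ') (φ jB)
    rcases Y.kzt_isB hlY (hYmem hqz r_q.symm) hlB hqB with e | e <;> rw [e]
    · exact hls.symm
    · exact (Commute.inv_left hls).symm
  have r_p : ¬r * jconj φ r = jconj φ r * r := by
    intro h
    have hmem : jconj φ r ∈ kzt Y ⊓ Subgroup.centralizer ({φ' bC} : Set G) :=
      ⟨hYmem hpz h.symm, mem_cent.2 (hs ▸ s_p.symm)⟩
    have hmem' : l ∈ kzt Y ⊓ Subgroup.centralizer ({φ' bC} : Set G) := ⟨hlY, mem_cent.2 (hs ▸ hls)⟩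
    haveI : Fact (Nat.Prime 3) := ⟨Nat.prime_three⟩
    obtain ⟨i, hi⟩ := Subgroup.mem_zpowers_iff.1 (mem_zpowers_of_prime_card Y.nine.2.2
      (g := (⟨l, hmem'⟩ : ↥(kzt Y ⊓ Subgroup.centralizer ({φ' bC} : Set G)))) (g' := ⟨_, hmem⟩)
      (fun e => hl1 (congrArg Subtype.val e)))
    have hi' : l ^ i = jconj φ r := by simpa using congrArg Subtype.val hi
    have hA : IsA φ' (jconj φ r) := isA_conj (hr ▸ isA_base φ') (φ jB)
    rcases zpowers_of_cube (Y.mem_kzt.1 hlY).2.1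
      (hi' ▸ zpow_mem (Subgroup.mem_zpowers l) i) with e | e | e
    · rw [jconj, conj_eq_one_iff, hr] at e
      exact hne (c := aC) (by decide +kernel) e
    · exact Y.not_isA_isB (e ▸ hA) hlB
    · rw [e] at hA
      exact Y.not_isA_isB (by simpa using isA_inv hA) hlB
  subst hr hs
  exact ⟨Y, hY, hS, hk, X.nine.1, hrb, s_b, s_b', r_b', r_p, r_q, s_p, s_q⟩

end Cfg

/-- Every frame can be normalised. -/
theorem canNorm : CanNorm G := by
  intro z φ X
  rcases X.wt_group' (Cfg.kt X) (fun _ hy => (X.mem_kt.1 hy).2) with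
    h | ⟨φ', F, -, -, x, hx, h⟩ | ⟨φ', Y, hY, hS, hk⟩
  · have := X.nine.1
    rw [h, Subgroup.card_bot] at this
    omega
  · have := X.nine.1
    rw [h, F.card_zpowers_rep hx] at this
    omega
  have hrk : φ' aC ∈ Cfg.kt X := by rw [hk]; exact (aC_mem_p9Sub φ').1
  rcases X.either Y hY hrk with hrb | hrb
  · exact ⟨φ, X, rfl, Sib.refl φ, φ', X.norm_of Y hY hS hk hrb⟩
  obtain ⟨φ₁, X₁, e1, e2, e3, hS₁⟩ : ∃ φ₁ : Cm →* G, ∃ _ : Cfg z φ₁, φ₁ aC = φ aC ∧
      φ₁ bC = φ (jB * bC * jB⁻¹) ∧ φ₁ tau = φ tau ∧ Sib φ φ₁ :=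
    ⟨_, (X.preInner jB).preAlpha, congrArg φ beta_facts.1, congrArg φ beta_facts.2.1,
      congrArg φ beta_facts.2.2.1, (sib_inner φ jB).trans (sib_alpha _)⟩
  refine ⟨φ₁, X₁, e1, hS₁, φ', X₁.norm_of (e3.symm ▸ Y) hY (hS₁.symm.trans hS) ?_ (e2.symm ▸ hrb)⟩
  rw [← hk]
  show oddW _ ⊓ _ = oddW _ ⊓ _
  rw [e1, e3]

end CfsgLib.Recog.G2TwoLocal
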