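import Cfsg.Agent.Lib.AmalgamG2Three.Closing
import Cfsg.Prelude.Def_ChevG2

/-!
From the automorphisms of the octonions over a field of three elements to the adjoint group.
-/

set_option autoImplicit false

namespace CfsgLib.Recog.G2TwoLocal

/-- An isomorphism with `G₂(3)` in octonion form gives one with the Chevalley group. -/
theorem chev_of_g2 {G : Type*} [Group G] {F : Type*} [Field F] [Fintype F] (hF : Fintype.card F = 3)
    (h : Nonempty (G ≃* ↥(Cfsg.Lie.G2 F))) :
    ∃ (F : Type) (_ : Field F) (_ : Fintype F),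
      Fintype.card F = 3 ∧ Nonempty (G ≃* ↥(Cfsg.Lie.chevG2.group F)) := by
  obtain ⟨e⟩ := h
  obtain ⟨f⟩ := CfsgLib.AmalgamG2Three.g2_congr (ZMod.ringEquivOfPrime F Nat.prime_three hF)
  exact ⟨ZMod 3, inferInstance, inferInstance, ZMod.card 3, ⟨(e.trans f.symm).trans
    (MulEquiv.ofBijective _ CfsgLib.MaxSub.M24Pair.toOct_bijective).symm⟩⟩

end CfsgLib.Recog.G2TwoLocal
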