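import Cfsg.Agent.Lib.Recog.G2TwoLocal.Frames
import Cfsg.Agent.Lib.Invol.BrauerSuzuki
import Cfsg.Agent.Lib.StructB.CoprimeFixedProduct

/-!
The centralizers of the elements of order three of the involution centralizer: isolation of the central
involution, fusion, the odd core and its decomposition under the four-group `⟨z, τ⟩`.
-/

set_option autoImplicit false
set_option maxRecDepth 100000
set_option linter.unusedSectionVars false
set_option linter.style.haveILetI false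

namespace CfsgLib.Recog.G2TwoLocal

open Cm Subgroup

universe u

variable {G : Type u} [Group G]

/-- Elements of cube one fixed by `t` and inverted by `z`. -/
def Wt (z t y : G) : Prop := y * y * y = 1 ∧ y * t = t * y ∧ z * y * z⁻¹ = y⁻¹

/-- The odd core of a centralizer, as a subgroup. -/
def oddW (x : G) : Subgroup G :=
  (Cfsg.oddCore (Subgroup.centralizer ({x} : Set G))).map (Subgroup.centralizer ({x} : Set G)).subtype

/-- The long class. -/
def IsA (φ : Cm →* G) (y : G) : Prop := ∃ g, g * φ aC * g⁻¹ = y ∨ g * φ aC * g⁻¹ = y⁻¹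

/-- The short class. -/
def IsB (φ : Cm →* G) (y : G) : Prop := ∃ g, g * φ bC * g⁻¹ = y ∨ g * φ bC * g⁻¹ = y⁻¹

/-- The image of the subgroup of order nine. -/
def p9Sub (φ : Cm →* G) : Subgroup G where
  carrier := {y | ∃ c ∈ p9, φ c = y}
  one_mem' := ⟨1, by decide +kernel, map_one φ⟩
  mul_mem' := by
    rintro _ _ ⟨c, hc, rfl⟩ ⟨d, hd, rfl⟩
    exact ⟨c * d, p9_closed.1 c hc d hd, map_mul φ c d⟩
  inv_mem' := by
    rintro _ ⟨c, hc, rfl⟩
    exact ⟨c⁻¹, p9_closed.2 c hc, map_inv φ c⟩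

theorem mem_p9Sub {φ : Cm →* G} {y : G} : y ∈ p9Sub φ ↔ ∃ c ∈ p9, φ c = y := Iff.rfl

theorem mem_cent {x y : G} : y ∈ Subgroup.centralizer ({x} : Set G) ↔ y * x = x * y := by
  rw [Subgroup.mem_centralizer_singleton_iff]

theorem oddW_le (x : G) : ∀ y ∈ oddW x, y * x = x * y := by
  rintro _ ⟨y, -, rfl⟩
  exact mem_cent.1 y.2

variable [Finite G]

theorem odd_oddW (x : G) : Odd (Nat.card (oddW x)) := by
  rw [oddW, Subgroup.card_map_of_injective (Subgroup.subtype_injective _)]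
  exact CfsgLib.Invol.odd_card_oddCore _

theorem oddW_pow (x : G) {y : G} (hy : y ∈ oddW x) : y ^ Nat.card (oddW x) = 1 :=
  congrArg Subtype.val (pow_card_eq_one' (x := (⟨y, hy⟩ : oddW x)))

/-- A normal subgroup of odd order of the centralizer lies in the odd core. -/
theorem le_oddW {x : G} {N : Subgroup G} (hN : ∀ y ∈ N, y * x = x * y) (hodd : Odd (Nat.card N))
    (hn : ∀ g : G, g * x = x * g → ∀ y ∈ N, g * y * g⁻¹ ∈ N) : N ≤ oddW x := by
  intro y hy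
  have h : N.subgroupOf (Subgroup.centralizer ({x} : Set G)) ≤ Cfsg.oddCore _ :=
    CfsgLib.Invol.le_oddCore
      ⟨fun c hc g => Subgroup.mem_subgroupOf.2 (hn g (mem_cent.1 g.2) c (Subgroup.mem_subgroupOf.1 hc))⟩
      (by
        rw [Nat.card_congr (Subgroup.subgroupOfEquivOfLe fun y hy => mem_cent.2 (hN y hy)).toEquiv]
        exact hodd)
  exact ⟨⟨y, mem_cent.2 (hN y hy)⟩, h (Subgroup.mem_subgroupOf.2 hy), rfl⟩

theorem oddW_normal {x g : G} (hg : g * x = x * g) {y : G} (hy : y ∈ oddW x) :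
    g * y * g⁻¹ ∈ oddW x := by
  obtain ⟨y, hy, rfl⟩ := hy
  have hn : (Cfsg.oddCore (Subgroup.centralizer ({x} : Set G))).Normal :=
    CfsgLib.Solvable.pPrimeCore_normal 2 _
  exact ⟨⟨g, mem_cent.2 hg⟩ * y * ⟨g, mem_cent.2 hg⟩⁻¹, hn.conj_mem y hy _, rfl⟩

/-- Conjugation carries odd cores to odd cores. -/
theorem oddW_conj {x x' g : G} (h : ∀ u : G, u * x = x * u ↔ g * u * g⁻¹ * x' = x' * (g * u * g⁻¹))
    {y : G} (hy : y ∈ oddW x) : g * y * g⁻¹ ∈ oddW x' := by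
  refine le_oddW (N := (oddW x).map (MulAut.conj g).toMonoidHom) ?_ ?_ ?_ ⟨y, hy, rfl⟩
  · rintro _ ⟨w, hw, rfl⟩
    exact (h w).1 (oddW_le x w hw)
  · rw [Subgroup.card_map_of_injective (MulAut.conj g).injective]
    exact odd_oddW x
  · rintro u hu _ ⟨w, hw, rfl⟩
    refine ⟨(g⁻¹ * u * g) * w * (g⁻¹ * u * g)⁻¹, oddW_normal ((h _).2 ?_) hw, ?_⟩
    · have e : g * (g⁻¹ * u * g) * g⁻¹ = u := by group
      rw [e]; exact hu
    · show g * ((g⁻¹ * u * g) * w * (g⁻¹ * u * g)⁻¹) * g⁻¹ = u * (g * w * g⁻¹) * u⁻¹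
      group

theorem oddW_conj_eq (x g : G) {y : G} (hy : y ∈ oddW x) : g * y * g⁻¹ ∈ oddW (g * x * g⁻¹) := by
  refine oddW_conj (fun u => ?_) hy
  constructor
  · intro h
    calc g * u * g⁻¹ * (g * x * g⁻¹) = g * (u * x) * g⁻¹ := by group
      _ = g * (x * u) * g⁻¹ := by rw [h]
      _ = g * x * g⁻¹ * (g * u * g⁻¹) := by group
  · intro h
    calc u * x = g⁻¹ * (g * u * g⁻¹ * (g * x * g⁻¹)) * g := by group
      _ = x * u := by rw [h]; group

/-- Elements normalising `⟨x⟩` normalise the odd core. -/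
theorem oddW_norm {x g : G} (hg : g * x * g⁻¹ = x ∨ g * x * g⁻¹ = x⁻¹) {y : G} (hy : y ∈ oddW x) :
    g * y * g⁻¹ ∈ oddW x := by
  rcases hg with hg | hg
  · simpa only [hg] using oddW_conj_eq x g hy
  · have h1 := oddW_conj_eq x g hy
    rw [hg] at h1
    have h2 := oddW_conj (g := (1 : G)) (x' := x) (fun u => by
      rw [one_mul, inv_one, mul_one]
      exact (Commute.inv_right_iff (a := u) (b := x))) h1
    simpa using h2

namespace Cfg

variable {z : G} {φ : Cm →* G} (X : Cfg z φ)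

theorem inv_sq {u : G} (h : u * u = 1) : u⁻¹ = u := inv_eq_of_mul_eq_one_right h

include X

theorem cube_of_odd {y : G} (hy : y * z = z * y) (ho : ∃ n, Odd n ∧ y ^ n = 1) :
    ∃ c : Cm, φ c = y ∧ c * c * c = 1 := by
  obtain ⟨c, rfl⟩ := (X.range y).1 hy
  obtain ⟨n, hn, hy1⟩ := ho
  refine ⟨c, rfl, odd_cube c.code ?_⟩
  have h1 : orderOf c ∣ n := orderOf_dvd_of_pow_eq_one (X.inj (by rw [map_pow, hy1, map_one]))
  have h2 : orderOf c ∣ 576 := (orderOf_dvd_natCard c).trans (dvd_of_eq (by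
    rw [Nat.card_eq_fintype_card, Fintype.card_congr (⟨Cm.code, Cm.mk, fun _ => rfl, fun _ => rfl⟩ :
      Cm ≃ Fin 576), Fintype.card_fin]))
  have h3 : (orderOf c).Coprime 64 :=
    ((Nat.coprime_two_right.2 (Odd.of_dvd_nat hn h1)).pow_right 6)
  exact orderOf_dvd_iff_pow_eq_one.1 (h3.dvd_of_dvd_mul_left (show orderOf c ∣ 64 * 9 by simpa using h2))

theorem wt_z_iff {y : G} : Wt (φ tau) z y ↔ ∃ c ∈ inv25, φ c = y := by
  constructor
  · rintro ⟨h1, h2, h3⟩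
    obtain ⟨c, rfl⟩ := (X.range y).1 h2
    refine ⟨c, (inv25_iff c.code).1 ⟨X.inj ?_, X.inj ?_⟩, rfl⟩
    · rw [map_mul, map_mul, map_one]; exact h1
    · rw [map_mul, map_mul, map_inv, map_inv]; exact h3
  · rintro ⟨c, hc, rfl⟩
    obtain ⟨h1, h2⟩ := (inv25_iff c.code).2 hc
    refine ⟨by rw [← map_mul, ← map_mul, ← map_one φ]; exact congrArg φ h1, (X.range _).2 ⟨c, rfl⟩, ?_⟩
    rw [← map_inv φ tau, ← map_mul, ← map_mul, ← map_inv]
    exact congrArg φ h2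

theorem eq_one_of_odd_tau {y : G} (hz : y * z = z * y) (ht : y * φ tau = φ tau * y)
    (ho : ∃ n, Odd n ∧ y ^ n = 1) : y = 1 := by
  obtain ⟨c, rfl, h3⟩ := X.cube_of_odd hz ho
  have h2 : c * c = 1 := cent_tau c.code (X.comm_phi.1 ht)
  rw [show c = 1 by rw [← h3, h2, one_mul], map_one]

/-- Only `z` is an involution centralizing a representative and `z`. -/
theorem invol_cent {x : Cm} (hx : x ∈ reps) {u : G} (hu : u * u = 1) (hu1 : u ≠ 1)
    (hux : u * φ x = φ x * u) (huz : u * z = z * u) : u = z := by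
  obtain ⟨c, rfl⟩ := (X.range u).1 huz
  rcases reps_invol x hx c.code (X.comm_phi.1 hux) (X.inj (by rw [map_mul, map_one]; exact hu)) with
    h | h
  · exact absurd ((congrArg φ h).trans (map_one φ)) hu1
  · exact (congrArg φ h).trans X.hz

theorem z_comm_rep {x : Cm} : z * φ x = φ x * z := ((X.range _).2 ⟨x, rfl⟩).symm

theorem one_class_cent {x : Cm} (hx : x ∈ reps) {u : G} (hu : u * u = 1) (hu1 : u ≠ 1)
    (hux : u * φ x = φ x * u) : ∃ c : G, c * φ x = φ x * c ∧ c * z * c⁻¹ = u := by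
  obtain ⟨C, hC⟩ : ∃ C, C = Subgroup.centralizer ({φ x} : Set G) := ⟨_, rfl⟩
  by_cases huz : u = z
  · exact ⟨1, by simp, by rw [huz]; group⟩
  have hu' : u ∈ C := hC ▸ mem_cent.2 hux
  have hz' : z ∈ C := hC ▸ mem_cent.2 X.z_comm_rep
  rcases conj_or_common (u := (⟨u, hu'⟩ : C)) (v := ⟨z, hz'⟩) (Subtype.ext hu) (Subtype.ext X.z_sq)
      (fun h => huz (congrArg Subtype.val h)) with ⟨c, hc⟩ | ⟨w, hw, hw1, hwu, hwz⟩
  · exact ⟨c, mem_cent.1 (hC ▸ c.2), congrArg Subtype.val hc⟩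
  · have hwz' : (w : G) = z := X.invol_cent hx (congrArg Subtype.val hw)
      (fun h => hw1 (Subtype.ext h)) (mem_cent.1 (hC ▸ w.2)) (congrArg Subtype.val hwz)
    have h2 := congrArg Subtype.val hwu
    simp only [Subgroup.coe_mul] at h2
    rw [hwz'] at h2
    exact absurd (X.invol_cent hx hu hu1 hux h2.symm) huz

/-- Fusion in the subgroup of order nine is fusion in the model. -/
theorem fusion {x y : Cm} (hx : x ∈ reps) (hy : y ∈ p9) {g : G} (h : g * φ x * g⁻¹ = φ y) :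
    y = x ∨ y = x⁻¹ := by
  rcases p9_cases y hy with rfl | ⟨r, hr, hyr⟩
  · rw [map_one, conj_eq_one_iff, ← map_one φ] at h
    exact absurd (X.inj h) (reps_cube x hx).2.1
  have hu : (g * z * g⁻¹) * φ r = φ r * (g * z * g⁻¹) := by
    have h' : (g * z * g⁻¹) * φ y = φ y * (g * z * g⁻¹) := by
      rw [← h]
      calc g * z * g⁻¹ * (g * φ x * g⁻¹) = g * (z * φ x) * g⁻¹ := by group
        _ = g * (φ x * z) * g⁻¹ := by rw [X.z_comm_rep]
        _ = g * φ x * g⁻¹ * (g * z * g⁻¹) := by group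
    rcases hyr with rfl | rfl
    · exact h'
    · rw [map_inv] at h'
      exact (Commute.inv_right_iff (a := g * z * g⁻¹)).1 h'
  obtain ⟨c, hc, hcz⟩ := X.one_class_cent hr (u := g * z * g⁻¹)
    (by
      calc g * z * g⁻¹ * (g * z * g⁻¹) = g * (z * z) * g⁻¹ := by group
        _ = 1 := by rw [X.z_sq]; group)
    (fun e => X.z_ne (conj_eq_one_iff.1 e)) hu
  obtain ⟨k, hk⟩ := (X.range (c⁻¹ * g)).1 (by
    calc c⁻¹ * g * z = c⁻¹ * (g * z * g⁻¹) * g := by group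
      _ = c⁻¹ * (c * z * c⁻¹) * g := by rw [hcz]
      _ = z * (c⁻¹ * g) := by group)
  have hcy : c * φ y = φ y * c := by
    rcases hyr with rfl | rfl
    · exact hc
    · rw [map_inv]; exact Commute.inv_right hc
  have he : k * x * k⁻¹ = y := X.inj (by
    rw [map_mul, map_mul, map_inv, hk]
    calc c⁻¹ * g * φ x * (c⁻¹ * g)⁻¹ = c⁻¹ * (g * φ x * g⁻¹) * c := by group
      _ = φ y := by rw [h, mul_assoc, ← hcy]; group)
  rcases fusion_fact k.code x hx (he ▸ hy) with e | e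
  · exact Or.inl (he.symm.trans e)
  · exact Or.inr (he.symm.trans e)

theorem fusion' {x y : Cm} (hx : x ∈ reps) (_hy : y ∈ reps) (hy9 : y ∈ p9) (hne : y ≠ x) (hne' : y ≠ x⁻¹)
    (g : G) : g * φ x * g⁻¹ ≠ φ y ∧ g * φ x * g⁻¹ ≠ (φ y)⁻¹ := by
  refine ⟨fun h => (X.fusion hx hy9 h).elim hne hne', fun h => ?_⟩
  rw [← map_inv] at h
  rcases X.fusion hx (p9_closed.2 y hy9) h with e | e
  · exact hne' (by rw [← e, inv_inv])
  · exact hne (inv_injective e)

theorem not_isA_isB {y : G} (ha : IsA φ y) (hb : IsB φ y) : False := by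
  obtain ⟨g, hg⟩ := ha
  obtain ⟨k, hk⟩ := hb
  have key := X.fusion' (x := aC) (y := bC) (by decide +kernel) (by decide +kernel) (by decide +kernel)
    (by decide +kernel) (by decide +kernel) (k⁻¹ * g)
  have e : k⁻¹ * g * φ aC * (k⁻¹ * g)⁻¹ = k⁻¹ * (g * φ aC * g⁻¹) * k := by group
  rcases hk with hk | hk
  · rcases hg with hg | hg
    · exact key.1 (by rw [e, hg, ← hk]; group)
    · exact key.2 (by rw [e, hg, ← hk]; group)
  · have hk' : (k * φ bC * k⁻¹)⁻¹ = y := by rw [hk, inv_inv]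
    rcases hg with hg | hg
    · exact key.2 (by rw [e, hg, ← hk']; group)
    · exact key.1 (by rw [e, hg, ← hk]; group)

/-- The classes of the 25 elements. -/
theorem class_inv25 {c : Cm} (hc : c ∈ inv25) :
    (c ∈ longL → IsA φ (φ c)) ∧ (c ∈ shortL → IsB φ (φ c)) ∧
      (c ∈ diagL → ¬IsA φ (φ c) ∧ ¬IsB φ (φ c)) := by
  have one_out : (1 : Cm) ∉ longL ∧ (1 : Cm) ∉ shortL ∧ (1 : Cm) ∉ diagL := by decide +kernel
  rcases axis_rep c hc with rfl | ⟨k, -, x, hx, hkx, -⟩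
  · exact ⟨fun h => absurd h one_out.1, fun h => absurd h one_out.2.1, fun h => absurd h one_out.2.2⟩
  have hcx : c * k = k * x := by rw [← hkx]; group
  have hkx' : φ k * φ x * (φ k)⁻¹ = φ c := by rw [← map_inv, ← map_mul, ← map_mul, hkx]
  simp only [reps, List.mem_cons, List.not_mem_nil, or_false] at hx
  refine ⟨fun h => ?_, fun h => ?_, fun h => ?_⟩
  · obtain ⟨n1, n2, n3⟩ := axes_conj.1 c h k.code
    rcases hx with rfl | rfl | rfl | rfl
    · exact ⟨φ k, Or.inl hkx'⟩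
    · exact absurd hcx n1
    · exact absurd hcx n2
    · exact absurd hcx n3
  · obtain ⟨n1, n2, n3⟩ := axes_conj.2.1 c h k.code
    rcases hx with rfl | rfl | rfl | rfl
    · exact absurd hcx n1
    · exact ⟨φ k, Or.inl hkx'⟩
    · exact absurd hcx n2
    · exact absurd hcx n3
  · obtain ⟨n1, n2⟩ := axes_conj.2.2 c h k.code
    have hx' : x = cC ∨ x = dC := by
      rcases hx with rfl | rfl | rfl | rfl
      exacts [absurd hcx n1, absurd hcx n2, Or.inl rfl, Or.inr rfl]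
    have hne : ∀ r ∈ [aC, bC], r ∈ reps ∧ x ≠ r ∧ x ≠ r⁻¹ := by
      rcases hx' with rfl | rfl <;> decide +kernel
    have hx9 : x ∈ p9 ∧ x ∈ reps := by rcases hx' with rfl | rfl <;> decide +kernel
    have key : ∀ r ∈ [aC, bC], ∀ g : G, g * φ r * g⁻¹ ≠ φ c ∧ g * φ r * g⁻¹ ≠ (φ c)⁻¹ := by
      intro r hr g
      obtain ⟨hr', e1, e2⟩ := hne r hr
      obtain ⟨f1, f2⟩ := X.fusion' hr' hx9.2 hx9.1 e1 e2 ((φ k)⁻¹ * g)
      refine ⟨fun h => f1 ?_, fun h => f2 ?_⟩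
      · calc (φ k)⁻¹ * g * φ r * ((φ k)⁻¹ * g)⁻¹ = (φ k)⁻¹ * (g * φ r * g⁻¹) * φ k := by group
          _ = φ x := by rw [h, ← hkx']; group
      · calc (φ k)⁻¹ * g * φ r * ((φ k)⁻¹ * g)⁻¹ = (φ k)⁻¹ * (g * φ r * g⁻¹) * φ k := by group
          _ = (φ x)⁻¹ := by rw [h, ← hkx']; group
    exact ⟨fun ⟨g, hg⟩ => hg.elim (key aC (by simp) g).1 (key aC (by simp) g).2,
      fun ⟨g, hg⟩ => hg.elim (key bC (by simp) g).1 (key bC (by simp) g).2⟩

/-- The commutators with `z` lie in the odd core. -/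
theorem zstar_cent {x : Cm} (hx : x ∈ reps) {g : G} (hg : g * φ x = φ x * g) :
    z * g * z⁻¹ * g⁻¹ ∈ oddW (φ x) := by
  have hzC : z ∈ Subgroup.centralizer ({φ x} : Set G) := mem_cent.2 X.z_comm_rep
  have hiso : Cfsg.IsIsolatedInvolution (⟨z, hzC⟩ : Subgroup.centralizer ({φ x} : Set G)) := by
    refine ⟨by rw [Subgroup.orderOf_mk]; exact orderOf_eq_prime (by rw [pow_two]; exact X.z_sq) X.z_ne,
      fun k hk => Subtype.ext ?_⟩
    refine X.invol_cent hx ?_ ?_ (mem_cent.1 (k * ⟨z, hzC⟩ * k⁻¹).2) (congrArg Subtype.val hk.eq).symm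
    · show (k : G) * z * (k : G)⁻¹ * ((k : G) * z * (k : G)⁻¹) = 1
      calc (k : G) * z * (k : G)⁻¹ * ((k : G) * z * (k : G)⁻¹) = k * (z * z) * (k : G)⁻¹ := by group
        _ = 1 := by rw [X.z_sq]; group
    · exact fun h => X.z_ne (conj_eq_one_iff.1 h)
  exact ⟨_, CfsgLib.Invol.zstar _ hiso ⟨g, mem_cent.2 hg⟩, rfl⟩

/-- Elements of odd order inverted by `z` lie in the odd core. -/
theorem inverted_mem {x : Cm} (hx : x ∈ reps) {y : G} (hy : y * φ x = φ x * y)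
    (hi : z * y * z⁻¹ = y⁻¹) {n : ℕ} (hn : Odd n) (hy1 : y ^ n = 1) : y ∈ oddW (φ x) := by
  have h := X.zstar_cent hx hy
  rw [hi] at h
  obtain ⟨m, hm⟩ := hn
  have e : y = (y⁻¹ * y⁻¹) ^ m := by
    rw [← pow_two, ← pow_mul, inv_pow]
    rw [hm, pow_succ] at hy1
    exact eq_inv_of_mul_eq_one_right hy1
  rw [e]
  exact pow_mem h m

theorem wt_mem {x : Cm} (hx : x ∈ reps) {y t : G} (hy : y * φ x = φ x * y) (h : Wt z t y) :
    y ∈ oddW (φ x) :=
  X.inverted_mem hx hy h.2.2 (n := 3) (by decide) (by rw [pow_succ, pow_two]; exact h.1)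

/-- The centralizer is the odd core times the part in the model. -/
theorem decomp {x : Cm} (hx : x ∈ reps) {g : G} (hg : g * φ x = φ x * g) :
    ∃ w ∈ oddW (φ x), ∃ c : Cm, c * x = x * c ∧ g = w * φ c := by
  have hv := X.zstar_cent hx hg
  obtain ⟨v, hve⟩ : ∃ v, v = z * g * z⁻¹ * g⁻¹ := ⟨_, rfl⟩
  rw [← hve] at hv
  have hzi := inv_sq X.z_sq
  have hiv : z * v * z⁻¹ = v⁻¹ := by
    rw [hve, hzi]; simp only [_root_.mul_inv_rev, inv_inv, hzi, ← mul_assoc, X.z_sq, one_mul]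
  obtain ⟨k, hk⟩ := odd_oddW (φ x)
  obtain ⟨s, hs⟩ : ∃ s, s = v ^ (k + 1) := ⟨_, rfl⟩
  have hsW : s ∈ oddW (φ x) := hs ▸ pow_mem hv _
  have hs2 : s * s = v := by
    rw [hs, ← pow_add, show k + 1 + (k + 1) = Nat.card (oddW (φ x)) + 1 by omega, pow_succ,
      oddW_pow _ hv, one_mul]
  have hzs : z * s * z⁻¹ = s⁻¹ := by rw [hs, ← conj_pow, hiv, inv_pow]
  obtain ⟨c, hc⟩ := (X.range (s * g)).1 (by
    have e : z * (s * g) * z⁻¹ = s * g := by
      calc z * (s * g) * z⁻¹ = (z * s * z⁻¹) * (z * g * z⁻¹ * g⁻¹) * g := by group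
        _ = s⁻¹ * v * g := by rw [hzs, hve]
        _ = s * g := by rw [← hs2]; group
    exact (mul_inv_eq_iff_eq_mul.1 e).symm)
  refine ⟨s⁻¹, inv_mem hsW, c, X.comm_phi.1 ?_, by rw [hc]; group⟩
  rw [hc, mul_assoc, hg, ← mul_assoc, oddW_le _ s hsW, mul_assoc]

theorem tau_rep {x : Cm} (hx : x ∈ reps) : φ tau * φ x * (φ tau)⁻¹ = (φ x)⁻¹ := by
  rw [← map_inv, ← map_mul, ← map_mul, ← map_inv]
  exact congrArg φ ((inv25_iff x.code).2 (reps_cube x hx).2.2).2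

theorem oddW_zpart {x : Cm} (hx : x ∈ reps) {y : G} (hy : y ∈ oddW (φ x)) (hz : y * z = z * y) :
    ∃ c ∈ zpart x, φ c = y := by
  obtain ⟨c, rfl, h3⟩ := X.cube_of_odd hz ⟨_, odd_oddW _, oddW_pow _ hy⟩
  have hcx := X.comm_phi.1 (oddW_le _ _ hy)
  refine ⟨c, reps_odd_part x hx c.code hcx h3 fun d hd hd4 => ?_, rfl⟩
  have h4 := reps_two_part x hx c.code hcx h3 d hd hd4
  have hmem : φ (c * ⟨d⟩ * c⁻¹ * (⟨d⟩ : Cm)⁻¹) ∈ oddW (φ x) := by
    rw [show c * ⟨d⟩ * c⁻¹ * (⟨d⟩ : Cm)⁻¹ = c * (⟨d⟩ * c⁻¹ * (⟨d⟩ : Cm)⁻¹) by group]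
    simp only [map_mul, map_inv]
    exact mul_mem hy (oddW_normal (X.comm_phi.2 hd) (inv_mem hy))
  have h1 := orderOf_dvd_of_pow_eq_one (oddW_pow _ hmem)
  have h2 : orderOf (φ (c * ⟨d⟩ * c⁻¹ * (⟨d⟩ : Cm)⁻¹)) ∣ 4 :=
    orderOf_dvd_of_pow_eq_one (by rw [← map_pow, h4, map_one])
  have hcop : Nat.Coprime (Nat.card (oddW (φ x))) 4 :=
    ((Nat.coprime_two_right.2 (odd_oddW (φ x))).pow_right 2)
  have h5 := orderOf_eq_one_iff.1 (Nat.eq_one_of_dvd_coprimes hcop h1 h2)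
  rw [← map_one φ] at h5
  exact mul_inv_eq_iff_eq_mul.1 (mul_inv_eq_one.1 (X.inj h5))

/-- Weights of the odd core. -/
theorem oddW_wt_t {x : Cm} (_hx : x ∈ reps) {t : G} (ht : t = φ tau ∨ t = z * φ tau) {y : G}
    (hy : y ∈ oddW (φ x)) (hyt : y * t = t * y) : Wt z t y := by
  classical
  have hzi := inv_sq X.z_sq
  have hzt : z * t = t * z := by
    rcases ht with rfl | rfl
    · exact X.t_comm.symm
    · rw [mul_assoc, X.t_comm, ← mul_assoc]
  obtain ⟨K, rfl⟩ : ∃ K, K = oddW (φ x) ⊓ Subgroup.centralizer ({t} : Set G) := ⟨_, rfl⟩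
  have hstep : ∀ k : ↥(oddW (φ x) ⊓ Subgroup.centralizer ({t} : Set G)),
      (k : G)⁻¹ * z * k * z⁻¹ ∈ oddW (φ x) ⊓ Subgroup.centralizer ({t} : Set G) := fun k => by
    obtain ⟨h1, h2⟩ := Subgroup.mem_inf.1 k.2
    rw [show (k : G)⁻¹ * z * k * z⁻¹ = (k : G)⁻¹ * (z * k * z⁻¹) by group]
    have hzC : z ∈ Subgroup.centralizer ({t} : Set G) := mem_cent.2 hzt
    exact Subgroup.mem_inf.2 ⟨Subgroup.mul_mem _ (Subgroup.inv_mem _ h1) (oddW_normal X.z_comm_rep h1),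
      Subgroup.mul_mem _ (Subgroup.inv_mem _ h2)
        (Subgroup.mul_mem _ (Subgroup.mul_mem _ hzC h2) (Subgroup.inv_mem _ hzC))⟩
  have hinj : Function.Injective fun k : ↥(oddW (φ x) ⊓ Subgroup.centralizer ({t} : Set G)) =>
      (⟨_, hstep k⟩ : ↥(oddW (φ x) ⊓ Subgroup.centralizer ({t} : Set G))) := by
    intro k l h
    have e : (k : G)⁻¹ * z * k * z⁻¹ = (l : G)⁻¹ * z * l * z⁻¹ := congrArg Subtype.val h
    have hkl : ((l : G) * (k : G)⁻¹) * z = z * (l * (k : G)⁻¹) := by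
      calc (l : G) * (k : G)⁻¹ * z = l * ((k : G)⁻¹ * z * k * z⁻¹) * z * (k : G)⁻¹ := by group
        _ = z * (l * (k : G)⁻¹) := by rw [e]; group
    have hm : (l : G) * (k : G)⁻¹ ∈ oddW (φ x) ⊓ Subgroup.centralizer ({t} : Set G) :=
      mul_mem l.2 (inv_mem k.2)
    obtain ⟨hm1, hm2⟩ := Subgroup.mem_inf.1 hm
    have h1 := X.eq_one_of_odd_tau hkl (by
      have h2 := mem_cent.1 hm2
      rcases ht with rfl | rfl
      · exact h2
      · calc (l : G) * (k : G)⁻¹ * φ tau = z * (z * ((l : G) * (k : G)⁻¹ * φ tau)) := by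
              rw [← mul_assoc z, X.z_sq, one_mul]
          _ = z * ((l : G) * (k : G)⁻¹ * (z * φ tau)) := by
              rw [← mul_assoc z ((l : G) * (k : G)⁻¹), ← hkl, mul_assoc ((l : G) * (k : G)⁻¹)]
          _ = φ tau * ((l : G) * (k : G)⁻¹) := by rw [h2, mul_assoc z, ← mul_assoc z, X.z_sq, one_mul])
      ⟨_, odd_oddW (φ x), oddW_pow _ hm1⟩
    exact Subtype.ext (mul_inv_eq_one.1 h1).symm
  obtain ⟨k, hk⟩ := (Finite.injective_iff_surjective.1 hinj) ⟨y, Subgroup.mem_inf.2 ⟨hy, mem_cent.2 hyt⟩⟩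
  have hy' : (k : G)⁻¹ * z * k * z⁻¹ = y := congrArg Subtype.val hk
  have hinv : z * y * z⁻¹ = y⁻¹ := by
    rw [← hy']; simp [_root_.mul_inv_rev, hzi, mul_assoc, X.z_sq]
  refine ⟨?_, hyt, hinv⟩
  obtain ⟨g, hgz, hgt⟩ := X.exists_swap
  rcases ht with rfl | rfl
  · obtain ⟨c, hc, h3⟩ := (X.conjFrame g).cube_of_odd (y := y) (by rw [hgz]; exact hyt)
      ⟨_, odd_oddW _, oddW_pow _ hy⟩
    rw [← hc, ← map_mul, ← map_mul, h3, map_one]
  · obtain ⟨g', hgz', hgt'⟩ := X.preAlpha.exists_swap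
    have ez : φ (alpha tau) = z * φ tau := by rw [alpha_facts.2.2.1, map_mul, X.hz]
    obtain ⟨c, hc, h3⟩ := (X.preAlpha.conjFrame g').cube_of_odd (y := y)
      (by rw [hgz']; show y * φ (alpha tau) = φ (alpha tau) * y; rw [ez]; exact hyt)
      ⟨_, odd_oddW _, oddW_pow _ hy⟩
    rw [← hc, ← map_mul, ← map_mul, h3, map_one]

/-- The order of a `T`-invariant subgroup of odd order. -/
theorem card_T {K : Subgroup G} (hodd : Odd (Nat.card K)) (hz : ∀ y ∈ K, z * y * z⁻¹ ∈ K)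
    (ht : ∀ y ∈ K, φ tau * y * (φ tau)⁻¹ ∈ K) :
    Nat.card K = Nat.card ↥(K ⊓ Subgroup.centralizer ({z} : Set G)) *
      Nat.card ↥(K ⊓ Subgroup.centralizer ({φ tau} : Set G)) *
      Nat.card ↥(K ⊓ Subgroup.centralizer ({z * φ tau} : Set G)) := by
  haveI : Fact (Nat.Prime 2) := ⟨Nat.prime_two⟩
  have ht1 : φ tau ≠ 1 := fun h => tau_facts.2.2.2.1 (X.inj (by rw [h, map_one]))
  have hzt : φ tau ≠ z := fun h => tau_facts.2.2.2.2.1 (X.inj (by rw [h, X.hz]))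
  have hcyc : ∀ {u v : G}, u * u = 1 → v ≠ 1 → v ≠ u → v ∉ Subgroup.zpowers u := by
    intro u v hu hv hne hmem
    obtain ⟨i, rfl⟩ := Subgroup.mem_zpowers_iff.1 hmem
    rcases Int.even_or_odd' i with ⟨j, rfl | rfl⟩
    · exact hv (by rw [zpow_mul, zpow_two, hu, one_zpow])
    · exact hne (by rw [zpow_add, zpow_mul, zpow_two, hu, one_zpow, one_mul, zpow_one])
  have hK : ¬ 2 ∣ Nat.card K := Nat.not_even_iff_odd.2 hodd ∘ even_iff_two_dvd.2
  have hpow : ∀ y ∈ K, y ^ Nat.card K = 1 := fun y hy =>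
    congrArg Subtype.val (pow_card_eq_one' (x := (⟨y, hy⟩ : K)))
  have h := CfsgLib.StructB.FixProd.coset_formula (p := 2) (x := φ tau) (z := z)
    (by rw [pow_two, X.t_sq]) (by rw [pow_two, X.z_sq]) X.t_comm
    (hcyc X.z_sq ht1 hzt) (hcyc X.t_sq X.z_ne (Ne.symm hzt)) hK (mem_normalizer_fintype ht)
    (mem_normalizer_fintype hz)
  have h1 : Nat.card ↥(K ⊓ Subgroup.centralizer ({φ tau, z} : Set G)) = 1 := by
    rw [Subgroup.card_eq_one, Subgroup.eq_bot_iff_forall]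
    rintro y ⟨hy, hc⟩
    refine X.eq_one_of_odd_tau ((Subgroup.mem_centralizer_iff.1 hc z (by simp)).symm)
      ((Subgroup.mem_centralizer_iff.1 hc _ (by simp)).symm) ⟨_, hodd, hpow y hy⟩
  rw [h1, one_pow, mul_one, Finset.prod_range_succ, Finset.prod_range_one, pow_zero, mul_one, pow_one,
    X.t_comm] at h
  rw [h, mul_assoc]

theorem oddW_z_inv {x : Cm} {y : G} (hy : y ∈ oddW (φ x)) : z * y * z⁻¹ ∈ oddW (φ x) :=
  oddW_normal X.z_comm_rep hy

theorem oddW_t_inv {x : Cm} (hx : x ∈ reps) {y : G} (hy : y ∈ oddW (φ x)) :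
    φ tau * y * (φ tau)⁻¹ ∈ oddW (φ x) := oddW_norm (Or.inr (X.tau_rep hx)) hy

/-- The order of the odd core. -/
theorem card_oddW {x : Cm} (hx : x ∈ reps) :
    Nat.card (oddW (φ x)) = Nat.card ↥(oddW (φ x) ⊓ Subgroup.centralizer ({z} : Set G)) *
      Nat.card ↥(oddW (φ x) ⊓ Subgroup.centralizer ({φ tau} : Set G)) *
      Nat.card ↥(oddW (φ x) ⊓ Subgroup.centralizer ({z * φ tau} : Set G)) :=
  X.card_T (odd_oddW _) (fun _ hy => X.oddW_z_inv hy) (fun _ hy => X.oddW_t_inv hx hy)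

end Cfg

end CfsgLib.Recog.G2TwoLocal
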