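import Mathlib.GroupTheory.QuotientGroup.Basic
import Mathlib.GroupTheory.Coset.Card
import Mathlib.Tactic

/-!
An element of cube one acting on a group which is elementary abelian modulo a fixed central subgroup
has many fixed points: the commutator map is nilpotent of index three.
-/

set_option autoImplicit false
set_option linter.unusedSectionVars false

namespace CfsgLib.Recog.G2TwoLocal

theorem card_ker_comp_le {V : Type*} [Group V] [Finite V] (f h : V →* V) :
    Nat.card (f.comp h).ker ≤ Nat.card f.ker * Nat.card h.ker := by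
  let r : (f.comp h).ker →* f.ker := (h.comp (f.comp h).ker.subtype).codRestrict f.ker fun x => x.2
  have h1 := Subgroup.card_eq_card_quotient_mul_card_subgroup r.ker
  have h2 : Nat.card ((f.comp h).ker ⧸ r.ker) ≤ Nat.card f.ker := by
    rw [Nat.card_congr (QuotientGroup.quotientKerEquivRange r).toEquiv]
    exact Subgroup.card_le_card_group _
  have h3 : Nat.card r.ker ≤ Nat.card h.ker :=
    Nat.card_le_card_of_injective (fun x => (⟨x.1.1, congrArg Subtype.val x.2⟩ : h.ker))
      fun x y hxy => Subtype.ext (Subtype.ext (congrArg (fun u : h.ker => (u : V)) hxy))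
  rw [h1]
  exact Nat.mul_le_mul h2 h3

theorem cube_identity {V : Type*} [CommGroup V] (v x y : V) :
    v / y / (y / x) / (y / x / (x / v)) = x ^ 3 / y ^ 3 := by
  apply Additive.ofMul.injective
  simp only [ofMul_div, ofMul_pow]
  abel

/-- The fixed points modulo `D` of an element of cube one are many. -/
theorem chain_bound {G : Type*} [Group G] [Finite G] {W D K : Subgroup G} {b : G} (hDW : D ≤ W)
    (hcen : ∀ y ∈ W, ∀ d ∈ D, y * d * y⁻¹ = d)
    (hab : ∀ y ∈ W, ∀ y' ∈ W, y * y' * y⁻¹ * y'⁻¹ ∈ D) (hcube : ∀ y ∈ W, y ^ 3 ∈ D)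
    (hb : ∀ y ∈ W, b * y * b⁻¹ ∈ W) (hbD : ∀ d ∈ D, b * d * b⁻¹ = d) (hb3 : b ^ 3 = 1)
    (hK : ∀ y ∈ W, b * y * b⁻¹ * y⁻¹ ∈ D → y ∈ K) :
    Nat.card W * Nat.card D ^ 2 ≤ Nat.card ↥(W ⊓ K) ^ 3 := by
  classical
  have hn : (D.subgroupOf W).Normal := ⟨fun d hd y => Subgroup.mem_subgroupOf.2 (by
    show (y : G) * (d : G) * (y : G)⁻¹ ∈ D
    rw [hcen _ y.2 _ (Subgroup.mem_subgroupOf.1 hd)]
    exact Subgroup.mem_subgroupOf.1 hd)⟩
  let _ : CommGroup (W ⧸ D.subgroupOf W) :=
    { (inferInstance : Group (W ⧸ D.subgroupOf W)) with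
      mul_comm := by
        intro u v
        obtain ⟨u, rfl⟩ := QuotientGroup.mk_surjective u
        obtain ⟨v, rfl⟩ := QuotientGroup.mk_surjective v
        rw [← QuotientGroup.mk_mul, ← QuotientGroup.mk_mul, QuotientGroup.eq, Subgroup.mem_subgroupOf]
        show ((u : G) * (v : G))⁻¹ * ((v : G) * (u : G)) ∈ D
        rw [show ((u : G) * v)⁻¹ * ((v : G) * u) = (v : G)⁻¹ * (u : G)⁻¹ * ((v : G)⁻¹)⁻¹ * ((u : G)⁻¹)⁻¹ by
          group]
        exact hab _ (inv_mem v.2) _ (inv_mem u.2) }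
  let cb : W →* W :=
    MonoidHom.mk' (fun y => ⟨b * y * b⁻¹, hb y y.2⟩) fun u v => Subtype.ext (by
      show b * ((u : G) * v) * b⁻¹ = b * u * b⁻¹ * (b * v * b⁻¹)
      group)
  let L : (W ⧸ D.subgroupOf W) →* (W ⧸ D.subgroupOf W) :=
    QuotientGroup.map _ _ cb (fun d hd => Subgroup.mem_subgroupOf.2 (by
      show b * (d : G) * b⁻¹ ∈ D
      rw [hbD _ (Subgroup.mem_subgroupOf.1 hd)]; exact Subgroup.mem_subgroupOf.1 hd))
  have hL : ∀ v, L (L (L v)) = v := by
    intro v
    obtain ⟨v, rfl⟩ := QuotientGroup.mk_surjective v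
    show QuotientGroup.mk (cb (cb (cb v))) = QuotientGroup.mk v
    congr 1
    refine Subtype.ext ?_
    show b * (b * (b * (v : G) * b⁻¹) * b⁻¹) * b⁻¹ = v
    calc b * (b * (b * (v : G) * b⁻¹) * b⁻¹) * b⁻¹ = b ^ 3 * v * (b ^ 3)⁻¹ := by
          simp [pow_succ, mul_assoc]
      _ = v := by rw [hb3]; group
  have hv3 : ∀ v : W ⧸ D.subgroupOf W, v ^ 3 = 1 := by
    intro v
    obtain ⟨v, rfl⟩ := QuotientGroup.mk_surjective v
    rw [← QuotientGroup.mk_pow, QuotientGroup.eq_one_iff, Subgroup.mem_subgroupOf, Subgroup.coe_pow]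
    exact hcube _ v.2
  let f : (W ⧸ D.subgroupOf W) →* (W ⧸ D.subgroupOf W) := L / MonoidHom.id _
  have hf : ∀ v, f v = L v / v := fun v => rfl
  have hfff : f.comp (f.comp f) = 1 := by
    refine MonoidHom.ext fun v => ?_
    show f (f (f v)) = 1
    simp only [hf, map_div, hL]
    have e1 := hv3 (L v)
    have e2 := hv3 (L (L v))
    calc v / L (L v) / (L (L v) / L v) / (L (L v) / L v / (L v / v))
        = (L v) ^ 3 / (L (L v)) ^ 3 := cube_identity _ _ _
      _ = 1 := by rw [e1, e2, div_one]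
  have h3 : Nat.card (W ⧸ D.subgroupOf W) ≤ Nat.card f.ker ^ 3 := by
    have e : Nat.card (f.comp (f.comp f)).ker = Nat.card (W ⧸ D.subgroupOf W) := by
      rw [hfff, MonoidHom.ker_one, Subgroup.card_top]
    have a1 := card_ker_comp_le f (f.comp f)
    have a2 := card_ker_comp_le f f
    rw [e] at a1
    calc _ ≤ _ := a1
      _ ≤ Nat.card f.ker * (Nat.card f.ker * Nat.card f.ker) := Nat.mul_le_mul_left _ a2
      _ = _ := by ring
  have hW : Nat.card W = Nat.card (W ⧸ D.subgroupOf W) * Nat.card D := by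
    rw [Subgroup.card_eq_card_quotient_mul_card_subgroup (D.subgroupOf W),
      Nat.card_congr (Subgroup.subgroupOfEquivOfLe hDW).toEquiv]
  have hker : Nat.card f.ker * Nat.card D ≤ Nat.card ↥(W ⊓ K) := by
    obtain ⟨P, rfl⟩ : ∃ P, P = f.ker.comap (QuotientGroup.mk' (D.subgroupOf W)) := ⟨_, rfl⟩
    have hcard : Nat.card (f.ker.comap (QuotientGroup.mk' (D.subgroupOf W))) = Nat.card f.ker * Nat.card D := by
      have hle : D.subgroupOf W ≤ f.ker.comap (QuotientGroup.mk' (D.subgroupOf W)) := fun d hd => by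
        rw [Subgroup.mem_comap, show QuotientGroup.mk' (D.subgroupOf W) d = 1 from
          (QuotientGroup.eq_one_iff d).2 hd]
        exact one_mem _
      have h := Subgroup.card_eq_card_quotient_mul_card_subgroup ((D.subgroupOf W).subgroupOf (f.ker.comap (QuotientGroup.mk' (D.subgroupOf W))))
      rw [Nat.card_congr (Subgroup.subgroupOfEquivOfLe hle).toEquiv,
        Nat.card_congr (Subgroup.subgroupOfEquivOfLe hDW).toEquiv] at h
      rw [h]
      congr 1
      let r : f.ker.comap (QuotientGroup.mk' (D.subgroupOf W)) →* f.ker :=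
        ((QuotientGroup.mk' (D.subgroupOf W)).comp (f.ker.comap (QuotientGroup.mk' (D.subgroupOf W))).subtype).codRestrict f.ker
          fun p => p.2
      have hr : Function.Surjective r := by
        rintro ⟨v, hv⟩
        obtain ⟨w, rfl⟩ := QuotientGroup.mk_surjective v
        exact ⟨⟨w, hv⟩, Subtype.ext rfl⟩
      have hrk : r.ker = (D.subgroupOf W).subgroupOf (f.ker.comap (QuotientGroup.mk' (D.subgroupOf W))) := by
        ext p
        rw [MonoidHom.mem_ker, Subtype.ext_iff, Subgroup.mem_subgroupOf]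
        exact QuotientGroup.eq_one_iff _
      rw [← hrk]
      exact Nat.card_congr (QuotientGroup.quotientKerEquivOfSurjective r hr).toEquiv
    rw [← hcard, ← Subgroup.card_map_of_injective W.subtype_injective]
    refine Subgroup.card_le_of_le ?_
    rintro _ ⟨y, hy, rfl⟩
    refine ⟨y.2, hK _ y.2 ?_⟩
    have h : L (QuotientGroup.mk y) / QuotientGroup.mk y = 1 := hy
    rw [div_eq_one] at h
    have h' : (QuotientGroup.mk (cb y) : W ⧸ D.subgroupOf W) = QuotientGroup.mk y := h
    rw [eq_comm, QuotientGroup.eq, Subgroup.mem_subgroupOf] at h'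
    have h'' : (y : G)⁻¹ * (b * y * b⁻¹) ∈ D := h'
    show b * (y : G) * b⁻¹ * (y : G)⁻¹ ∈ D
    have h3 := hcen _ y.2 _ h''
    rw [show b * (y : G) * b⁻¹ * (y : G)⁻¹ = (y : G) * ((y : G)⁻¹ * (b * y * b⁻¹)) * (y : G)⁻¹ by group,
      h3]
    exact h''
  calc Nat.card W * Nat.card D ^ 2
      = Nat.card (W ⧸ D.subgroupOf W) * Nat.card D ^ 3 := by rw [hW]; ring
    _ ≤ Nat.card f.ker ^ 3 * Nat.card D ^ 3 := Nat.mul_le_mul_right _ h3
    _ = (Nat.card f.ker * Nat.card D) ^ 3 := by ring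
    _ ≤ _ := Nat.pow_le_pow_left hker 3

end CfsgLib.Recog.G2TwoLocal
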