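import Cfsg.Agent.Lib.Recog.U4Two.Data

/-!
The group `(SL_2(3) ∘ SL_2(3)).2` of order 576 whose outer involution normalises both factors, the
centralizer of an involution of `G_2(3)`, as a multiplication on codes `(s * 24 + x) * 12 + y`: the
code stands for `(x, y) · τ^s`, where `τ` is the conjugation by `diag(1,-1)` on both factors.
-/

set_option autoImplicit false

namespace CfsgLib.Recog.G2TwoLocal

open CfsgLib.Recog.U4Two (tm ti)

/-- Conjugation by `diag(1,-1)` on the codes of `SL_2(3)`. -/
def th (i : ℕ) : ℕ :=
  ([0, 13, 15, 14, 5, 4, 9, 11, 10, 6, 8, 7, 12, 1, 3, 2, 17, 16, 21, 23, 22, 18, 20, 19] : List ℕ).getD i 0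

/-- A power of `th`. -/
def thp (s i : ℕ) : ℕ := if s = 0 then i else th i

/-- The code of the negative. -/
def ng (i : ℕ) : ℕ := (i + 12) % 24

/-- The elements of `SL_2(3)` as words in two generators, the codes `6` and `4`. -/
def wordL : List (List Bool) :=
  [[], [false, true, true, false], [false, true, true], [true, false, true, true], [true], [true, true],
   [false], [true, false], [true, true, false], [false, false], [true, false, false],
   [true, true, false, false], [false, true, false, true], [true, false, false, true],
   [false, false, true, false], [false, false, true], [false, true, false, true, true], [false, true, false],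
   [false, false, true, false, true], [false, false, true, true], [false, true, false, false],
   [true, false, true], [true, true, false, true], [false, true]]

/-- The map given by the images of the two generators. -/
def ext (p q i : ℕ) : ℕ := (wordL.getD i []).foldl (fun acc b => tm acc (if b then q else p)) 0

/-- An element of the group of order 576. -/
structure Cm where
  code : Fin 576
deriving DecidableEq

instance : Fintype Cm :=
  Fintype.ofEquiv (Fin 576) ⟨Cm.mk, Cm.code, fun _ => rfl, fun _ => rfl⟩

namespace Cm

/-- The outer part. -/
def sOf (p : Cm) : ℕ := p.code.val / 288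

/-- The first coordinate. -/
def xOf (p : Cm) : ℕ := p.code.val / 12 % 24

/-- The second coordinate. -/
def yOf (p : Cm) : ℕ := p.code.val % 12

/-- The element with given coordinates, normalised. -/
def ofSXY (s x y : ℕ) : Cm :=
  ⟨if y < 12 then Fin.ofNat 576 ((s * 24 + x) * 12 + y)
    else Fin.ofNat 576 ((s * 24 + ng x) * 12 + (y - 12))⟩

instance : One Cm := ⟨⟨0⟩⟩

instance : Mul Cm := ⟨fun p q =>
  ofSXY ((p.sOf + q.sOf) % 2) (tm p.xOf (thp p.sOf q.xOf)) (tm p.yOf (thp p.sOf q.yOf))⟩

instance : Inv Cm := ⟨fun p => ofSXY p.sOf (thp p.sOf (ti p.xOf)) (thp p.sOf (ti p.yOf))⟩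

/-- The central involution. -/
def zc : Cm := ofSXY 0 12 0

/-- The outer involution `τ`. -/
def tau : Cm := ofSXY 1 0 0

/-- The element with a given code. -/
def ofCode (n : ℕ) : Cm := ⟨Fin.ofNat 576 n⟩

end Cm

end CfsgLib.Recog.G2TwoLocal
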