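import Cfsg.Agent.Lib.Recog.G2TwoLocal.Group
import Mathlib.GroupTheory.Perm.Sign
import Mathlib.Algebra.Group.Subgroup.Basic
import Mathlib.GroupTheory.Perm.Fin

/-!
Facts about the model used in the exceptional character case: the Sylow 3-subgroup, the map onto
`S_3` and the 72 outer involutions.
-/

set_option autoImplicit false
set_option maxRecDepth 100000
set_option linter.all false

namespace CfsgLib.Recog.G2TwoLocal

open CfsgLib.Recog.U4Two (tm tm_lt)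

/-- The class of a code of `SL_2(3)` modulo the quaternion group. -/
def lab (i : ℕ) : ℕ :=
  ([0, 0, 2, 1, 2, 1, 1, 0, 2, 2, 1, 0, 0, 0, 2, 1, 2, 1, 1, 0, 2, 2, 1, 0] : List ℕ).getD i 0

/-- The element of `S_3` with given coordinates. -/
def sThree (s i : ℕ) : Equiv.Perm (Fin 3) :=
  (Equiv.addRight (1 : Fin 3)) ^ i * (if s = 0 then 1 else Equiv.swap 1 2)

theorem lab_ng : ∀ i : Fin 24, lab (ng i) = lab i := by decide +kernel

theorem sThree_mul : ∀ s s' : Fin 2, ∀ x x' : Fin 24,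
    sThree ((s + s' : ℕ) % 2) (lab (tm x (thp s x'))) = sThree s (lab x) * sThree s' (lab x') := by
  decide +kernel

/-- The map of the model onto `S_3`. -/
def piFun (p : Cm) : Equiv.Perm (Fin 3) := sThree p.sOf (lab p.xOf)

theorem piFun_ofSXY {s x y : ℕ} (hs : s < 2) (hx : x < 24) (hy : y < 24) :
    piFun (Cm.ofSXY s x y) = sThree s (lab x) := by
  obtain ⟨h1, h | h⟩ := Cm.coords_ofSXY hs hx hy <;> rw [piFun, h1, h.1]
  rw [lab_ng ⟨x, hx⟩]

/-- The map of the model onto `S_3` as a homomorphism. -/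
def piHom : Cm →* Equiv.Perm (Fin 3) :=
  MonoidHom.mk' piFun fun p q => by
    rw [Cm.mul_def, piFun_ofSXY (Nat.mod_lt _ (by omega))
      (tm_lt p.xOf_lt (thp_lt _ q.xOf_lt)) (tm_lt p.yOf_lt' (thp_lt _ q.yOf_lt'))]
    exact sThree_mul ⟨_, p.sOf_lt⟩ ⟨_, q.sOf_lt⟩ ⟨_, p.xOf_lt⟩ ⟨_, q.xOf_lt⟩

theorem piFun_surj : ∀ σ : Equiv.Perm (Fin 3), ∃ s : Fin 2, ∃ x : Fin 24,
    sThree s (lab x) = σ := by decide +kernel

theorem piHom_surjective : Function.Surjective piHom := by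
  intro σ
  obtain ⟨s, x, h⟩ := piFun_surj σ
  exact ⟨Cm.ofSXY s x 0, (piFun_ofSXY s.2 x.2 (by norm_num)).trans h⟩

theorem sign_sThree : ∀ s : Fin 2, ∀ x : Fin 24,
    Equiv.Perm.sign (sThree s (lab x)) = if (s : ℕ) = 0 then 1 else -1 := by decide +kernel

theorem sign_piHom (p : Cm) : Equiv.Perm.sign (piHom p) = if p.sOf = 0 then 1 else -1 :=
  sign_sThree ⟨_, p.sOf_lt⟩ ⟨_, p.xOf_lt⟩

theorem outer_count :
    ((Finset.univ : Finset (Fin 576)).filter fun n =>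
      (⟨n⟩ : Cm).sOf = 1 ∧ (⟨n⟩ : Cm) * ⟨n⟩ = 1).card = 72 := by decide +kernel

/-- Membership in the Sylow 3-subgroup. -/
def inP (p : Cm) : Bool := ([0, 6, 9, 72, 78, 81, 108, 114, 117] : List ℕ).contains p.code.val

theorem inP_list : ∀ n : Fin 576, inP ⟨n⟩ = true →
    n ∈ ([0, 6, 9, 72, 78, 81, 108, 114, 117] : List (Fin 576)) := by decide +kernel

theorem inP_closed : ∀ a ∈ ([0, 6, 9, 72, 78, 81, 108, 114, 117] : List (Fin 576)),
    inP (⟨a⟩ : Cm)⁻¹ = true ∧ (⟨a⟩ : Cm) ^ 3 = 1 ∧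
    ∀ b ∈ ([0, 6, 9, 72, 78, 81, 108, 114, 117] : List (Fin 576)),
      inP ((⟨a⟩ : Cm) * ⟨b⟩) = true := by decide +kernel

theorem inP_count : ((Finset.univ : Finset (Fin 576)).filter fun n => inP ⟨n⟩).card = 9 := by
  decide +kernel

/-- The Sylow 3-subgroup of the model. -/
def pSub : Subgroup Cm where
  carrier := {p | inP p = true}
  one_mem' := by decide +kernel
  mul_mem' := fun {a b} ha hb =>
    (inP_closed a.code (inP_list _ ha)).2.2 b.code (inP_list _ hb)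
  inv_mem' := fun {a} ha => (inP_closed a.code (inP_list _ ha)).1

theorem cube_pSub {a : Cm} (h : a ∈ pSub) : a ^ 3 = 1 :=
  (inP_closed a.code (inP_list _ h)).2.1

/-- The first generator of the Sylow 3-subgroup. -/
def p72 : Cm := ⟨72⟩

/-- The second generator of the Sylow 3-subgroup. -/
def p6 : Cm := ⟨6⟩

theorem gens_pSub : p72 ∈ pSub ∧ p6 ∈ pSub ∧ p72 ≠ 1 := by
  refine ⟨?_, ?_, ?_⟩
  · show inP p72 = true
    decide +kernel
  · show inP p6 = true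
    decide +kernel
  · decide +kernel

theorem invol_comm_pSub : ∀ n : Fin 576, (⟨n⟩ : Cm) * ⟨n⟩ = 1 →
    (⟨n⟩ : Cm) * p72 = p72 * ⟨n⟩ → (⟨n⟩ : Cm) * p6 = p6 * ⟨n⟩ →
      (⟨n⟩ : Cm) = 1 ∨ (⟨n⟩ : Cm) = Cm.zc := by decide +kernel

theorem zc_comm : ∀ n : Fin 576, (⟨n⟩ : Cm) * Cm.zc = Cm.zc * ⟨n⟩ := by decide +kernel

theorem natCard_cm : Nat.card Cm = 576 := by
  rw [Nat.card_congr (⟨Cm.code, Cm.mk, fun _ => rfl, fun _ => rfl⟩ : Cm ≃ Fin 576), Nat.card_fin]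

theorem natCard_pSub : Nat.card pSub = 9 := by
  rw [← inP_count, ← Fintype.card_subtype, ← Nat.card_eq_fintype_card]
  exact Nat.card_congr
    ((⟨Cm.code, Cm.mk, fun _ => rfl, fun _ => rfl⟩ : Cm ≃ Fin 576).subtypeEquiv fun _ => Iff.rfl)

theorem natCard_outer :
    Nat.card {p : Cm // p * p = 1 ∧ Equiv.Perm.sign (piHom p) = -1} = 72 := by
  rw [← outer_count, ← Fintype.card_subtype, ← Nat.card_eq_fintype_card]
  refine Nat.card_congr
    ((⟨Cm.code, Cm.mk, fun _ => rfl, fun _ => rfl⟩ : Cm ≃ Fin 576).subtypeEquiv fun p => ?_)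
  rw [sign_piHom]
  have := p.sOf_lt
  constructor
  · rintro ⟨h1, h2⟩
    refine ⟨?_, h1⟩
    show p.sOf = 1
    by_contra h
    rw [if_pos (by omega : p.sOf = 0)] at h2
    exact absurd h2 (by decide)
  · rintro ⟨h1, h2⟩
    have h1' : p.sOf = 1 := h1
    exact ⟨h2, by rw [if_neg (by omega : ¬ p.sOf = 0)]⟩

end CfsgLib.Recog.G2TwoLocal
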