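import Cfsg.Agent.Lib.Recog.G2TwoLocal.Setup
import Cfsg.Agent.Lib.Recog.G2TwoLocal.ExcFacts
import Cfsg.Agent.Lib.Recog.G23.Theta

/-!
Some element of order 3 of the involution centraliser is centralised outside it.
-/

set_option autoImplicit false
set_option linter.all false

namespace CfsgLib.Recog.G2TwoLocal

open Subgroup CfsgLib.Recog.G23

variable {G : Type*} [Group G] [Finite G] {z : G} {φ : Cm →* G}

theorem Cfg.sq_z (X : Cfg z φ) : z * z = 1 := by
  rw [← X.hz, ← map_mul, show Cm.zc * Cm.zc = 1 by decide +kernel, map_one]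

theorem Cfg.z_ne_one (X : Cfg z φ) : z ≠ 1 := by
  rw [← X.hz, ← map_one φ]
  exact fun h => absurd (X.inj h) (by decide +kernel)

theorem Cfg.mem_range (X : Cfg z φ) (g : G) : g ∈ φ.range ↔ g * z = z * g := by
  rw [X.range, MonoidHom.mem_range]

theorem Cfg.card_range (X : Cfg z φ) : Nat.card φ.range = 576 := by
  rw [← natCard_cm, Nat.card_congr (MonoidHom.ofInjective X.inj).toEquiv.symm]

/-- The index of the centraliser is odd. -/
theorem Cfg.odd_index (X : Cfg z φ) : ¬ 2 ∣ φ.range.index := by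
  haveI : Fact (Nat.Prime 2) := ⟨Nat.prime_two⟩
  intro h2
  obtain ⟨Q⟩ : Nonempty (Sylow 2 G) := inferInstance
  have hG : Nat.card G = φ.range.index * 576 := by
    rw [← X.card_range, Subgroup.index_mul_card]
  have hQ : 2 ^ 7 ∣ Nat.card Q := by
    refine Q.pow_dvd_card_of_pow_dvd_card ?_
    obtain ⟨k, hk⟩ := h2
    exact ⟨k * 9, by rw [hG, hk]; ring⟩
  have hnt : Nontrivial Q := by
    rw [← Finite.one_lt_card_iff_nontrivial]
    have := Nat.le_of_dvd Nat.card_pos hQ
    omega
  haveI := Q.isPGroup'.center_nontrivial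
  have hdvd : 2 ∣ Nat.card (center Q) := by
    obtain ⟨j, hj, hj'⟩ :=
      (Q.isPGroup'.to_subgroup (center Q)).nontrivial_iff_card.mp inferInstance
    exact hj' ▸ dvd_pow_self 2 (by omega)
  obtain ⟨w, hw⟩ := exists_prime_orderOf_dvd_card' 2 hdvd
  have hw' : orderOf ((w : Q) : G) = 2 := by rw [orderOf_coe, orderOf_coe, hw]
  obtain ⟨g, hg⟩ := X.oneClass ((w : Q) : G)
    (by rw [← sq]; exact orderOf_dvd_iff_pow_eq_one.mp hw'.dvd)
    (fun h => by rw [h, orderOf_one] at hw'; omega)
  have hle : (Q : Subgroup G).map (MulAut.conj g⁻¹).toMonoidHom ≤ φ.range := by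
    rintro _ ⟨q, hq, rfl⟩
    rw [X.mem_range]
    have hc : q * ((w : Q) : G) = ((w : Q) : G) * q :=
      congrArg Subtype.val (mem_center_iff.mp w.2 ⟨q, hq⟩)
    rw [← hg] at hc
    have h := congrArg (fun x => g⁻¹ * x * g) hc
    simpa [MulAut.conj_apply, mul_assoc] using h
  have h := card_dvd_of_le hle
  rw [card_map_of_injective (MulAut.conj g⁻¹).injective, X.card_range] at h
  have := hQ.trans h
  norm_num at this

/-- The exceptional case does not occur. -/
theorem Cfg.exists_escape (X : Cfg z φ) :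
    ∃ c : Cm, c ^ 3 = 1 ∧ c ≠ 1 ∧ ∃ g : G, g * φ c = φ c * g ∧ g * z ≠ z * g := by
  by_contra hc
  push Not at hc
  haveI : Fintype φ.range := Fintype.ofFinite _
  let e : Cm ≃* φ.range := MonoidHom.ofInjective X.inj
  have he : ∀ c, ((e c : φ.range) : G) = φ c := fun c => rfl
  have cent : ∀ x ∈ φ.range, x ^ 3 = 1 → x ≠ 1 → ∀ g : G, g * x = x * g → g ∈ φ.range := by
    rintro _ ⟨c, rfl⟩ h3 h1 g hg
    rw [← map_pow] at h3
    exact (X.mem_range g).mpr (hc c (X.inj (h3.trans (map_one φ).symm))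
      (fun h => h1 (by rw [h, map_one])) g hg)
  have hP : normalizer (pSub.map φ : Set G) ≤ φ.range := by
    intro n hn
    have hz' : ∀ p ∈ pSub, (n * z * n⁻¹) * φ p = φ p * (n * z * n⁻¹) := by
      intro p hp
      have hm : n⁻¹ * φ p * n ∈ pSub.map φ := by
        have := (mem_normalizer_iff''.mp hn (φ p)).mp (mem_map_of_mem φ hp)
        exact this
      obtain ⟨q, -, hq⟩ := hm
      have hzq : z * φ q = φ q * z := ((X.range _).mpr ⟨q, rfl⟩).symm
      rw [hq] at hzq
      calc n * z * n⁻¹ * φ p = n * (z * (n⁻¹ * φ p * n)) * n⁻¹ := by group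
        _ = n * ((n⁻¹ * φ p * n) * z) * n⁻¹ := by rw [hzq]
        _ = φ p * (n * z * n⁻¹) := by group
    obtain ⟨h72, h6, h721⟩ := gens_pSub
    have hzH : n * z * n⁻¹ ∈ φ.range :=
      cent (φ p72) ⟨_, rfl⟩ (by rw [← map_pow, cube_pSub h72, map_one])
        (fun h => h721 (X.inj (h.trans (map_one φ).symm))) _ (hz' _ h72)
    obtain ⟨c, hcz⟩ := hzH
    have hcomm : ∀ p ∈ pSub, c * p = p * c := fun p hp => X.inj (by
      rw [map_mul, map_mul, hcz]; exact hz' p hp)
    have hsq : c * c = 1 := X.inj (by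
      rw [map_mul, hcz, map_one, show n * z * n⁻¹ * (n * z * n⁻¹) = n * (z * z) * n⁻¹ by group,
        X.sq_z]
      group)
    rcases invol_comm_pSub c.code hsq (hcomm _ h72) (hcomm _ h6) with h | h
    · exfalso
      rw [show c = 1 from h, map_one] at hcz
      exact X.z_ne_one (conj_eq_one_iff.mp hcz.symm)
    · rw [show c = Cm.zc from h, X.hz] at hcz
      rw [X.mem_range]
      exact eq_mul_inv_iff_mul_eq.mp hcz |>.symm
  have D : ExcData z φ.range (pSub.map φ) :=
    { z_ne := X.z_ne_one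
      z_sq := X.sq_z
      mem_H := X.mem_range
      card_H := X.card_range
      P_le := map_le_range φ _
      card_P := by rw [card_map_of_injective X.inj, natCard_pSub]
      norm_P := hP
      cent := cent
      odd := X.odd_index
      seven := X.seven
      conj_invol := fun u h1 h2 => isConj_iff.mpr (X.oneClass u h2 h1) }
  refine D.false_of_map (piHom.comp e.symm.toMonoidHom)
    (piHom_surjective.comp e.symm.surjective) ?_
  rw [← natCard_outer]
  refine Nat.card_congr (e.symm.toEquiv.subtypeEquiv fun a => ?_)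
  simp only [MulEquiv.toEquiv_eq_coe, EquivLike.coe_coe, MonoidHom.coe_comp, Function.comp_apply,
    MulEquiv.coe_toMonoidHom]
  rw [← map_mul, MulEquiv.map_eq_one_iff]

/-- The same, as a contradiction. -/
theorem Cfg.false_of_small (X : Cfg z φ)
    (hcent : ∀ c : Cm, c ^ 3 = 1 → c ≠ 1 → ∀ g : G, g * φ c = φ c * g → g * z = z * g) :
    False := by
  obtain ⟨c, h3, h1, g, hg, hz⟩ := X.exists_escape
  exact hz (hcent c h3 h1 g hg)

end CfsgLib.Recog.G2TwoLocal
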