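import Cfsg.Agent.Lib.Recog.G2TwoLocal.Group

/-!
Facts on `SL_2(3)` and on homomorphisms of it into a group, used to set up the model of the
centralizer.
-/

set_option autoImplicit false
set_option maxRecDepth 100000

namespace CfsgLib.Recog.G2TwoLocal

open CfsgLib.Recog.U4Two (tm ti tm_lt decZ decZ_mul decZ_inv decZ_inj decZ_surj decZ_zero decZ_neg)
open scoped MatrixGroups

/-- Conjugation on codes. -/
def cj (i k : ℕ) : ℕ := tm (tm i k) (ti i)

/-- Equal up to sign. -/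
def peq (a b : ℕ) : Bool := a == b || a == ng b

theorem cj_lt {i k : ℕ} (hi : i < 24) (hk : k < 24) : cj i k < 24 :=
  tm_lt (tm_lt hi hk) (decZ_inv ⟨i, hi⟩).1

theorem decZ_ti {i : ℕ} (hi : i < 24) : decZ (ti i) = (decZ i)⁻¹ :=
  eq_inv_of_mul_eq_one_left (decZ_inv ⟨i, hi⟩).2

theorem decZ_cj {i k : ℕ} (hi : i < 24) (hk : k < 24) :
    decZ (cj i k) = decZ i * decZ k * (decZ i)⁻¹ := by
  rw [cj, (decZ_mul ⟨_, tm_lt hi hk⟩ ⟨_, (decZ_inv ⟨i, hi⟩).1⟩).2, (decZ_mul ⟨i, hi⟩ ⟨k, hk⟩).2,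
    decZ_ti hi]

theorem decZ_twelve : decZ 12 = -1 := by
  rw [← decZ_zero]; exact decZ_neg (0 : Fin 24)

theorem ext_base : ∀ i : Fin 24, ext 6 4 i = i := by decide +kernel

theorem auto_fact : ∀ p q : Fin 24,
    (∀ k : Fin 24, ext p q (ext p q k) = k) →
    (∀ i : Fin 24, ∃ k : Fin 24, ext p q k ≠ cj i k) →
    (∀ k : Fin 24, ext p q (tm 6 k) = tm p (ext p q k)) →
    (∀ k : Fin 24, ext p q (tm 4 k) = tm q (ext p q k)) →
    ∃ i : Fin 24, ∀ k : Fin 24, ext p q (cj i k) = cj i (th k) := by decide +kernel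

theorem sq_gen : ∀ i : Fin 24, ∃ j k : Fin 24, tm (tm j j) (tm k k) = i := by decide +kernel

theorem center_fact : ∀ i : Fin 24, (∀ j : Fin 24, tm i j = tm j i) → i = 0 ∨ i = 12 := by
  decide +kernel

theorem twelve_central : ∀ j : Fin 24, tm 12 j = tm j 12 ∧ tm 12 j = ng j := by decide +kernel

/-- Two anticommuting axes, or equal axes. -/
theorem axes_fact : ∀ i j : Fin 24, tm i i = 12 → tm j j = 12 →
    peq i j = true ∨ tm i j = ng (tm j i) := by decide +kernel

theorem no_inner_fact : ∀ i j w : Fin 24, tm i i = 12 → tm j j = 12 → tm i j = ng (tm j i) →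
    peq (cj w i) i = true → peq (cj w j) (tm i j) = true → False := by decide +kernel

theorem two_group_fact : ∀ i x : Fin 24, tm i i = 12 → peq (tm x i) (tm i x) = true →
    tm (tm x x) (tm x x) = 0 := by decide +kernel

theorem anti_exists : ∀ i : Fin 24, tm i i = 12 →
    ∃ j : Fin 24, tm j j = 12 ∧ tm i j = ng (tm j i) := by decide +kernel

theorem sq_pm_comm : ∀ i j : Fin 24, peq (tm i i) 0 = true → peq (tm j j) 0 = true →
    peq (tm i j) (tm j i) = true := by decide +kernel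

theorem order_four_fact : ∀ i : Fin 24, tm i i = 0 → i = 0 ∨ i = 12 := by decide +kernel

section Hom

variable {G : Type*} [Group G] (f : SL(2, ZMod 3) →* G)

/-- A homomorphism on codes. -/
def fc (i : ℕ) : G := f (decZ i)

theorem fc_mul {i j : ℕ} (hi : i < 24) (hj : j < 24) : fc f (tm i j) = fc f i * fc f j := by
  rw [fc, fc, fc, (decZ_mul ⟨i, hi⟩ ⟨j, hj⟩).2, map_mul]

theorem fc_zero : fc f 0 = 1 := by rw [fc, decZ_zero, map_one]

theorem fc_surj (x : SL(2, ZMod 3)) : ∃ i : Fin 24, f x = fc f i := by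
  obtain ⟨i, rfl⟩ := decZ_surj x
  exact ⟨i, rfl⟩

theorem fc_cj {i k : ℕ} (hi : i < 24) (hk : k < 24) :
    fc f (cj i k) = fc f i * fc f k * (fc f i)⁻¹ := by
  rw [fc, decZ_cj hi hk, map_mul, map_mul, map_inv]; rfl

theorem fc_ti {i : ℕ} (hi : i < 24) : fc f (ti i) = (fc f i)⁻¹ := by
  rw [fc, decZ_ti hi, map_inv]; rfl

theorem fc_ng {i : ℕ} (hi : i < 24) : fc f (ng i) = fc f 12 * fc f i := by
  rw [← fc_mul f (by norm_num) hi, (twelve_central ⟨i, hi⟩).2]

theorem fc_inj (hf : Function.Injective f) {i j : ℕ} (hi : i < 24) (hj : j < 24)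
    (h : fc f i = fc f j) : i = j := congrArg Fin.val (decZ_inj ⟨i, hi⟩ ⟨j, hj⟩ (hf h))

/-- An element normalising the image induces a map on codes. -/
theorem exists_aut {u : G}
    (hn : ∀ x : SL(2, ZMod 3), ∃ y, f y = u * f x * u⁻¹) :
    ∃ p q : Fin 24, u * fc f 6 * u⁻¹ = fc f p ∧ u * fc f 4 * u⁻¹ = fc f q ∧
      ∀ k : Fin 24, u * fc f k * u⁻¹ = fc f (ext p q k) ∧ ext p q k < 24 := by
  obtain ⟨y6, h6⟩ := hn (decZ 6)
  obtain ⟨y4, h4⟩ := hn (decZ 4)
  obtain ⟨p, hp⟩ := fc_surj f y6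
  obtain ⟨q, hq⟩ := fc_surj f y4
  refine ⟨p, q, h6.symm.trans hp, h4.symm.trans hq, fun k => ?_⟩
  have key : ∀ (w : List Bool) (a b : ℕ), a < 24 → b < 24 → u * fc f a * u⁻¹ = fc f b →
      u * fc f (w.foldl (fun acc c => tm acc (if c then (4 : ℕ) else 6)) a) * u⁻¹ =
        fc f (w.foldl (fun acc c => tm acc (if c then (q : ℕ) else p)) b) ∧
      (w.foldl (fun acc c => tm acc (if c then (q : ℕ) else p)) b) < 24 := by
    intro w
    induction w with
    | nil => exact fun a b _ hb h => ⟨h, hb⟩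
    | cons c w ih =>
      intro a b ha hb h
      have hc : (if c then (4 : ℕ) else 6) < 24 := by cases c <;> norm_num
      have hc' : (if c then (q : ℕ) else p) < 24 := by cases c <;> simp
      refine ih _ _ (tm_lt ha hc) (tm_lt hb hc') ?_
      rw [fc_mul f ha hc, fc_mul f hb hc', ← h]
      have e : u * fc f (if c then (4 : ℕ) else 6) * u⁻¹ = fc f (if c then (q : ℕ) else p) := by
        cases c
        · exact h6.symm.trans hp
        · exact h4.symm.trans hq
      rw [← e]; group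
  have h0 := key (wordL.getD k []) 0 0 (by norm_num) (by norm_num) (by rw [fc_zero]; group)
  have eb := ext_base k
  unfold ext at eb ⊢
  rw [eb] at h0
  exact h0

/-- An involution inducing an outer automorphism is a conjugate of the standard one. -/
theorem exists_frame (hf : Function.Injective f) {u : G} (hu : u * u = 1)
    (hn : ∀ x : SL(2, ZMod 3), ∃ y, f y = u * f x * u⁻¹)
    (hout : ∀ i : Fin 24, ¬∀ k : Fin 24, u * fc f k * u⁻¹ = fc f (cj i k)) :
    ∃ f' : SL(2, ZMod 3) →* G, Function.Injective f' ∧ f'.range = f.range ∧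
      ∀ k : Fin 24, u * fc f' k * u⁻¹ = fc f' (th k) := by
  obtain ⟨p, q, h6, h4, h⟩ := exists_aut f hn
  have hu' : u⁻¹ = u := inv_eq_of_mul_eq_one_right hu
  have e1 : ∀ k : Fin 24, ext p q (ext p q k) = k := fun k => by
    refine fc_inj f hf (h ⟨_, (h k).2⟩).2 k.2 ?_
    rw [← (h ⟨_, (h k).2⟩).1]
    show u * fc f (ext p q k) * u⁻¹ = fc f k
    rw [← (h k).1, hu']
    simp only [← mul_assoc]
    rw [hu, one_mul, mul_assoc, hu, mul_one]
  have e2 : ∀ i : Fin 24, ∃ k : Fin 24, ext p q k ≠ cj i k := fun i => by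
    by_contra hc
    push Not at hc
    exact hout i fun k => (h k).1.trans (congrArg (fc f) (hc k))
  have em : ∀ g : Fin 24, ∀ g' : ℕ, g' < 24 → u * fc f g * u⁻¹ = fc f g' →
      ∀ k : Fin 24, ext p q (tm g k) = tm g' (ext p q k) := by
    intro g g' hg' hgg k
    have hl := tm_lt g.2 k.2
    refine fc_inj f hf (h ⟨_, hl⟩).2 (tm_lt hg' (h k).2) ?_
    rw [← (h ⟨_, hl⟩).1, fc_mul f hg' (h k).2, ← hgg, ← (h k).1]
    show u * fc f (tm g k) * u⁻¹ = _
    rw [fc_mul f g.2 k.2]; group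
  obtain ⟨i, hi⟩ := auto_fact p q e1 e2 (fun k => em 6 p p.2 h6 k) (fun k => em 4 q q.2 h4 k)
  refine ⟨f.comp (MulAut.conj (decZ i)).toMonoidHom, hf.comp (MulEquiv.injective _),
    (MonoidHom.range_comp _ _).trans ?_, fun k => ?_⟩
  · rw [MonoidHom.range_eq_top.2 (MulEquiv.surjective _), ← MonoidHom.range_eq_map]
  · have e : ∀ n, n < 24 → fc (f.comp (MulAut.conj (decZ i)).toMonoidHom) n = fc f (cj i n) :=
      fun n hn => by rw [fc, fc, decZ_cj i.2 hn]; rfl
    rw [e _ k.2, e _ (th_fact k).1, ← hi k]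
    exact (h ⟨_, cj_lt i.2 k.2⟩).1

end Hom

end CfsgLib.Recog.G2TwoLocal
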