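import Cfsg.Agent.Lib.Recog.G2TwoLocal.Pair
import Mathlib.GroupTheory.Index
import Mathlib.Data.Finset.Card

/-!
From the local data (two normal copies of `SL_2(3)` in an involution centralizer and a subgroup
`2^3.L_3(2)`) an outer involution that is fused with the central one and induces outer automorphisms
on both copies.
-/

set_option autoImplicit false
set_option linter.unusedSectionVars false
set_option linter.style.haveILetI false

namespace CfsgLib.Recog.G2TwoLocal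

open CfsgLib.Recog.U4Two (tm ti tm_lt decZ decZ_mul decZ_inv decZ_inj decZ_surj decZ_zero decZ_neg)
open scoped MatrixGroups

theorem ng_ne : ∀ i : Fin 24, ng i ≠ i := by decide +kernel

theorem peq_iff {a b : ℕ} : peq a b = true ↔ a = b ∨ a = ng b := by simp [peq]

theorem second_anti : ∀ e j : Fin 24, tm e e = 12 → tm j j = 12 → tm e j = ng (tm j e) →
    tm (tm j e) (tm j e) = 12 ∧ tm e (tm j e) = ng (tm (tm j e) e) ∧
      tm j (tm j e) = ng (tm (tm j e) j) := by decide +kernel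

/-- The local data. -/
structure Pre {G : Type*} [Group G] (f g : SL(2, ZMod 3) →* G) (z : G) (M E : Subgroup G) : Prop where
  pair : Pair f g
  hz : fc f 12 = z
  norm₁ : ∀ u : G, u * z = z * u → ∀ x, ∃ y, f y = u * f x * u⁻¹
  norm₂ : ∀ u : G, u * z = z * u → ∀ x, ∃ y, g y = u * g x * u⁻¹
  outer : ∃ u : G, u * z = z * u ∧ ¬∃ x y : Fin 24, Pair.gp f g x y = u
  index : ∀ u v : G, u * z = z * u → v * z = z * v → (¬∃ x y : Fin 24, Pair.gp f g x y = u) →
    (¬∃ x y : Fin 24, Pair.gp f g x y = v) → ∃ x y : Fin 24, Pair.gp f g x y = u * v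
  cardM : Nat.card M = 1344
  cardE : Nat.card E = 8
  elem : ∀ a ∈ E, a * a = 1
  abelian : ∀ a ∈ E, ∀ b ∈ E, a * b = b * a
  leM : E ≤ M
  normE : ∀ m ∈ M, ∀ a ∈ E, m * a * m⁻¹ ∈ E
  core : ∀ X : Subgroup M, X.Normal → IsPGroup 2 X → ∀ x ∈ X, (x : G) ∈ E
  zE : z ∈ E

namespace Pre

variable {G : Type*} [Group G] {f g : SL(2, ZMod 3) →* G} {z : G} {M E : Subgroup G}
  (X : Pre f g z M E)

/-- Membership in the product of the two copies. -/
def InK (f g : SL(2, ZMod 3) →* G) (u : G) : Prop := ∃ x y : Fin 24, Pair.gp f g x y = u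

include X

theorem hz₂ : fc g 12 = z := X.pair.neg.symm.trans X.hz

theorem gp_zero : Pair.gp f g 0 0 = 1 := by rw [Pair.gp, fc_zero, fc_zero, one_mul]

theorem gp_left : Pair.gp f g 12 0 = z := by rw [Pair.gp, fc_zero, mul_one, X.hz]

theorem gp_right : Pair.gp f g 0 12 = z := by rw [Pair.gp, fc_zero, one_mul, X.hz₂]

theorem z_sq : z * z = 1 := by
  rw [← X.hz, ← fc_mul f (by norm_num) (by norm_num), show tm 12 12 = 0 by decide +kernel, fc_zero]

theorem z_ne_one : z ≠ 1 := by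
  rw [← X.hz, ← fc_zero f]
  exact fun h => absurd (fc_inj f X.pair.inj₁ (by norm_num) (by norm_num) h) (by norm_num)

theorem gp_comm_z (x y : Fin 24) : Pair.gp f g x y * z = z * Pair.gp f g x y := by
  rw [← X.gp_left, X.pair.gp_mul x.2 y.2 (by norm_num) (by norm_num),
    X.pair.gp_mul (by norm_num) (by norm_num) x.2 y.2, (twelve_central x).1]
  congr 1
  exact (show ∀ j : Fin 24, tm j 0 = tm 0 j by decide +kernel) y

theorem inK_comm_z {u : G} (h : InK f g u) : u * z = z * u := by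
  obtain ⟨x, y, rfl⟩ := h; exact X.gp_comm_z x y

theorem inK_gp {x y : ℕ} (hx : x < 24) (hy : y < 24) : InK f g (Pair.gp f g x y) :=
  ⟨⟨x, hx⟩, ⟨y, hy⟩, rfl⟩

theorem inK_mul {u v : G} (hu : InK f g u) (hv : InK f g v) : InK f g (u * v) := by
  obtain ⟨x, y, rfl⟩ := hu; obtain ⟨x', y', rfl⟩ := hv
  rw [X.pair.gp_mul x.2 y.2 x'.2 y'.2]
  exact X.inK_gp (tm_lt x.2 x'.2) (tm_lt y.2 y'.2)

theorem inK_inv {u : G} (hu : InK f g u) : InK f g u⁻¹ := by
  obtain ⟨x, y, rfl⟩ := hu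
  rw [X.pair.gp_inv x.2 y.2]
  exact X.inK_gp (decZ_inv x).1 (decZ_inv y).1

theorem inK_conj {u v : G} (hu : u * z = z * u) (hv : InK f g v) : InK f g (u * v * u⁻¹) := by
  obtain ⟨x, y, rfl⟩ := hv
  obtain ⟨a, ha⟩ := X.norm₁ u hu (decZ x)
  obtain ⟨b, hb⟩ := X.norm₂ u hu (decZ y)
  obtain ⟨a', ha'⟩ := fc_surj f a
  obtain ⟨b', hb'⟩ := fc_surj g b
  refine ⟨a', b', ?_⟩
  rw [Pair.gp, Pair.gp, ← ha', ← hb', ha, hb, fc, fc]
  group

theorem sq_inK {u : G} (hu : u * z = z * u) : InK f g (u * u) := by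
  by_cases h : InK f g u
  · exact X.inK_mul h h
  · exact X.index u u hu hu h h

/-- The coordinates of an involution of the product. -/
theorem invol_coords {x y : Fin 24} (h : Pair.gp f g x y * Pair.gp f g x y = 1) :
    peq (tm x x) 0 = true ∧ peq (tm y y) 0 = true ∧
      (Pair.gp f g x y ≠ 1 → Pair.gp f g x y ≠ z → tm x x = 12 ∧ tm y y = 12) := by
  rw [X.pair.gp_mul x.2 y.2 x.2 y.2, ← X.gp_zero] at h
  rcases X.pair.gp_eq (tm_lt x.2 x.2) (tm_lt y.2 y.2) (by norm_num) (by norm_num) h with ⟨h1, h2⟩ | ⟨h1, h2⟩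
  · refine ⟨peq_iff.2 (Or.inl h1.symm), peq_iff.2 (Or.inl h2.symm), fun n1 nz => ?_⟩
    exfalso
    rcases order_four_fact x h1.symm with rfl | rfl <;> rcases order_four_fact y h2.symm with rfl | rfl
    · exact n1 X.gp_zero
    · exact nz X.gp_right
    · exact nz X.gp_left
    · exact n1 ((X.pair.gp_ng (x := 0) (y := 0) (by norm_num) (by norm_num)).trans X.gp_zero)
  · have e : ∀ i : Fin 24, 0 = ng (tm i i) → tm i i = 12 := by decide +kernel
    exact ⟨peq_iff.2 (Or.inr (e x h1)), peq_iff.2 (Or.inr (e y h2)), fun _ _ => ⟨e x h1, e y h2⟩⟩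

theorem E_comm_z {a : G} (ha : a ∈ E) : a * z = z * a := X.abelian a ha z X.zE

theorem exists_e : ∃ x y : Fin 24, tm x x = 12 ∧ tm y y = 12 ∧ Pair.gp f g x y ∈ E ∧
    Pair.gp f g x y ≠ 1 ∧ Pair.gp f g x y ≠ z := by
  classical
  haveI : Finite E := Nat.finite_of_card_ne_zero (by rw [X.cardE]; norm_num)
  haveI : Fintype E := Fintype.ofFinite E
  have hc : (Finset.univ : Finset E).card = 8 := by
    rw [Finset.card_univ, ← Nat.card_eq_fintype_card, X.cardE]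
  obtain ⟨a, -, ha⟩ := Finset.exists_mem_notMem_of_card_lt_card
    (show ({(1 : E), ⟨z, X.zE⟩} : Finset E).card < (Finset.univ : Finset E).card by
      rw [hc]; exact lt_of_le_of_lt Finset.card_le_two (by norm_num))
  obtain ⟨b, -, hb⟩ := Finset.exists_mem_notMem_of_card_lt_card
    (show ({(1 : E), ⟨z, X.zE⟩, a, a * ⟨z, X.zE⟩} : Finset E).card < (Finset.univ : Finset E).card by
      rw [hc]; exact lt_of_le_of_lt Finset.card_le_four (by norm_num))
  simp only [Finset.mem_insert, Finset.mem_singleton, not_or, Subtype.ext_iff, Subgroup.coe_mul,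
    Subgroup.coe_one] at ha hb
  have key : ∃ u : G, u ∈ E ∧ InK f g u ∧ u ≠ 1 ∧ u ≠ z := by
    by_cases h1 : InK f g a
    · exact ⟨a, a.2, h1, ha.1, ha.2⟩
    by_cases h2 : InK f g b
    · exact ⟨b, b.2, h2, hb.1, hb.2.1⟩
    refine ⟨a * b, mul_mem a.2 b.2, X.index _ _ (X.E_comm_z a.2) (X.E_comm_z b.2) h1 h2, fun h => ?_,
      fun h => ?_⟩
    · refine hb.2.2.1 ?_
      rw [eq_inv_of_mul_eq_one_right h, inv_eq_of_mul_eq_one_right (X.elem _ a.2)]
    · refine hb.2.2.2 ?_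
      rw [← h, ← mul_assoc, X.elem _ a.2, one_mul]
  obtain ⟨u, hu, ⟨x, y, rfl⟩, n1, nz⟩ := key
  obtain ⟨-, -, h⟩ := X.invol_coords (X.elem _ hu)
  exact ⟨x, y, (h n1 nz).1, (h n1 nz).2, hu, n1, nz⟩

/-- Elements centralizing `z` and an element of `E` have 2-power order. -/
theorem pow_eight {x y : Fin 24} (hx : tm x x = 12) (hy : tm y y = 12) {u : G} (huz : u * z = z * u)
    (hue : u * Pair.gp f g x y = Pair.gp f g x y * u) : u ^ (2 ^ 3) = 1 := by
  obtain ⟨a, b, hab⟩ := X.sq_inK huz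
  have hc : Pair.gp f g a b * Pair.gp f g x y = Pair.gp f g x y * Pair.gp f g a b := by
    rw [hab, mul_assoc, hue, ← mul_assoc, hue, mul_assoc]
  rw [X.pair.gp_mul a.2 b.2 x.2 y.2, X.pair.gp_mul x.2 y.2 a.2 b.2] at hc
  obtain ⟨p1, p2⟩ : peq (tm a x) (tm x a) = true ∧ peq (tm b y) (tm y b) = true := by
    rcases X.pair.gp_eq (tm_lt a.2 x.2) (tm_lt b.2 y.2) (tm_lt x.2 a.2) (tm_lt y.2 b.2) hc with
      ⟨e1, e2⟩ | ⟨e1, e2⟩
    · exact ⟨peq_iff.2 (Or.inl e1.symm), peq_iff.2 (Or.inl e2.symm)⟩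
    · exact ⟨peq_iff.2 (Or.inr (by rw [e1, ng_ng (tm_lt a.2 x.2)])),
        peq_iff.2 (Or.inr (by rw [e2, ng_ng (tm_lt b.2 y.2)]))⟩
  have := two_group_fact x a hx p1
  have := two_group_fact y b hy p2
  calc u ^ (2 ^ 3) = (u * u * (u * u)) * (u * u * (u * u)) := by
        simp [pow_succ, mul_assoc]
    _ = 1 := by
      rw [← hab, X.pair.gp_mul a.2 b.2 a.2 b.2,
        X.pair.gp_mul (tm_lt a.2 a.2) (tm_lt b.2 b.2) (tm_lt a.2 a.2) (tm_lt b.2 b.2), two_group_fact x a hx p1,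
        two_group_fact y b hy p2, X.gp_zero]

theorem mem_cent_E {x y : Fin 24} (hx : tm x x = 12) (hy : tm y y = 12) (hE : Pair.gp f g x y ∈ E)
    {m : G} (hm : m ∈ M) (hc : ∀ a ∈ E, m * a = a * m) : m ∈ E := by
  obtain ⟨C, hC⟩ : ∃ C : Subgroup M, C = (Subgroup.centralizer (E : Set G)).subgroupOf M := ⟨_, rfl⟩
  have mC : ∀ c : M, c ∈ C ↔ ∀ a ∈ E, a * (c : G) = c * a := fun c => by
    rw [hC, Subgroup.mem_subgroupOf, Subgroup.mem_centralizer_iff]; rfl
  refine X.core C ⟨fun c hc' n => (mC _).2 fun a ha => ?_⟩ ?_ ⟨m, hm⟩ ((mC _).2 fun a ha => (hc a ha).symm)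
  · have h1 := (mC c).1 hc' _ (X.normE _ (inv_mem n.2) a ha)
    rw [inv_inv] at h1
    show a * ((n : G) * c * (n : G)⁻¹) = n * c * (n : G)⁻¹ * a
    calc a * ((n : G) * c * (n : G)⁻¹) = n * (((n : G)⁻¹ * a * n) * c) * (n : G)⁻¹ := by group
      _ = n * (c * ((n : G)⁻¹ * a * n)) * (n : G)⁻¹ := by rw [h1]
      _ = n * c * (n : G)⁻¹ * a := by group
  · intro c
    refine ⟨3, Subtype.ext (Subtype.ext ?_)⟩
    have h := (mC c.1).1 c.2
    exact X.pow_eight hx hy (h z X.zE).symm (h _ hE).symm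

variable [Finite G]

/-- The conjugates of `z` under `M` fill `E`, and pairs in `E` are permuted transitively by the
stabilizer of `z`. -/
theorem counting {x y : Fin 24} (hx : tm x x = 12) (hy : tm y y = 12) (hE : Pair.gp f g x y ∈ E)
    (h1 : Pair.gp f g x y ≠ 1) (hz' : Pair.gp f g x y ≠ z) :
    (∀ a ∈ E, a ≠ 1 → ∃ m ∈ M, m * z * m⁻¹ = a) ∧
    ∀ b ∈ E, b ≠ 1 → b ≠ z → b ≠ Pair.gp f g x y → b ≠ Pair.gp f g x y * z →
    ∀ a' ∈ E, a' ≠ 1 → a' ≠ z → ∀ b' ∈ E, b' ≠ 1 → b' ≠ z → b' ≠ a' → b' ≠ a' * z →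
      ∃ d ∈ M, d * z = z * d ∧ d * Pair.gp f g x y * d⁻¹ = a' ∧ d * b * d⁻¹ = b' := by
  classical
  haveI : Fintype G := Fintype.ofFinite G
  obtain ⟨e, he⟩ : ∃ e, e = Pair.gp f g x y := ⟨_, rfl⟩
  rw [← he] at hE h1 hz' ⊢
  obtain ⟨S, hS⟩ : ∃ S : Finset G, S = Finset.univ.filter (· ∈ M) := ⟨_, rfl⟩
  have mS : ∀ m, m ∈ S ↔ m ∈ M := fun m => by simp [hS]
  have cS : S.card = 1344 := by
    rw [← X.cardM, ← Nat.card_eq_finsetCard]; exact Nat.card_congr (Equiv.subtypeEquivRight mS)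
  obtain ⟨T, hT⟩ : ∃ T : Finset G, T = Finset.univ.filter (· ∈ E) := ⟨_, rfl⟩
  have mT : ∀ m, m ∈ T ↔ m ∈ E := fun m => by simp [hT]
  have cT : T.card = 8 := by
    rw [← X.cardE, ← Nat.card_eq_finsetCard]; exact Nat.card_congr (Equiv.subtypeEquivRight mT)
  obtain ⟨D, hD⟩ : ∃ D : Finset G, D = S.filter (fun m => m * z = z * m) := ⟨_, rfl⟩
  have mD : ∀ m, m ∈ D ↔ m ∈ M ∧ m * z = z * m := fun m => by simp [hD, mS]
  have fib : S.card ≤ D.card * (S.image fun m => m * z * m⁻¹).card := by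
    refine Finset.card_le_mul_card_image S _ fun b hb => ?_
    obtain ⟨m₀, hm₀, rfl⟩ := Finset.mem_image.1 hb
    refine Finset.card_le_card_of_injOn (fun m => m₀⁻¹ * m) (fun m hm => ?_) (fun u _ v _ h => by simpa using h)
    rw [Finset.mem_coe, Finset.mem_filter] at hm
    refine (mD _).2 ⟨mul_mem (inv_mem ((mS _).1 hm₀)) ((mS _).1 hm.1), ?_⟩
    calc m₀⁻¹ * m * z = m₀⁻¹ * (m * z * m⁻¹) * m := by group
      _ = m₀⁻¹ * (m₀ * z * m₀⁻¹) * m := by rw [hm.2]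
      _ = z * (m₀⁻¹ * m) := by group
  have im1 : (S.image fun m => m * z * m⁻¹) ⊆ T.erase 1 := fun b hb => by
    obtain ⟨m, hm, rfl⟩ := Finset.mem_image.1 hb
    refine Finset.mem_erase.2 ⟨fun h => X.z_ne_one (conj_eq_one_iff.1 h), (mT _).2 (X.normE _ ((mS _).1 hm) _ X.zE)⟩
  have c7 : (T.erase 1).card = 7 := by rw [Finset.card_erase_of_mem ((mT _).2 (one_mem E)), cT]
  obtain ⟨Pt, hPt⟩ : ∃ Pt : Finset (G × G), Pt = (T ×ˢ T).filter fun p =>
      p.1 ≠ 1 ∧ p.1 ≠ z ∧ p.2 ≠ 1 ∧ p.2 ≠ z ∧ p.2 ≠ p.1 ∧ p.2 ≠ p.1 * z := ⟨_, rfl⟩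
  have mP : ∀ p, p ∈ Pt ↔ (p.1 ∈ E ∧ p.2 ∈ E) ∧
      p.1 ≠ 1 ∧ p.1 ≠ z ∧ p.2 ≠ 1 ∧ p.2 ≠ z ∧ p.2 ≠ p.1 ∧ p.2 ≠ p.1 * z := fun p => by
    simp [hPt, mT, Finset.mem_product]
  have cP : Pt.card ≤ 4 * (Pt.image Prod.fst).card := by
    refine Finset.card_le_mul_card_image Pt _ fun a ha => ?_
    obtain ⟨⟨a, b⟩, hp, rfl⟩ := Finset.mem_image.1 ha
    obtain ⟨⟨haE, -⟩, n1, nz, -⟩ := (mP _).1 hp
    have h4 : (({1, z, a, a * z} : Finset G)).card = 4 := by
      have : a * z ≠ 1 := fun h => nz (by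
        rw [eq_inv_of_mul_eq_one_left h, inv_eq_of_mul_eq_one_right X.z_sq])
      have hne : z ≠ a * z := fun h => n1 (by simpa using h.symm)
      rw [Finset.card_insert_of_notMem, Finset.card_insert_of_notMem, Finset.card_pair]
      · exact fun h => X.z_ne_one (by simpa using h.symm)
      · simp [Ne.symm nz, hne]
      · simp [X.z_ne_one.symm, Ne.symm n1, Ne.symm this]
    have hsub : ({1, z, a, a * z} : Finset G) ⊆ T := fun b hb => by
      simp only [Finset.mem_insert, Finset.mem_singleton] at hb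
      rw [mT]
      rcases hb with rfl | rfl | rfl | rfl
      exacts [one_mem E, X.zE, haE, mul_mem haE X.zE]
    refine (Finset.card_le_card_of_injOn (t := T \ {1, z, a, a * z}) Prod.snd (fun p hp' => ?_)
      (fun p hp' q hq h => ?_)).trans ?_
    · rw [Finset.mem_coe, Finset.mem_filter] at hp'
      obtain ⟨⟨-, q2⟩, -, -, q3, q4, q5, q6⟩ := (mP _).1 hp'.1
      rw [hp'.2] at q5 q6
      simp only [Finset.mem_coe, Finset.mem_sdiff, Finset.mem_insert, Finset.mem_singleton, not_or]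
      exact ⟨(mT _).2 q2, q3, q4, q5, q6⟩
    · rw [Finset.mem_coe, Finset.mem_filter] at hp' hq
      exact Prod.ext (hp'.2.trans hq.2.symm) h
    · rw [Finset.card_sdiff_of_subset hsub, h4, cT]
  have iP : (Pt.image Prod.fst).card ≤ 6 := by
    have : Pt.image Prod.fst ⊆ (T.erase 1).erase z := fun a ha => by
      obtain ⟨p, hp, rfl⟩ := Finset.mem_image.1 ha
      obtain ⟨⟨q1, -⟩, n1, nz, -⟩ := (mP _).1 hp
      exact Finset.mem_erase.2 ⟨nz, Finset.mem_erase.2 ⟨n1, (mT _).2 q1⟩⟩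
    refine (Finset.card_le_card this).trans ?_
    rw [Finset.card_erase_of_mem (Finset.mem_erase.2 ⟨X.z_ne_one, (mT _).2 X.zE⟩), c7]
  have step : ∀ b ∈ E, b ≠ 1 → b ≠ z → b ≠ e → b ≠ e * z →
      D.card ≤ 8 * (D.image fun d => (d * e * d⁻¹, d * b * d⁻¹)).card ∧
      (D.image fun d => (d * e * d⁻¹, d * b * d⁻¹)) ⊆ Pt := by
    intro b hb n1 nz ne nez
    refine ⟨Finset.card_le_mul_card_image D _ fun q hq => ?_, fun q hq => ?_⟩
    · obtain ⟨d₀, hd₀, rfl⟩ := Finset.mem_image.1 hq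
      rw [← cT]
      refine Finset.card_le_card_of_injOn (fun d => d₀⁻¹ * d) (fun d hd => ?_)
        (fun u _ v _ h => by simpa using h)
      rw [Finset.mem_coe, Finset.mem_filter, Prod.mk.injEq] at hd
      obtain ⟨hdM, hdz⟩ := (mD _).1 hd.1
      obtain ⟨h0M, h0z⟩ := (mD _).1 hd₀
      have cz : ∀ a, d * a * d⁻¹ = d₀ * a * d₀⁻¹ → (d₀⁻¹ * d) * a = a * (d₀⁻¹ * d) := fun a h => by
        calc d₀⁻¹ * d * a = d₀⁻¹ * (d * a * d⁻¹) * d := by group
          _ = a * (d₀⁻¹ * d) := by rw [h]; group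
      obtain ⟨U, hU⟩ : ∃ U : Subgroup G, U = Subgroup.centralizer {d₀⁻¹ * d} := ⟨_, rfl⟩
      have mU : ∀ a, a ∈ U ↔ (d₀⁻¹ * d) * a = a * (d₀⁻¹ * d) := fun a => by
        rw [hU, Subgroup.mem_centralizer_singleton_iff]; exact eq_comm
      refine (mT _).2 (X.mem_cent_E hx hy (he ▸ hE) (mul_mem (inv_mem h0M) hdM) fun a ha => (mU a).1 ?_)
      have five : ({1, z, e, e * z, b} : Finset G) ⊆ T.filter (· ∈ U) := by
        have uz : z ∈ U := (mU z).2 (cz z (by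
          rw [mul_inv_eq_iff_eq_mul, hdz, h0z]; group))
        have ue : e ∈ U := (mU e).2 (cz e hd.2.1)
        intro v hv
        simp only [Finset.mem_insert, Finset.mem_singleton] at hv
        rw [Finset.mem_filter, mT]
        rcases hv with rfl | rfl | rfl | rfl | rfl
        exacts [⟨one_mem E, one_mem U⟩, ⟨X.zE, uz⟩, ⟨hE, ue⟩, ⟨mul_mem hE X.zE, mul_mem ue uz⟩,
          ⟨hb, (mU _).2 (cz _ hd.2.2)⟩]
      have c5 : ({1, z, e, e * z, b} : Finset G).card = 5 := by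
        have : e * z ≠ 1 := fun h => hz' (by
          rw [eq_inv_of_mul_eq_one_left h, inv_eq_of_mul_eq_one_right X.z_sq])
        have hne : z ≠ e * z := fun h => h1 (by simpa using h.symm)
        have hne2 : e ≠ e * z := fun h => X.z_ne_one (by simpa using h.symm)
        rw [Finset.card_insert_of_notMem, Finset.card_insert_of_notMem, Finset.card_insert_of_notMem,
          Finset.card_pair]
        · exact Ne.symm nez
        · simp [hne2, Ne.symm ne]
        · simp [Ne.symm hz', hne, Ne.symm nz]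
        · simp [X.z_ne_one.symm, Ne.symm h1, Ne.symm this, Ne.symm n1]
      have h5 := Finset.card_le_card five
      have hdvd : (T.filter (· ∈ U)).card ∣ 8 := by
        have e2 : (T.filter (· ∈ U)).card = Nat.card (E ⊓ U : Subgroup G) := by
          rw [← Nat.card_eq_finsetCard]
          exact Nat.card_congr (Equiv.subtypeEquivRight fun v => by simp [mT])
        rw [e2, ← X.cardE]; exact Subgroup.card_dvd_of_le inf_le_left
      have h8 : 8 ≤ (T.filter (· ∈ U)).card := by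
        have := Nat.le_of_dvd (by norm_num) hdvd
        interval_cases hn : (T.filter (· ∈ U)).card <;> omega
      have := Finset.eq_of_subset_of_card_le (Finset.filter_subset _ _) (cT.le.trans h8)
      exact (Finset.mem_filter.1 (this.symm ▸ (mT a).2 ha : a ∈ T.filter (· ∈ U))).2
    · obtain ⟨d, hd, rfl⟩ := Finset.mem_image.1 hq
      obtain ⟨hdM, hdz⟩ := (mD _).1 hd
      have ez : d * z * d⁻¹ = z := by rw [hdz]; group
      refine (mP _).2 ⟨⟨X.normE d hdM e hE, X.normE d hdM b hb⟩, fun h => h1 (conj_eq_one_iff.1 h),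
        fun h => hz' ?_, fun h => n1 (conj_eq_one_iff.1 h), fun h => nz ?_, fun h => ne ?_,
        fun h => nez ?_⟩
      · exact (MulAut.conj d).injective (h.trans ez.symm)
      · exact (MulAut.conj d).injective (h.trans ez.symm)
      · exact (MulAut.conj d).injective h
      · refine (MulAut.conj d).injective (h.trans ?_)
        show d * e * d⁻¹ * z = d * (e * z) * d⁻¹
        nth_rewrite 1 [← ez]; group
  obtain ⟨b₀, hb₀, hb₀'⟩ := Finset.exists_mem_notMem_of_card_lt_card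
    (show ({(1 : G), z, e, e * z} : Finset G).card < T.card by
      rw [cT]; exact lt_of_le_of_lt Finset.card_le_four (by norm_num))
  simp only [Finset.mem_insert, Finset.mem_singleton, not_or] at hb₀'
  obtain ⟨k1, k2⟩ := step b₀ ((mT _).1 hb₀) hb₀'.1 hb₀'.2.1 hb₀'.2.2.1 hb₀'.2.2.2
  have k3 := Finset.card_le_card k2
  have k4 := Finset.card_le_card im1
  refine ⟨fun a ha ha1 => ?_, ?_⟩
  · have : (S.image fun m => m * z * m⁻¹) = T.erase 1 := Finset.eq_of_subset_of_card_le im1 (by nlinarith)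
    obtain ⟨m, hm, rfl⟩ := Finset.mem_image.1 (this ▸ Finset.mem_erase.2 ⟨ha1, (mT a).2 ha⟩ :
      a ∈ S.image fun m => m * z * m⁻¹)
    exact ⟨m, (mS m).1 hm, rfl⟩
  · intro b hb n1 nz ne nez a' ha' a1 az b' hb' b1 bz ba baz
    obtain ⟨j1, j2⟩ := step b hb n1 nz ne nez
    have : (D.image fun d => (d * e * d⁻¹, d * b * d⁻¹)) = Pt :=
      Finset.eq_of_subset_of_card_le j2 (by nlinarith [Finset.card_le_card j2])
    obtain ⟨d, hd, hd'⟩ := Finset.mem_image.1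
      (this ▸ (mP (a', b')).2 ⟨⟨ha', hb'⟩, a1, az, b1, bz, ba, baz⟩ :
        (a', b') ∈ D.image fun d => (d * e * d⁻¹, d * b * d⁻¹))
    exact ⟨d, ((mD d).1 hd).1, ((mD d).1 hd).2, (Prod.ext_iff.1 hd').1, (Prod.ext_iff.1 hd').2⟩

/-- The elementary abelian group lies in the product of the two copies. -/
theorem E_inK {a : G} (ha : a ∈ E) : InK f g a := by
  classical
  by_cases a1 : a = 1
  · exact ⟨0, 0, a1 ▸ X.gp_zero⟩
  by_cases az : a = z
  · exact ⟨12, 0, az ▸ X.gp_left⟩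
  obtain ⟨x, y, hx, hy, hE, h1, hz'⟩ := X.exists_e
  haveI : Fintype E := Fintype.ofFinite E
  have hc : (Finset.univ : Finset E).card = 8 := by
    rw [Finset.card_univ, ← Nat.card_eq_fintype_card, X.cardE]
  obtain ⟨b, -, hb⟩ := Finset.exists_mem_notMem_of_card_lt_card
    (show ({(1 : E), ⟨z, X.zE⟩, ⟨_, hE⟩, ⟨_, hE⟩ * ⟨z, X.zE⟩} : Finset E).card < (Finset.univ : Finset E).card by
      rw [hc]; exact lt_of_le_of_lt Finset.card_le_four (by norm_num))
  obtain ⟨b', -, hb'⟩ := Finset.exists_mem_notMem_of_card_lt_card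
    (show ({(1 : E), ⟨z, X.zE⟩, ⟨a, ha⟩, ⟨a, ha⟩ * ⟨z, X.zE⟩} : Finset E).card < (Finset.univ : Finset E).card by
      rw [hc]; exact lt_of_le_of_lt Finset.card_le_four (by norm_num))
  simp only [Finset.mem_insert, Finset.mem_singleton, not_or, Subtype.ext_iff, Subgroup.coe_mul,
    Subgroup.coe_one] at hb hb'
  obtain ⟨d, -, hdz, hd, -⟩ := (X.counting hx hy hE h1 hz').2 b b.2 hb.1 hb.2.1 hb.2.2.1 hb.2.2.2
    a ha a1 az b' b'.2 hb'.1 hb'.2.1 hb'.2.2.1 hb'.2.2.2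
  rw [← hd]
  exact X.inK_conj hdz ⟨x, y, rfl⟩

/-- An element outside the product fixing one axis and swapping the two others in both factors. -/
theorem exists_d : ∃ d : G, ∃ x y x' y' : Fin 24, d * z = z * d ∧ ¬InK f g d ∧
    tm x x = 12 ∧ tm y y = 12 ∧ tm x' x' = 12 ∧ tm y' y' = 12 ∧ tm x x' = ng (tm x' x) ∧
    tm y y' = ng (tm y' y) ∧ d * Pair.gp f g x y * d⁻¹ = Pair.gp f g x y ∧
    d * Pair.gp f g x' y' * d⁻¹ = Pair.gp f g (tm x x') (tm y y') ∧
    Pair.gp f g x y ∈ E ∧ Pair.gp f g x y ≠ 1 ∧ Pair.gp f g x y ≠ z := by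
  classical
  obtain ⟨x, y, hx, hy, hE, h1, hz'⟩ := X.exists_e
  haveI : Fintype E := Fintype.ofFinite E
  have hc : (Finset.univ : Finset E).card = 8 := by
    rw [Finset.card_univ, ← Nat.card_eq_fintype_card, X.cardE]
  obtain ⟨⟨b, hbE⟩, -, hb⟩ := Finset.exists_mem_notMem_of_card_lt_card
    (show ({(1 : E), ⟨z, X.zE⟩, ⟨_, hE⟩, ⟨_, hE⟩ * ⟨z, X.zE⟩} : Finset E).card < (Finset.univ : Finset E).card by
      rw [hc]; exact lt_of_le_of_lt Finset.card_le_four (by norm_num))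
  simp only [Finset.mem_insert, Finset.mem_singleton, not_or, Subtype.ext_iff, Subgroup.coe_mul,
    Subgroup.coe_one] at hb
  obtain ⟨x', y', rfl⟩ := X.E_inK hbE
  obtain ⟨-, -, h12⟩ := X.invol_coords (X.elem _ hbE)
  obtain ⟨hx', hy'⟩ := h12 hb.1 hb.2.1
  have hcm := X.abelian _ hE _ hbE
  rw [X.pair.gp_mul x.2 y.2 x'.2 y'.2, X.pair.gp_mul x'.2 y'.2 x.2 y.2] at hcm
  have pp := X.pair.gp_eq (tm_lt x.2 x'.2) (tm_lt y.2 y'.2) (tm_lt x'.2 x.2) (tm_lt y'.2 y.2) hcm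
  have com : ∀ i j : Fin 24, peq i j = true → tm i j = tm j i := by decide +kernel
  have anti : tm x x' = ng (tm x' x) ∧ tm y y' = ng (tm y' y) := by
    rcases axes_fact x x' hx hx' with hpx | hpx <;> rcases axes_fact y y' hy hy' with hpy | hpy
    · exfalso
      have : Pair.gp f g x' y' = Pair.gp f g x y ∨ Pair.gp f g x' y' = Pair.gp f g x y * z := by
        have r1 : ∀ i j : Fin 24, peq i j = true → (j = i ∨ (j : ℕ) = tm i 12) := by decide +kernel
        have r0 : ∀ i : Fin 24, tm i 0 = i := by decide +kernel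
        rcases r1 x x' hpx with e | e <;> rcases r1 y y' hpy with e' | e'
        · exact Or.inl (by rw [e, e'])
        · refine Or.inr ?_
          rw [← X.gp_right, X.pair.gp_mul x.2 y.2 (by norm_num) (by norm_num), e', r0, e]
        · refine Or.inr ?_
          rw [← X.gp_left, X.pair.gp_mul x.2 y.2 (by norm_num) (by norm_num), e, r0, e']
        · refine Or.inl ?_
          rw [e, e', ← (twelve_central x).1, ← (twelve_central y).1, (twelve_central x).2,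
            (twelve_central y).2, X.pair.gp_ng x.2 y.2]
      exact this.elim hb.2.2.1 hb.2.2.2
    · exfalso
      rcases pp with ⟨-, e⟩ | ⟨e, -⟩
      · exact ng_ne ⟨_, tm_lt y'.2 y.2⟩ (hpy.symm.trans e.symm)
      · exact ng_ne ⟨_, tm_lt x.2 x'.2⟩ (e.symm.trans (com x x' hpx).symm)
    · exfalso
      rcases pp with ⟨e, -⟩ | ⟨-, e⟩
      · exact ng_ne ⟨_, tm_lt x'.2 x.2⟩ (hpx.symm.trans e.symm)
      · exact ng_ne ⟨_, tm_lt y.2 y'.2⟩ (e.symm.trans (com y y' hpy).symm)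
    · exact ⟨hpx, hpy⟩
  obtain ⟨d, -, hdz, hd1, hd2⟩ := (X.counting hx hy hE h1 hz').2 _ hbE hb.1 hb.2.1 hb.2.2.1 hb.2.2.2
    _ hE h1 hz' (Pair.gp f g x y * Pair.gp f g x' y') (mul_mem hE hbE)
    (fun h => hb.2.2.1 (by rw [eq_inv_of_mul_eq_one_right h, inv_eq_of_mul_eq_one_right (X.elem _ hE)]))
    (fun h => hb.2.2.2 (by rw [← h, ← mul_assoc, X.elem _ hE, one_mul]))
    (fun h => hb.1 (by simpa using h)) (fun h => hb.2.1 (mul_left_cancel h))
  rw [X.pair.gp_mul x.2 y.2 x'.2 y'.2] at hd2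
  refine ⟨d, x, y, x', y', hdz, ?_, hx, hy, hx', hy', anti.1, anti.2, hd1, hd2, hE, h1, hz'⟩
  rintro ⟨a, b, rfl⟩
  rw [X.pair.conj_gp a.2 b.2 x.2 y.2] at hd1
  rw [X.pair.conj_gp a.2 b.2 x'.2 y'.2] at hd2
  have q1 : ∀ u v : ℕ, u < 24 → (v = u ∨ v = ng u) → peq u v = true := fun u v hu h => peq_iff.2
    (h.imp Eq.symm fun h => by rw [h, ng_ng hu])
  have c1 := cj_lt a.2 x.2
  have c2 := cj_lt a.2 x'.2
  refine no_inner_fact x x' a hx hx' anti.1 (q1 _ _ c1 ?_) (q1 _ _ c2 ?_)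
  · exact (X.pair.gp_eq c1 (cj_lt b.2 y.2) x.2 y.2 hd1).imp And.left And.left
  · exact (X.pair.gp_eq c2 (cj_lt b.2 y'.2) (tm_lt x.2 x'.2) (tm_lt y.2 y'.2) hd2).imp And.left And.left

/-- An outer element fixing one axis and moving another is not inner on the first factor. -/
theorem not_inner {d t : G} {x y x' y' : Fin 24} (hdz : d * z = z * d) (hdK : ¬InK f g d)
    (ht : t * t = 1) (htz : t * z = z * t) (htK : ¬InK f g t)
    (hx : tm x x = 12) (hx' : tm x' x' = 12) (ha : tm x x' = ng (tm x' x))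
    (hd1 : d * Pair.gp f g x y * d⁻¹ = Pair.gp f g x y)
    (hd2 : d * Pair.gp f g x' y' * d⁻¹ = Pair.gp f g (tm x x') (tm y y')) (i : Fin 24) :
    ¬∀ k : Fin 24, t * fc f k * t⁻¹ = fc f (cj i k) := by
  intro h
  obtain ⟨a, b, hab⟩ := X.index t d htz hdz htK hdK
  have hd : d = t * Pair.gp f g a b := by rw [hab, ← mul_assoc, ht, one_mul]
  have hc : ∀ k : Fin 24, d * fc f k * d⁻¹ = fc f (cj (tm i a) k) := fun k => by
    rw [fc_cj f (tm_lt i.2 a.2) k.2, fc_mul f i.2 a.2, hd]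
    have h1 := h ⟨_, cj_lt a.2 k.2⟩
    rw [fc_cj f i.2 (cj_lt a.2 k.2)] at h1
    calc t * Pair.gp f g a b * fc f k * (t * Pair.gp f g a b)⁻¹
        = t * (Pair.gp f g a b * fc f k * (Pair.gp f g a b)⁻¹) * t⁻¹ := by group
      _ = _ := by
        rw [X.pair.conj_gp_left a.2 k.2]
        refine h1.trans ?_
        rw [fc_cj f a.2 k.2]; group
  obtain ⟨b1, hb1⟩ := X.norm₂ d hdz (decZ y)
  obtain ⟨b2, hb2⟩ := X.norm₂ d hdz (decZ y')
  obtain ⟨j1, hj1⟩ := fc_surj g b1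
  obtain ⟨j2, hj2⟩ := fc_surj g b2
  have q1 : ∀ u v : ℕ, u < 24 → (v = u ∨ v = ng u) → peq u v = true := fun u v hu h => peq_iff.2
    (h.imp Eq.symm fun h => by rw [h, ng_ng hu])
  have c1 := cj_lt (tm_lt i.2 a.2) x.2
  have c2 := cj_lt (tm_lt i.2 a.2) x'.2
  have e1 : Pair.gp f g (cj (tm i a) x) j1 = Pair.gp f g x y := by
    rw [← hd1, Pair.gp, ← hj1, hb1, ← hc x]; unfold Pair.gp fc; group
  have e2 : Pair.gp f g (cj (tm i a) x') j2 = Pair.gp f g (tm x x') (tm y y') := by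
    rw [← hd2, Pair.gp, ← hj2, hb2, ← hc x']; unfold Pair.gp fc; group
  refine no_inner_fact x x' ⟨_, tm_lt i.2 a.2⟩ hx hx' ha (q1 _ _ c1 ?_) (q1 _ _ c2 ?_)
  · exact (X.pair.gp_eq c1 j1.2 x.2 y.2 e1).imp And.left And.left
  · exact (X.pair.gp_eq c2 j2.2 (tm_lt x.2 x'.2) (tm_lt y.2 y'.2) e2).imp And.left And.left

theorem symm : Pre g f z M E where
  pair := X.pair.symm
  hz := X.hz₂
  norm₁ := X.norm₂
  norm₂ := X.norm₁
  outer := by
    obtain ⟨u, hu, hn⟩ := X.outer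
    exact ⟨u, hu, fun ⟨a, b, h⟩ => hn ⟨b, a, (X.pair.gp_symm _ _).symm.trans h⟩⟩
  index := fun u v hu hv nu nv => by
    obtain ⟨a, b, h⟩ := X.index u v hu hv (fun ⟨a, b, h⟩ => nu ⟨b, a, (X.pair.gp_symm _ _).trans h⟩)
      (fun ⟨a, b, h⟩ => nv ⟨b, a, (X.pair.gp_symm _ _).trans h⟩)
    exact ⟨b, a, (X.pair.gp_symm _ _).trans h⟩
  cardM := X.cardM
  cardE := X.cardE
  elem := X.elem
  abelian := X.abelian
  leM := X.leM
  normE := X.normE
  core := X.core
  zE := X.zE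

/-- An outer involution, conjugate to an involution of the product other than `z`, and a conjugate
of `z` in the product. -/
theorem exists_outer_involution : ∃ t w : G, t * t = 1 ∧ t * z = z * t ∧ ¬InK f g t ∧
    (∃ x y : Fin 24, Pair.gp f g x y = w ∧ w * w = 1 ∧ w ≠ 1 ∧ w ≠ z) ∧ (∃ c, c * w * c⁻¹ = t) ∧
    ∃ (e : G) (c : G), InK f g e ∧ e * e = 1 ∧ e ≠ 1 ∧ e ≠ z ∧ c * z * c⁻¹ = e := by
  obtain ⟨x, y, hx, hy, hE, h1, hz'⟩ := X.exists_e
  obtain ⟨c, -, hc⟩ := (X.counting hx hy hE h1 hz').1 _ hE h1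
  obtain ⟨i, hi, hxi⟩ := anti_exists x hx
  obtain ⟨j, hj, hyj⟩ := anti_exists y hy
  obtain ⟨hj', hyj', hjj'⟩ := second_anti y j hy hj hyj
  have lj := tm_lt j.2 y.2
  have sq : ∀ {u v : ℕ} (hu : u < 24) (hv : v < 24), tm u u = 12 → tm v v = 12 →
      Pair.gp f g u v * Pair.gp f g u v = 1 := fun hu hv eu ev => by
    rw [X.pair.gp_mul hu hv hu hv, eu, ev, ← X.gp_zero]
    exact X.pair.gp_ng (x := 0) (y := 0) (by norm_num) (by norm_num)
  have nn : ∀ {u v : ℕ} (hu : u < 24) (hv : v < 24), tm u u = 12 →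
      Pair.gp f g u v ≠ 1 ∧ Pair.gp f g u v ≠ z := fun hu hv eu => by
    constructor <;> intro h
    · rcases X.pair.gp_eq hu hv (by norm_num) (by norm_num) (h.trans X.gp_zero.symm) with ⟨e, -⟩ | ⟨e, -⟩
      · rw [← e] at eu; exact absurd eu (by decide +kernel)
      · rw [← ng_ng hu, ← e] at eu; exact absurd eu (by decide +kernel)
    · rcases X.pair.gp_eq hu hv (by norm_num) (by norm_num) (h.trans X.gp_left.symm) with ⟨e, -⟩ | ⟨e, -⟩
      · rw [← e] at eu; exact absurd eu (by decide +kernel)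
      · rw [← ng_ng hu, ← e] at eu; exact absurd eu (by decide +kernel)
  have cm : ∀ {u v : ℕ} (hu : u < 24) (hv : v < 24), tm x u = ng (tm u x) → tm y v = ng (tm v y) →
      Pair.gp f g x y * Pair.gp f g u v = Pair.gp f g u v * Pair.gp f g x y := fun hu hv eu ev => by
    rw [X.pair.gp_mul x.2 y.2 hu hv, X.pair.gp_mul hu hv x.2 y.2, eu, ev,
      X.pair.gp_ng (tm_lt hu x.2) (tm_lt hv y.2)]
  have ab : Pair.gp f g i j * Pair.gp f g i (tm j y) = Pair.gp f g i (tm j y) * Pair.gp f g i j * z := by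
    rw [← X.gp_right, X.pair.gp_mul i.2 j.2 i.2 lj, X.pair.gp_mul i.2 lj i.2 j.2,
      X.pair.gp_mul (tm_lt i.2 i.2) (tm_lt lj j.2) (by norm_num) (by norm_num), hjj',
      ← (twelve_central ⟨_, tm_lt lj j.2⟩).2, (twelve_central ⟨_, tm_lt lj j.2⟩).1]
    congr 1
    exact ((show ∀ k : Fin 24, tm k 0 = k by decide +kernel) ⟨_, tm_lt i.2 i.2⟩).symm
  have trans : ∀ u v : Fin 24, tm u u = 12 → tm v v = 12 → tm x u = ng (tm u x) → tm y v = ng (tm v y) →
      (c⁻¹ * Pair.gp f g u v * c) * z = z * (c⁻¹ * Pair.gp f g u v * c) ∧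
      (c⁻¹ * Pair.gp f g u v * c) * (c⁻¹ * Pair.gp f g u v * c) = 1 := fun u v eu ev au av => by
    constructor
    · have := cm u.2 v.2 au av
      rw [← hc] at this
      calc c⁻¹ * Pair.gp f g u v * c * z = c⁻¹ * (Pair.gp f g u v * (c * z * c⁻¹)) * c := by group
        _ = c⁻¹ * ((c * z * c⁻¹) * Pair.gp f g u v) * c := by rw [this]
        _ = z * (c⁻¹ * Pair.gp f g u v * c) := by group
    · calc c⁻¹ * Pair.gp f g u v * c * (c⁻¹ * Pair.gp f g u v * c)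
          = c⁻¹ * (Pair.gp f g u v * Pair.gp f g u v) * c := by group
        _ = 1 := by rw [sq u.2 v.2 eu ev]; group
  obtain ⟨az, aa⟩ := trans i j hi hj hxi hyj
  obtain ⟨bz, bb⟩ := trans i ⟨_, lj⟩ hi hj' hxi hyj'
  by_cases hA : InK f g (c⁻¹ * Pair.gp f g i j * c)
  · by_cases hB : InK f g (c⁻¹ * Pair.gp f g i (tm j y) * c)
    · exfalso
      obtain ⟨a1, a2, ha⟩ := hA
      obtain ⟨b1, b2, hb⟩ := hB
      rw [← ha] at aa; rw [← hb] at bb
      obtain ⟨p1, p2, -⟩ := X.invol_coords aa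
      obtain ⟨q1, q2, -⟩ := X.invol_coords bb
      have key : Pair.gp f g a1 a2 * Pair.gp f g b1 b2 = Pair.gp f g b1 b2 * Pair.gp f g a1 a2 ∨
          Pair.gp f g a1 a2 * Pair.gp f g b1 b2 = Pair.gp f g b1 b2 * Pair.gp f g a1 a2 * z := by
        rw [X.pair.gp_mul a1.2 a2.2 b1.2 b2.2, X.pair.gp_mul b1.2 b2.2 a1.2 a2.2]
        have l1 := tm_lt b1.2 a1.2
        have l2 := tm_lt b2.2 a2.2
        have r0 : ∀ k : Fin 24, tm k 0 = k := by decide +kernel
        have r12 : ∀ k : Fin 24, tm k 12 = ng k := by decide +kernel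
        rcases peq_iff.1 (sq_pm_comm a1 b1 p1 q1) with e | e <;>
          rcases peq_iff.1 (sq_pm_comm a2 b2 p2 q2) with e' | e' <;> rw [e, e']
        · exact Or.inl rfl
        · refine Or.inr ?_
          rw [← X.gp_right, X.pair.gp_mul l1 l2 (by norm_num) (by norm_num), r0 ⟨_, l1⟩, r12 ⟨_, l2⟩]
        · refine Or.inr ?_
          rw [← X.gp_left, X.pair.gp_mul l1 l2 (by norm_num) (by norm_num), r12 ⟨_, l1⟩, r0 ⟨_, l2⟩]
        · exact Or.inl (X.pair.gp_ng l1 l2)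
      have e : c⁻¹ * (Pair.gp f g i j * Pair.gp f g i (tm j y)) * c =
          Pair.gp f g a1 a2 * Pair.gp f g b1 b2 := by rw [ha, hb]; group
      rw [ab] at e
      rcases key with k | k
      · rw [k, ha, hb] at e
        exact X.z_ne_one (by
          calc z = c * (c⁻¹ * z * c) * c⁻¹ := by group
            _ = c * (c⁻¹ * (Pair.gp f g i (tm j y) * Pair.gp f g i j)⁻¹ * c *
                (c⁻¹ * (Pair.gp f g i (tm j y) * Pair.gp f g i j * z) * c)) * c⁻¹ := by group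
            _ = 1 := by rw [e]; group)
      · rw [k, ha, hb] at e
        refine hz' (hc.symm.trans ?_)
        calc c * z * c⁻¹ = c * ((c⁻¹ * (Pair.gp f g i (tm j y) * Pair.gp f g i j) * c)⁻¹ *
              (c⁻¹ * Pair.gp f g i (tm j y) * c * (c⁻¹ * Pair.gp f g i j * c) * z)) * c⁻¹ := by group
          _ = z := by rw [← e]; group
    · exact ⟨_, Pair.gp f g i (tm j y), bb, bz, hB, ⟨i, ⟨_, lj⟩, rfl, sq i.2 lj hi hj', nn i.2 lj hi⟩,
        ⟨c⁻¹, by rw [inv_inv]⟩, Pair.gp f g x y, c, ⟨x, y, rfl⟩, X.elem _ hE, h1, hz', hc⟩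
  · exact ⟨_, Pair.gp f g i j, aa, az, hA, ⟨i, j, rfl, sq i.2 j.2 hi hj, nn i.2 j.2 hi⟩,
      ⟨c⁻¹, by rw [inv_inv]⟩, Pair.gp f g x y, c, ⟨x, y, rfl⟩, X.elem _ hE, h1, hz', hc⟩

end Pre

end CfsgLib.Recog.G2TwoLocal
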