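import Cfsg.Agent.Lib.Recog.G2TwoLocal.Setup

/-!
Finite facts on the model used by the analysis of the centralizers of elements of order three.
-/

set_option autoImplicit false
set_option maxRecDepth 100000

namespace CfsgLib.Recog.G2TwoLocal

namespace Cm

/-- The long element of order three. -/
def aC : Cm := ofSXY 0 6 0

/-- The short element of order three. -/
def bC : Cm := ofSXY 0 0 6

/-- The product of the two. -/
def cC : Cm := ofSXY 0 6 6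

/-- The other diagonal element. -/
def dC : Cm := ofSXY 0 6 9

/-- The Weyl element of the first factor. -/
def jA : Cm := ofSXY 0 1 0

/-- The Weyl element of the second factor. -/
def jB : Cm := ofSXY 0 0 1

/-- The four representatives. -/
def reps : List Cm := [aC, bC, cC, dC]

/-- The subgroup of order nine. -/
def p9 : List Cm := ([0, 6, 9] : List ℕ).flatMap fun i => ([0, 6, 9] : List ℕ).map fun j => ofSXY 0 i j

/-- The elements of order dividing three inverted by `τ`. -/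
def inv25 : List Cm :=
  ([0, 6, 9, 4, 5] : List ℕ).flatMap fun i => ([0, 6, 9, 4, 5] : List ℕ).map fun j => ofSXY 0 i j

/-- The four subgroups of order nine inverted by `τ`. -/
def grp : Fin 4 → List Cm := fun n =>
  (([[0, 6, 9], [0, 4, 5]] : List (List ℕ)).getD (n / 2) []).flatMap fun i =>
    (([[0, 6, 9], [0, 4, 5]] : List (List ℕ)).getD (n % 2) []).map fun j => ofSXY 0 i j

/-- The part of the odd core of the centralizer of a representative inside the model. -/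
def zpart (x : Cm) : List Cm := if x = aC then [1, aC, aC * aC] else if x = bC then [1, bC, bC * bC] else p9

/-- An element acting on the representative subgroup by a sign on each line. -/
def sgnA : List Cm := [aC, aC * aC]

/-- The long axes and their inverses. -/
def longL : List Cm := ([6, 9, 4, 5] : List ℕ).map fun i => ofSXY 0 i 0

/-- The short axes and their inverses. -/
def shortL : List Cm := ([6, 9, 4, 5] : List ℕ).map fun i => ofSXY 0 0 i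

/-- The diagonal elements. -/
def diagL : List Cm :=
  ([6, 9, 4, 5] : List ℕ).flatMap fun i => ([6, 9, 4, 5] : List ℕ).map fun j => ofSXY 0 i j

end Cm

open Cm

theorem inv25_iff : ∀ n : Fin 576,
    ((⟨n⟩ : Cm) * ⟨n⟩ * ⟨n⟩ = 1 ∧ tau * ⟨n⟩ * tau⁻¹ = (⟨n⟩ : Cm)⁻¹) ↔ (⟨n⟩ : Cm) ∈ inv25 := by
  decide +kernel

theorem inv25_classes : ∀ c ∈ inv25, c = 1 ∨ c ∈ longL ∨ c ∈ shortL ∨ c ∈ diagL := by decide +kernel

theorem reps_cube : ∀ x ∈ reps, x * x * x = 1 ∧ x ≠ 1 ∧ x ∈ inv25 := by decide +kernel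

/-- The only involution centralizing a representative is the central one. -/
theorem reps_invol : ∀ x ∈ reps, ∀ n : Fin 576, (⟨n⟩ : Cm) * x = x * ⟨n⟩ → (⟨n⟩ : Cm) * ⟨n⟩ = 1 →
    (⟨n⟩ : Cm) = 1 ∨ (⟨n⟩ : Cm) = zc := by decide +kernel

/-- Elements of odd order have cube one; the others have a power equal to an involution. -/
theorem odd_cube : ∀ n : Fin 576, (⟨n⟩ : Cm) ^ 9 = 1 → (⟨n⟩ : Cm) * ⟨n⟩ * ⟨n⟩ = 1 := by decide +kernel

/-- Odd normal elements of the centralizer of a representative. -/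
theorem reps_odd_part : ∀ x ∈ reps, ∀ n : Fin 576, (⟨n⟩ : Cm) * x = x * ⟨n⟩ →
    (⟨n⟩ : Cm) * ⟨n⟩ * ⟨n⟩ = 1 →
    (∀ d : Fin 576, (⟨d⟩ : Cm) * x = x * ⟨d⟩ → (⟨d⟩ : Cm) ^ 4 = 1 → (⟨n⟩ : Cm) * ⟨d⟩ = ⟨d⟩ * ⟨n⟩) →
    (⟨n⟩ : Cm) ∈ zpart x := by decide +kernel

theorem reps_two_part : ∀ x ∈ reps, ∀ n : Fin 576, (⟨n⟩ : Cm) * x = x * ⟨n⟩ →
    (⟨n⟩ : Cm) * ⟨n⟩ * ⟨n⟩ = 1 → ∀ d : Fin 576, (⟨d⟩ : Cm) * x = x * ⟨d⟩ → (⟨d⟩ : Cm) ^ 4 = 1 →
    (((⟨n⟩ : Cm) * ⟨d⟩ * (⟨n⟩ : Cm)⁻¹) * (⟨d⟩ : Cm)⁻¹) ^ 4 = 1 := by decide +kernel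

/-- The diagonal centralizer is the subgroup of order nine times the central involution. -/
theorem diag_cent : ∀ x ∈ [cC, dC], ∀ n : Fin 576, (⟨n⟩ : Cm) * x = x * ⟨n⟩ →
    (⟨n⟩ : Cm) ∈ p9 ∨ (⟨n⟩ : Cm) * zc ∈ p9 := by decide +kernel

theorem p9_cube : ∀ c ∈ p9, c * c * c = 1 ∧ c * aC = aC * c ∧ c * bC = bC * c ∧ c ∈ inv25 := by
  decide +kernel

theorem p9_closed : (∀ c ∈ p9, ∀ d ∈ p9, c * d ∈ p9) ∧ (∀ c ∈ p9, c⁻¹ ∈ p9) := by decide +kernel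

theorem p9_cases : ∀ c ∈ p9, c = 1 ∨ ∃ x ∈ reps, c = x ∨ c = x⁻¹ := by decide +kernel

theorem p9_eq : ∀ c ∈ p9, ∃ i j : Fin 3, c = aC ^ (i : ℕ) * bC ^ (j : ℕ) := by decide +kernel

theorem cent_a_b : ∀ n : Fin 576, (⟨n⟩ : Cm) * aC = aC * ⟨n⟩ → (⟨n⟩ : Cm) * bC = bC * ⟨n⟩ →
    (⟨n⟩ : Cm) ∈ p9 ∨ (⟨n⟩ : Cm) * zc ∈ p9 := by decide +kernel

/-- Conjugacy in the model between elements of the subgroup of order nine. -/
theorem fusion_fact : ∀ n : Fin 576, ∀ x ∈ reps,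
    (⟨n⟩ : Cm) * x * (⟨n⟩ : Cm)⁻¹ ∈ p9 → (⟨n⟩ : Cm) * x * (⟨n⟩ : Cm)⁻¹ = x ∨
      (⟨n⟩ : Cm) * x * (⟨n⟩ : Cm)⁻¹ = x⁻¹ := by decide +kernel

theorem axes_conj : (∀ c ∈ longL, ∀ n : Fin 576, c * ⟨n⟩ ≠ ⟨n⟩ * bC ∧ c * ⟨n⟩ ≠ ⟨n⟩ * cC ∧ c * ⟨n⟩ ≠ ⟨n⟩ * dC) ∧
    (∀ c ∈ shortL, ∀ n : Fin 576, c * ⟨n⟩ ≠ ⟨n⟩ * aC ∧ c * ⟨n⟩ ≠ ⟨n⟩ * cC ∧ c * ⟨n⟩ ≠ ⟨n⟩ * dC) ∧
    (∀ c ∈ diagL, ∀ n : Fin 576, c * ⟨n⟩ ≠ ⟨n⟩ * aC ∧ c * ⟨n⟩ ≠ ⟨n⟩ * bC) := by decide +kernel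

/-- The centralizer of `τ` is a 2-group. -/
theorem cent_tau : ∀ n : Fin 576, (⟨n⟩ : Cm) * tau = tau * ⟨n⟩ → (⟨n⟩ : Cm) * ⟨n⟩ = 1 := by
  decide +kernel

theorem tau_facts : tau * aC * tau⁻¹ = aC⁻¹ ∧ tau * bC * tau⁻¹ = bC⁻¹ ∧ tau * tau = 1 ∧
    tau ≠ 1 ∧ tau ≠ zc ∧ tau * zc = zc * tau ∧ zc * zc = 1 ∧ zc ≠ 1 ∧ zc * aC = aC * zc ∧
    zc * bC = bC * zc ∧ aC * bC = bC * aC := by decide +kernel

theorem outer_conj : ∀ n : Fin 576, (⟨n⟩ : Cm) * ⟨n⟩ = 1 →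
    (∀ d : Fin 576, (⟨d⟩ : Cm) * ⟨n⟩ = ⟨n⟩ * ⟨d⟩ → (⟨d⟩ : Cm) * ⟨d⟩ = 1) →
    ∃ k : Fin 576, (⟨k⟩ : Cm) * tau = ⟨n⟩ * ⟨k⟩ := by decide +kernel

theorem j_facts : jB * aC = aC * jB ∧ jA * bC = bC * jA ∧ jB * bC * jB⁻¹ ∈ shortL ∧
    jA * aC * jA⁻¹ ∈ longL ∧ jB * bC * jB⁻¹ ∉ p9 ∧ jA * aC * jA⁻¹ ∉ p9 ∧
    jB * tau * jB⁻¹ = zc * tau ∧ jA * tau * jA⁻¹ = zc * tau ∧ jA * jA = zc ∧ jB * jB = zc := by
  decide +kernel

/-- The two short axes generate the central involution. -/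
theorem b_pair_gen : (bC * (jB * bC * jB⁻¹) * bC) * (bC * (jB * bC * jB⁻¹) * bC) = zc ∨
    (bC * (jB * bC * jB⁻¹)⁻¹ * bC) * (bC * (jB * bC * jB⁻¹)⁻¹ * bC) = zc := by decide +kernel

/-- The four groups are closed and pairwise related by the products with outside elements. -/
def grpTest (x y v : Cm) (n : Fin 4) : Bool :=
  inv25.contains (v * x) && inv25.contains (v * x⁻¹) && inv25.contains (v * y) &&
    inv25.contains (v * y⁻¹) && inv25.contains (v * (x * y)) && inv25.contains (v * (x * y)⁻¹) &&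
    !(grp n).contains v

/-- A pair inside one of the four groups generating it. -/
def pairTest (x y : Cm) (n : Fin 4) : Bool :=
  (grp n).contains x && (grp n).contains y && (inv25.all fun v => !grpTest x y v n) &&
    (grp n).all fun v => (List.range 3).any fun i => (List.range 3).any fun j => v == x ^ i * y ^ j

/-- Degenerate pairs. -/
def pairDeg (x y : Cm) : Bool := x == 1 || y == 1 || y == x || y == x⁻¹

theorem inv25_group : ∀ x ∈ inv25, ∀ y ∈ inv25, x * y ∈ inv25 → x * y⁻¹ ∈ inv25 →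
    pairDeg x y = true ∨ ∃ n : Fin 4, pairTest x y n = true := by decide +kernel

/-- The four groups are conjugates of the standard one. -/
theorem grp_conj : ∀ n : Fin 4, ∃ k ∈ [1, jA, jB, jA * jB],
    (grp n).all (fun v => (k⁻¹ * v * k) ∈ p9) = true ∧ p9.all (fun v => (k * v * k⁻¹) ∈ grp n) = true ∧
      (k * tau * k⁻¹ = tau ∨ k * tau * k⁻¹ = zc * tau) ∧ k * aC * k⁻¹ ∈ longL ∧
      k * bC * k⁻¹ ∈ shortL := by decide +kernel

/-- Each of the 24 elements is a conjugate of a representative. -/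
theorem axis_rep : ∀ c ∈ inv25, c = 1 ∨ ∃ k ∈ [1, jA, jB, jA * jB, tau, tau * jA, tau * jB, tau * (jA * jB)],
    ∃ x ∈ reps, k * x * k⁻¹ = c ∧ (k * tau * k⁻¹ = tau ∨ k * tau * k⁻¹ = zc * tau) := by decide +kernel

/-- A group among the four containing `aC` is the standard one or its companion. -/
theorem grp_aC : ∀ n : Fin 4, aC ∈ grp n →
    (grp n).all (fun v => v ∈ p9) = true ∨ (grp n).all (fun v => (jB⁻¹ * v * jB) ∈ p9) = true := by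
  decide +kernel

end CfsgLib.Recog.G2TwoLocal
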