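import Cfsg.Agent.Lib.Recog.G2TwoLocal.FrameFacts
import Mathlib.Algebra.Group.Subgroup.Ker

/-!
Change of frame: conjugation in the group and automorphisms of the model.
-/

set_option autoImplicit false
set_option maxRecDepth 100000
set_option linter.unusedSectionVars false

namespace CfsgLib.Recog.G2TwoLocal

open CfsgLib.Recog.U4Two (tm tm_lt)

theorem twelve_mul : ∀ i : Fin 24, tm 12 i = ng i ∧ tm 0 i = i ∧ th 12 = 12 ∧ th 0 = 0 := by decide +kernel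

namespace Cm

theorem sOf_mul (c d : Cm) : (c * d).sOf = (c.sOf + d.sOf) % 2 :=
  (coords_ofSXY (Nat.mod_lt _ (by omega)) (tm_lt c.xOf_lt (thp_lt _ d.xOf_lt))
    (tm_lt c.yOf_lt' (thp_lt _ d.yOf_lt'))).1

theorem zc_comm (c : Cm) : c * zc = zc * c := by
  rw [show c = ⟨c.code⟩ from rfl, zc_central]

/-- The automorphism multiplying the outer elements by the central involution. -/
def alpha : Cm →* Cm :=
  MonoidHom.mk' (fun c => c * zc ^ c.sOf) fun c d => by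
    have hz : zc * zc = 1 := tau_facts.2.2.2.2.2.2.1
    have hp : zc ^ (c * d).sOf = zc ^ c.sOf * zc ^ d.sOf := by
      rw [sOf_mul, ← pow_add]
      have := c.sOf_lt
      have := d.sOf_lt
      rcases (show c.sOf = 0 ∨ c.sOf = 1 by omega) with e | e <;>
        rcases (show d.sOf = 0 ∨ d.sOf = 1 by omega) with e' | e' <;> simp [e, e', pow_two, hz]
    rw [hp]
    have h : d * zc ^ c.sOf = zc ^ c.sOf * d := (Commute.pow_right (zc_comm d) _).eq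
    simp only [mul_assoc]
    congr 1
    rw [← mul_assoc, h, mul_assoc]

/-- The automorphism exchanging the two factors. -/
def sigma : Cm →* Cm :=
  MonoidHom.mk' (fun c => ofSXY c.sOf c.yOf c.xOf) fun c d => by
    have a1 := thp_lt c.sOf d.xOf_lt
    have a2 := thp_lt c.sOf d.yOf_lt'
    have hs : (c.sOf + d.sOf) % 2 < 2 := Nat.mod_lt _ (by omega)
    rw [ofSXY_mul c.sOf_lt c.yOf_lt' c.xOf_lt d.sOf_lt d.yOf_lt' d.xOf_lt, sOf_mul]
    have l1 := tm_lt c.xOf_lt a1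
    have l2 := tm_lt c.yOf_lt' a2
    rcases (coords_ofSXY hs l1 l2).2 with ⟨e1, e2⟩ | ⟨e1, e2⟩
    · show ofSXY _ (c * d).yOf (c * d).xOf = _
      rw [mul_def, e1, e2]
    · show ofSXY _ (c * d).yOf (c * d).xOf = _
      rw [mul_def, e1, e2, ofSXY_ng l2 l1]

theorem alpha_facts : alpha aC = aC ∧ alpha bC = bC ∧ alpha tau = zc * tau ∧ alpha zc = zc := by
  decide +kernel

theorem sigma_facts : sigma aC = bC ∧ sigma bC = aC ∧ sigma tau = tau ∧ sigma zc = zc := by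
  decide +kernel

theorem alpha_inj : Function.Injective alpha := by
  intro c d h
  have e : c * zc ^ c.sOf = d * zc ^ d.sOf := h
  have hs : c.sOf = d.sOf := by
    have h2 := congrArg sOf e
    have hz : ∀ s : ℕ, (zc ^ s : Cm).sOf = 0 := fun s => by
      induction s with
      | zero => rfl
      | succ s ih => rw [pow_succ, sOf_mul, ih, zc_sOf]
    rw [sOf_mul, sOf_mul, hz, hz] at h2
    have := c.sOf_lt
    have := d.sOf_lt
    omega
  rw [hs] at e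
  exact mul_right_cancel e

theorem sigma_sigma (c : Cm) : sigma (sigma c) = c := by
  show ofSXY (ofSXY c.sOf c.yOf c.xOf).sOf (ofSXY c.sOf c.yOf c.xOf).yOf (ofSXY c.sOf c.yOf c.xOf).xOf = c
  obtain ⟨h1, h2⟩ := coords_ofSXY c.sOf_lt c.yOf_lt' c.xOf_lt
  rcases h2 with ⟨e1, e2⟩ | ⟨e1, e2⟩
  · rw [h1, e1, e2, ofSXY_coords]
  · rw [h1, e1, e2, ofSXY_ng c.xOf_lt c.yOf_lt', ofSXY_coords]

theorem sigma_inj : Function.Injective sigma := fun c d h => by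
  rw [← sigma_sigma c, h, sigma_sigma]

end Cm

open Cm

namespace Cfg

variable {G : Type*} [Group G] {z : G} {φ : Cm →* G}

theorem conjFrame (X : Cfg z φ) (g : G) :
    Cfg (g * z * g⁻¹) ((MulAut.conj g).toMonoidHom.comp φ) where
  inj := (MulAut.conj g).injective.comp X.inj
  range u := by
    constructor
    · intro h
      obtain ⟨c, hc⟩ := (X.range (g⁻¹ * u * g)).1 (by
        calc g⁻¹ * u * g * z = g⁻¹ * (u * (g * z * g⁻¹)) * g := by group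
          _ = g⁻¹ * ((g * z * g⁻¹) * u) * g := by rw [h]
          _ = z * (g⁻¹ * u * g) := by group)
      exact ⟨c, by show g * φ c * g⁻¹ = u; rw [hc]; group⟩
    · rintro ⟨c, rfl⟩
      show g * φ c * g⁻¹ * _ = _ * (g * φ c * g⁻¹)
      calc g * φ c * g⁻¹ * (g * z * g⁻¹) = g * (φ c * z) * g⁻¹ := by group
        _ = g * (z * φ c) * g⁻¹ := by rw [(X.range _).2 ⟨c, rfl⟩]
        _ = g * z * g⁻¹ * (g * φ c * g⁻¹) := by group
  hz := by show g * φ Cm.zc * g⁻¹ = _; rw [X.hz]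
  oneClass u hu hu1 := by
    obtain ⟨k, hk⟩ := X.oneClass u hu hu1
    exact ⟨k * g⁻¹, by rw [← hk]; group⟩
  seven := X.seven

theorem pre (X : Cfg z φ) {α : Cm →* Cm} (hα : Function.Injective α) (hz : α Cm.zc = Cm.zc) :
    Cfg z (φ.comp α) where
  inj := X.inj.comp hα
  range u := by
    rw [X.range u]
    constructor
    · rintro ⟨c, rfl⟩
      obtain ⟨d, rfl⟩ := (Finite.injective_iff_surjective.1 hα) c
      exact ⟨d, rfl⟩
    · rintro ⟨c, rfl⟩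
      exact ⟨α c, rfl⟩
  hz := by show φ (α Cm.zc) = z; rw [hz, X.hz]
  oneClass := X.oneClass
  seven := X.seven

theorem preAlpha (X : Cfg z φ) : Cfg z (φ.comp alpha) := X.pre alpha_inj alpha_facts.2.2.2

theorem preSigma (X : Cfg z φ) : Cfg z (φ.comp sigma) := X.pre sigma_inj sigma_facts.2.2.2

theorem preInner (X : Cfg z φ) (k : Cm) : Cfg z (φ.comp (MulAut.conj k).toMonoidHom) :=
  X.pre (MulAut.conj k).injective (by
    show k * Cm.zc * k⁻¹ = Cm.zc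
    rw [zc_comm, mul_inv_cancel_right])

theorem comm_phi (X : Cfg z φ) {c d : Cm} : φ c * φ d = φ d * φ c ↔ c * d = d * c := by
  constructor
  · intro h; exact X.inj (by rw [map_mul, map_mul, h])
  · intro h; rw [← map_mul, h, map_mul]

theorem z_sq (X : Cfg z φ) : z * z = 1 := by
  rw [← X.hz, ← map_mul, tau_facts.2.2.2.2.2.2.1, map_one]

theorem z_ne (X : Cfg z φ) : z ≠ 1 := fun h =>
  tau_facts.2.2.2.2.2.2.2.1 (X.inj (by rw [X.hz, map_one, h]))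

theorem t_sq (_ : Cfg z φ) : φ tau * φ tau = 1 := by rw [← map_mul, tau_facts.2.2.1, map_one]

theorem t_comm (X : Cfg z φ) : φ tau * z = z * φ tau := (X.range _).2 ⟨_, rfl⟩

/-- The central and the outer involution are exchanged by conjugation. -/
theorem exists_swap (X : Cfg z φ) :
    ∃ g : G, g * z * g⁻¹ = φ tau ∧ g * φ tau * g⁻¹ = z := by
  obtain ⟨g₀, hg₀⟩ := X.oneClass (φ tau) X.t_sq (fun h =>
    tau_facts.2.2.2.1 (X.inj (by rw [h, map_one])))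
  have hu : (g₀⁻¹ * z * g₀) * z = z * (g₀⁻¹ * z * g₀) := by
    have h := X.t_comm
    rw [← hg₀] at h
    calc g₀⁻¹ * z * g₀ * z = g₀⁻¹ * (z * (g₀ * z * g₀⁻¹)) * g₀ := by group
      _ = g₀⁻¹ * ((g₀ * z * g₀⁻¹) * z) * g₀ := by rw [h]
      _ = z * (g₀⁻¹ * z * g₀) := by group
  obtain ⟨c, hc⟩ := (X.range _).1 hu
  have hcc : c * c = 1 := X.inj (by
    rw [map_mul, map_one, hc]
    calc g₀⁻¹ * z * g₀ * (g₀⁻¹ * z * g₀) = g₀⁻¹ * (z * z) * g₀ := by group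
      _ = 1 := by rw [X.z_sq]; group)
  obtain ⟨k, hk⟩ := outer_conj c.code hcc (fun d hd => X.inj (by
    have hd' := X.comm_phi.2 hd
    rw [hc] at hd'
    have hdz : φ ⟨d⟩ * z = z * φ ⟨d⟩ := (X.range _).2 ⟨_, rfl⟩
    obtain ⟨e, he⟩ := (X.range (g₀ * φ ⟨d⟩ * g₀⁻¹)).1 (by
      calc g₀ * φ ⟨d⟩ * g₀⁻¹ * z = g₀ * (φ ⟨d⟩ * (g₀⁻¹ * z * g₀)) * g₀⁻¹ := by group
        _ = g₀ * ((g₀⁻¹ * z * g₀) * φ ⟨d⟩) * g₀⁻¹ := by rw [hd']
        _ = z * (g₀ * φ ⟨d⟩ * g₀⁻¹) := by group)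
    have he2 : e * e = 1 := cent_tau e.code (X.comm_phi.1 (by
      show φ e * φ tau = φ tau * φ e
      rw [he, ← hg₀]
      calc g₀ * φ ⟨d⟩ * g₀⁻¹ * (g₀ * z * g₀⁻¹) = g₀ * (φ ⟨d⟩ * z) * g₀⁻¹ := by group
        _ = g₀ * (z * φ ⟨d⟩) * g₀⁻¹ := by rw [hdz]
        _ = g₀ * z * g₀⁻¹ * (g₀ * φ ⟨d⟩ * g₀⁻¹) := by group))
    rw [map_mul, map_one]
    calc φ ⟨d⟩ * φ ⟨d⟩ = g₀⁻¹ * ((g₀ * φ ⟨d⟩ * g₀⁻¹) * (g₀ * φ ⟨d⟩ * g₀⁻¹)) * g₀ := by group
      _ = 1 := by rw [← he, ← map_mul, he2, map_one]; group))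
  refine ⟨g₀ * φ ⟨k⟩, ?_, ?_⟩
  · calc g₀ * φ ⟨k⟩ * z * (g₀ * φ ⟨k⟩)⁻¹ = g₀ * (φ ⟨k⟩ * z) * (φ ⟨k⟩)⁻¹ * g₀⁻¹ := by group
      _ = g₀ * z * g₀⁻¹ := by rw [(X.range _).2 ⟨⟨k⟩, rfl⟩]; group
      _ = φ tau := hg₀
  · calc g₀ * φ ⟨k⟩ * φ tau * (g₀ * φ ⟨k⟩)⁻¹ = g₀ * (φ ⟨k⟩ * φ tau) * (φ ⟨k⟩)⁻¹ * g₀⁻¹ := by group
      _ = g₀ * φ c * g₀⁻¹ := by
        rw [← map_mul, hk, map_mul]; group
      _ = z := by rw [hc]; group

end Cfg

end CfsgLib.Recog.G2TwoLocal
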