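import Cfsg.Agent.Lib.Recog.U4Two.Group
import Cfsg.Agent.Lib.Recog.G2TwoLocal.Data
import Mathlib.Algebra.Group.MinimalAxioms

/-!
The multiplication on the codes makes a group.
-/

set_option autoImplicit false
set_option maxRecDepth 100000

namespace CfsgLib.Recog.G2TwoLocal

open CfsgLib.Recog.U4Two (tm ti tm_lt decZ decZ_mul decZ_inj decZ_zero)

theorem th_fact : ∀ i : Fin 24, th i < 24 ∧ th (th i) = i ∧ th (ng i) = ng (th i) := by decide +kernel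

theorem th_mul : ∀ i j : Fin 24, th (tm i j) = tm (th i) (th j) := by decide +kernel

theorem tm_ng : ∀ i j : Fin 24, tm (ng i) j = ng (tm i j) ∧ tm i (ng j) = ng (tm i j) := by decide +kernel

theorem ng_lt (i : ℕ) : ng i < 24 := Nat.mod_lt _ (by omega)

theorem ng_ng {i : ℕ} (h : i < 24) : ng (ng i) = i := by unfold ng; omega

theorem tm_assoc {i j k : ℕ} (hi : i < 24) (hj : j < 24) (hk : k < 24) :
    tm (tm i j) k = tm i (tm j k) := by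
  refine congrArg Fin.val (decZ_inj ⟨_, tm_lt (tm_lt hi hj) hk⟩ ⟨_, tm_lt hi (tm_lt hj hk)⟩ ?_)
  show decZ (tm (tm i j) k) = decZ (tm i (tm j k))
  rw [(decZ_mul ⟨_, tm_lt hi hj⟩ ⟨k, hk⟩).2, (decZ_mul ⟨i, hi⟩ ⟨j, hj⟩).2,
    (decZ_mul ⟨i, hi⟩ ⟨_, tm_lt hj hk⟩).2, (decZ_mul ⟨j, hj⟩ ⟨k, hk⟩).2, mul_assoc]

theorem thp_lt (s : ℕ) {i : ℕ} (h : i < 24) : thp s i < 24 := by
  unfold thp; split_ifs
  exacts [h, (th_fact ⟨i, h⟩).1]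

theorem thp_ng (s : ℕ) {i : ℕ} (h : i < 24) : thp s (ng i) = ng (thp s i) := by
  unfold thp; split_ifs
  exacts [rfl, (th_fact ⟨i, h⟩).2.2]

theorem thp_mul (s : ℕ) {i j : ℕ} (hi : i < 24) (hj : j < 24) :
    thp s (tm i j) = tm (thp s i) (thp s j) := by
  unfold thp; split_ifs
  exacts [rfl, th_mul ⟨i, hi⟩ ⟨j, hj⟩]

theorem thp_thp {s s' i : ℕ} (hs : s < 2) (hs' : s' < 2) (h : i < 24) :
    thp ((s + s') % 2) i = thp s (thp s' i) := by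
  rcases (show s = 0 ∨ s = 1 by omega) with rfl | rfl <;>
    rcases (show s' = 0 ∨ s' = 1 by omega) with rfl | rfl <;> simp [thp]
  exact ((th_fact ⟨i, h⟩).2.1).symm

namespace Cm

theorem sOf_lt (p : Cm) : p.sOf < 2 := by
  have := p.code.isLt; unfold sOf; omega

theorem xOf_lt (p : Cm) : p.xOf < 24 := Nat.mod_lt _ (by omega)

theorem yOf_lt (p : Cm) : p.yOf < 12 := Nat.mod_lt _ (by omega)

theorem yOf_lt' (p : Cm) : p.yOf < 24 := p.yOf_lt.trans (by omega)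

theorem ofSXY_ng {s x y : ℕ} (hx : x < 24) (hy : y < 24) : ofSXY s (ng x) (ng y) = ofSXY s x y := by
  refine congrArg Cm.mk ?_
  have e : ng y = if y < 12 then y + 12 else y - 12 := by unfold ng; split_ifs <;> omega
  rw [e, ng_ng hx]
  by_cases h : y < 12
  · simp only [if_pos h, if_neg (show ¬(y + 12 < 12) by omega), Nat.add_sub_cancel]
  · simp only [if_neg h, if_pos (show y - 12 < 12 by omega)]

theorem coords_ofSXY {s x y : ℕ} (hs : s < 2) (hx : x < 24) (hy : y < 24) :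
    (ofSXY s x y).sOf = s ∧
      (((ofSXY s x y).xOf = x ∧ (ofSXY s x y).yOf = y) ∨
        ((ofSXY s x y).xOf = ng x ∧ (ofSXY s x y).yOf = ng y)) := by
  have := ng_lt x
  unfold ofSXY
  by_cases h : y < 12
  · rw [if_pos h]
    have e : ((Fin.ofNat 576 ((s * 24 + x) * 12 + y) : Fin 576) : ℕ) = (s * 24 + x) * 12 + y :=
      Nat.mod_eq_of_lt (by omega)
    simp only [sOf, xOf, yOf, e]
    exact ⟨by omega, Or.inl ⟨by omega, by omega⟩⟩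
  · rw [if_neg h]
    have e : ((Fin.ofNat 576 ((s * 24 + ng x) * 12 + (y - 12)) : Fin 576) : ℕ) =
        (s * 24 + ng x) * 12 + (y - 12) := Nat.mod_eq_of_lt (by omega)
    simp only [sOf, xOf, yOf, e]
    exact ⟨by omega, Or.inr ⟨by omega, by unfold ng; omega⟩⟩

theorem mul_def (p q : Cm) : p * q =
    ofSXY ((p.sOf + q.sOf) % 2) (tm p.xOf (thp p.sOf q.xOf)) (tm p.yOf (thp p.sOf q.yOf)) := rfl

theorem ofSXY_mul {s x y : ℕ} (hs : s < 2) (hx : x < 24) (hy : y < 24) {s' x' y' : ℕ} (hs' : s' < 2)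
    (hx' : x' < 24) (hy' : y' < 24) :
    ofSXY s x y * ofSXY s' x' y' =
      ofSXY ((s + s') % 2) (tm x (thp s x')) (tm y (thp s y')) := by
  obtain ⟨h1, h2⟩ := coords_ofSXY hs hx hy
  obtain ⟨h3, h4⟩ := coords_ofSXY hs' hx' hy'
  have a1 := thp_lt s hx'
  have a2 := thp_lt s hy'
  have b1 := thp_lt s (ng_lt x')
  have b2 := thp_lt s (ng_lt y')
  have l1 := tm_lt hx a1
  have l2 := tm_lt hy a2
  rw [mul_def, h1, h3]
  rcases h2 with ⟨e1, e2⟩ | ⟨e1, e2⟩ <;> rcases h4 with ⟨e3, e4⟩ | ⟨e3, e4⟩ <;>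
    rw [e1, e2, e3, e4]
  · rw [thp_ng s hx', thp_ng s hy', (tm_ng ⟨x, hx⟩ ⟨_, a1⟩).2, (tm_ng ⟨y, hy⟩ ⟨_, a2⟩).2,
      ofSXY_ng l1 l2]
  · rw [(tm_ng ⟨x, hx⟩ ⟨_, a1⟩).1, (tm_ng ⟨y, hy⟩ ⟨_, a2⟩).1, ofSXY_ng l1 l2]
  · rw [thp_ng s hx', thp_ng s hy', (tm_ng ⟨_, ng_lt x⟩ ⟨_, a1⟩).2, (tm_ng ⟨_, ng_lt y⟩ ⟨_, a2⟩).2,
      (tm_ng ⟨x, hx⟩ ⟨_, a1⟩).1, (tm_ng ⟨y, hy⟩ ⟨_, a2⟩).1, ng_ng l1, ng_ng l2]

theorem ofSXY_coords (p : Cm) : ofSXY p.sOf p.xOf p.yOf = p := by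
  obtain ⟨a⟩ := p
  have := a.isLt
  refine congrArg Cm.mk ?_
  have h : a.val % 12 < 12 := by omega
  unfold sOf xOf yOf
  refine (if_pos h).trans ?_
  refine Fin.ext ?_
  show ((a.val / 288 * 24 + a.val / 12 % 24) * 12 + a.val % 12) % 576 = a.val
  omega

theorem mul_assoc' (a b c : Cm) : a * b * c = a * (b * c) := by
  obtain ⟨hs, hx, hy⟩ : a.sOf < 2 ∧ a.xOf < 24 ∧ a.yOf < 24 := ⟨a.sOf_lt, a.xOf_lt, a.yOf_lt'⟩
  obtain ⟨hs', hx', hy'⟩ : b.sOf < 2 ∧ b.xOf < 24 ∧ b.yOf < 24 := ⟨b.sOf_lt, b.xOf_lt, b.yOf_lt'⟩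
  obtain ⟨hs'', hx'', hy''⟩ : c.sOf < 2 ∧ c.xOf < 24 ∧ c.yOf < 24 := ⟨c.sOf_lt, c.xOf_lt, c.yOf_lt'⟩
  conv_lhs => rw [← ofSXY_coords a, ← ofSXY_coords b, ← ofSXY_coords c]
  conv_rhs => rw [← ofSXY_coords a, ← ofSXY_coords b, ← ofSXY_coords c]
  have n1 : (a.sOf + b.sOf) % 2 < 2 := Nat.mod_lt _ (by omega)
  have n2 : (b.sOf + c.sOf) % 2 < 2 := Nat.mod_lt _ (by omega)
  have u1 := tm_lt hx (thp_lt a.sOf hx')
  have u2 := tm_lt hy (thp_lt a.sOf hy')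
  have v1 := tm_lt hx' (thp_lt b.sOf hx'')
  have v2 := tm_lt hy' (thp_lt b.sOf hy'')
  rw [ofSXY_mul hs hx hy hs' hx' hy', ofSXY_mul n1 u1 u2 hs'' hx'' hy'',
    ofSXY_mul hs' hx' hy' hs'' hx'' hy'', ofSXY_mul hs hx hy n2 v1 v2,
    thp_mul _ hx' (thp_lt _ hx''), thp_mul _ hy' (thp_lt _ hy''),
    thp_thp hs hs' hx'', thp_thp hs hs' hy'',
    tm_assoc hx (thp_lt _ hx') (thp_lt _ (thp_lt _ hx'')),
    tm_assoc hy (thp_lt _ hy') (thp_lt _ (thp_lt _ hy''))]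
  congr 1
  omega

theorem one_inv_fact : ∀ n : Fin 576,
    (1 : Cm) * ⟨n⟩ = ⟨n⟩ ∧ (⟨n⟩ : Cm)⁻¹ * ⟨n⟩ = 1 := by decide +kernel

end Cm

instance : Group Cm :=
  Group.ofLeftAxioms Cm.mul_assoc' (fun a => (Cm.one_inv_fact a.code).1)
    (fun a => (Cm.one_inv_fact a.code).2)

end CfsgLib.Recog.G2TwoLocal
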