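import Cfsg.Agent.Lib.Recog.G2TwoLocal.WholeBasic

/-!
The normalised configuration of the generic case: the weight group of the long element is the standard group
of a frame `φ'` at `τ`, whose long element commutes with the short element of `φ`.
-/

set_option autoImplicit false
set_option linter.unusedSectionVars false

namespace CfsgLib.Recog.G2TwoLocal

open Cm

universe u

variable {G : Type u} [Group G] [Finite G]

/-- The image under the Weyl element of the second factor. -/
def jconj (φ : Cm →* G) (y : G) : G := φ jB * y * (φ jB)⁻¹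

/-- The normalised generic configuration. -/
structure Norm {z : G} {φ : Cm →* G} (X : Cfg z φ) (φ' : Cm →* G) : Prop where
  frame : Cfg (φ tau) φ'
  tau_z : φ' tau = z
  sib : Sib φ φ'
  kt_eq : Cfg.kt X = p9Sub φ'
  card : Nat.card (Cfg.kt X) = 9
  /-- the long element of the weight commutes with the short element -/
  r_b : φ' aC * φ bC = φ bC * φ' aC
  /-- the short one does not -/
  s_b : φ' bC * φ bC ≠ φ bC * φ' bC
  s_b' : φ' bC * φ (jB * bC * jB⁻¹) = φ (jB * bC * jB⁻¹) * φ' bC
  r_b' : φ' aC * φ (jB * bC * jB⁻¹) ≠ φ (jB * bC * jB⁻¹) * φ' aC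
  r_p : φ' aC * jconj φ (φ' aC) ≠ jconj φ (φ' aC) * φ' aC
  r_q : φ' aC * jconj φ (φ' bC) = jconj φ (φ' bC) * φ' aC
  s_p : φ' bC * jconj φ (φ' aC) = jconj φ (φ' aC) * φ' bC
  s_q : φ' bC * jconj φ (φ' bC) = jconj φ (φ' bC) * φ' bC

/-- Every frame can be normalised without changing the long element. -/
def CanNorm (G : Type u) [Group G] [Finite G] : Prop :=
  ∀ {z : G} {φ : Cm →* G}, Cfg z φ →
    ∃ φ₁ : Cm →* G, ∃ X₁ : Cfg z φ₁, φ₁ aC = φ aC ∧ Sib φ φ₁ ∧ ∃ φ' : Cm →* G, Norm X₁ φ'

end CfsgLib.Recog.G2TwoLocal
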