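import Cfsg.Agent.Lib.Recog.G2TwoLocal.Factor

/-!
Two commuting copies of `SL_2(3)` with common centre, and the map from the model when an involution
induces the standard outer automorphism on both.
-/

set_option autoImplicit false
set_option linter.unusedSectionVars false

namespace CfsgLib.Recog.G2TwoLocal

open CfsgLib.Recog.U4Two (tm ti tm_lt decZ decZ_mul decZ_inv decZ_inj decZ_surj decZ_zero decZ_neg)
open scoped MatrixGroups

variable {G : Type*} [Group G]

/-- Two commuting copies of `SL_2(3)` meeting in their common centre. -/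
structure Pair (f g : SL(2, ZMod 3) →* G) : Prop where
  inj₁ : Function.Injective f
  inj₂ : Function.Injective g
  comm : ∀ a b, f a * g b = g b * f a
  meet : ∀ a b : Fin 24, fc f a = fc g b → (a = 0 ∧ b = 0) ∨ (a = 12 ∧ b = 12)
  neg : fc f 12 = fc g 12

namespace Pair

variable {f g : SL(2, ZMod 3) →* G} (P : Pair f g)

/-- The product of the images. -/
def gp (f g : SL(2, ZMod 3) →* G) (x y : ℕ) : G := fc f x * fc g y

include P

theorem symm : Pair g f :=
  ⟨P.inj₂, P.inj₁, fun a b => (P.comm b a).symm,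
    fun a b h => (P.meet b a h.symm).imp And.symm And.symm, P.neg.symm⟩

theorem comm' (a b : ℕ) : fc f a * fc g b = fc g b * fc f a := P.comm _ _

theorem gp_symm (x y : ℕ) : gp g f y x = gp f g x y := (P.comm' x y).symm

theorem gp_mul {x y x' y' : ℕ} (hx : x < 24) (hy : y < 24) (hx' : x' < 24) (hy' : y' < 24) :
    gp f g x y * gp f g x' y' = gp f g (tm x x') (tm y y') := by
  rw [gp, gp, gp, fc_mul f hx hx', fc_mul g hy hy', mul_assoc, ← mul_assoc (fc g y), ← P.comm' x' y]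
  simp only [mul_assoc]

theorem gp_inv {x y : ℕ} (hx : x < 24) (hy : y < 24) : (gp f g x y)⁻¹ = gp f g (ti x) (ti y) := by
  rw [gp, gp, _root_.mul_inv_rev, fc_ti f hx, fc_ti g hy]
  rw [← fc_ti f hx, ← fc_ti g hy, P.comm']

theorem gp_ng {x y : ℕ} (hx : x < 24) (hy : y < 24) : gp f g (ng x) (ng y) = gp f g x y := by
  have e : fc f 12 * fc f 12 = 1 := by
    rw [← fc_mul f (by norm_num) (by norm_num), show tm 12 12 = 0 by decide +kernel, fc_zero]
  rw [gp, gp, fc_ng f hx, fc_ng g hy, ← P.neg, mul_assoc, ← mul_assoc (fc f x)]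
  have e2 : fc f x * fc f 12 = fc f 12 * fc f x := by
    rw [← fc_mul f hx (by norm_num), ← fc_mul f (by norm_num) hx, ← (twelve_central ⟨x, hx⟩).1]
  rw [e2, mul_assoc (fc f 12) (fc f x), ← mul_assoc, e, one_mul]

theorem gp_eq {x y x' y' : ℕ} (hx : x < 24) (hy : y < 24) (hx' : x' < 24) (hy' : y' < 24)
    (h : gp f g x y = gp f g x' y') : (x' = x ∧ y' = y) ∨ (x' = ng x ∧ y' = ng y) := by
  have l1 := (decZ_inv ⟨x, hx⟩).1
  have l2 := (decZ_inv ⟨y', hy'⟩).1
  have h1 : fc f (tm (ti x) x') = fc g (tm y (ti y')) := by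
    rw [fc_mul f l1 hx', fc_mul g hy l2, fc_ti f hx, fc_ti g hy', eq_mul_inv_iff_mul_eq, mul_assoc,
      inv_mul_eq_iff_eq_mul]
    exact h.symm
  have ex : fc f x' = fc f x * fc f (tm (ti x) x') := by
    rw [fc_mul f l1 hx', fc_ti f hx]; group
  have ey : fc g y = fc g (tm y (ti y')) * fc g y' := by
    rw [fc_mul g hy l2, fc_ti g hy']; group
  rcases P.meet ⟨_, tm_lt l1 hx'⟩ ⟨_, tm_lt hy l2⟩ h1 with ⟨ha, hb⟩ | ⟨ha, hb⟩ <;>
    simp only [Fin.ext_iff] at ha hb
  · left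
    rw [ha] at ex; rw [hb] at ey
    change fc f x' = fc f x * fc f 0 at ex
    change fc g y = fc g 0 * fc g y' at ey
    rw [fc_zero, mul_one] at ex; rw [fc_zero, one_mul] at ey
    exact ⟨fc_inj f P.inj₁ hx' hx ex, (fc_inj g P.inj₂ hy hy' ey).symm⟩
  · right
    rw [ha] at ex; rw [hb] at ey
    change fc f x' = fc f x * fc f 12 at ex
    change fc g y = fc g 12 * fc g y' at ey
    rw [← fc_mul f hx (by norm_num), ← (twelve_central ⟨x, hx⟩).1, (twelve_central ⟨x, hx⟩).2] at ex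
    rw [← fc_ng g hy'] at ey
    refine ⟨fc_inj f P.inj₁ hx' (ng_lt x) ex, ?_⟩
    rw [fc_inj g P.inj₂ hy (ng_lt y') ey, ng_ng hy']

theorem conj_gp {x y a b : ℕ} (hx : x < 24) (hy : y < 24) (ha : a < 24) (hb : b < 24) :
    gp f g x y * gp f g a b * (gp f g x y)⁻¹ = gp f g (cj x a) (cj y b) := by
  rw [P.gp_inv hx hy, P.gp_mul hx hy ha hb,
    P.gp_mul (tm_lt hx ha) (tm_lt hy hb) (decZ_inv ⟨x, hx⟩).1 (decZ_inv ⟨y, hy⟩).1]
  rfl

theorem conj_gp_left {x y k : ℕ} (hx : x < 24) (hk : k < 24) :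
    gp f g x y * fc f k * (gp f g x y)⁻¹ = fc f (cj x k) := by
  rw [gp, fc_cj f hx hk, _root_.mul_inv_rev, mul_assoc (fc f x) (fc g y), ← P.comm' k y]
  group

omit P in
/-- A power of the outer involution. -/
def upow (u : G) (s : ℕ) : G := if s = 0 then 1 else u

omit P in
/-- The map from the model. -/
def phiFun (f g : SL(2, ZMod 3) →* G) (u : G) (c : Cm) : G :=
  gp f g c.xOf c.yOf * upow u c.sOf

theorem phiFun_ofSXY (u : G) {s x y : ℕ} (hs : s < 2) (hx : x < 24) (hy : y < 24) :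
    phiFun f g u (Cm.ofSXY s x y) = gp f g x y * upow u s := by
  obtain ⟨h1, h2⟩ := Cm.coords_ofSXY hs hx hy
  rw [phiFun, h1]
  rcases h2 with ⟨e1, e2⟩ | ⟨e1, e2⟩ <;> rw [e1, e2]
  rw [P.gp_ng hx hy]

variable {u : G} (hu : u * u = 1) (h1 : ∀ k : Fin 24, u * fc f k * u⁻¹ = fc f (th k))
  (h2 : ∀ k : Fin 24, u * fc g k * u⁻¹ = fc g (th k))

include hu h1 h2

theorem upow_gp {s x y : ℕ} (hs : s < 2) (hx : x < 24) (hy : y < 24) :
    upow u s * gp f g x y = gp f g (thp s x) (thp s y) * upow u s := by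
  rcases (show s = 0 ∨ s = 1 by omega) with rfl | rfl
  · simp [upow, thp]
  · simp only [upow, thp, one_ne_zero, if_false]
    rw [gp, gp, ← h1 ⟨x, hx⟩, ← h2 ⟨y, hy⟩]
    group

theorem phiFun_mul (c d : Cm) : phiFun f g u (c * d) = phiFun f g u c * phiFun f g u d := by
  have a1 := thp_lt c.sOf d.xOf_lt
  have a2 := thp_lt c.sOf d.yOf_lt'
  rw [Cm.mul_def, P.phiFun_ofSXY u (Nat.mod_lt _ (by omega)) (tm_lt c.xOf_lt a1) (tm_lt c.yOf_lt' a2),
    phiFun, phiFun, ← P.gp_mul c.xOf_lt c.yOf_lt' a1 a2]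
  simp only [mul_assoc]
  congr 1
  rw [← mul_assoc (upow u c.sOf), P.upow_gp hu h1 h2 c.sOf_lt d.xOf_lt d.yOf_lt', mul_assoc]
  congr 1
  have := c.sOf_lt
  have := d.sOf_lt
  rcases (show c.sOf = 0 ∨ c.sOf = 1 by omega) with e | e <;>
    rcases (show d.sOf = 0 ∨ d.sOf = 1 by omega) with e' | e' <;> simp [upow, e, e', hu]

end Pair

end CfsgLib.Recog.G2TwoLocal
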