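import Cfsg.Agent.Lib.Recog.G2TwoLocal.Frame
import Cfsg.Agent.Lib.Solvable.PCore
import Cfsg.Prelude.Def_Transfer
import Mathlib.GroupTheory.OrderOfElement
import Mathlib.Data.Nat.Totient

/-!
A group with the local data of `G_2(3)` has an involution centralizer isomorphic to the model and
one class of involutions.
-/

set_option autoImplicit false
set_option maxRecDepth 100000
set_option linter.unusedSectionVars false
set_option linter.style.haveILetI false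

namespace CfsgLib.Recog.G2TwoLocal

open CfsgLib.Recog.U4Two (tm tm_lt decZ decZ_zero decZ_surj)
open scoped MatrixGroups

theorem class_fact : ∀ n : Fin 576, (⟨n⟩ : Cm) * ⟨n⟩ = 1 →
    (⟨n⟩ : Cm) = 1 ∨ (⟨n⟩ : Cm) = Cm.zc ∨
      ((⟨n⟩ : Cm).sOf = 0 ∧ ∃ k : Fin 576, (⟨k⟩ : Cm) * Cm.ofSXY 0 1 1 = ⟨n⟩ * ⟨k⟩) ∨
      ((⟨n⟩ : Cm).sOf = 1 ∧ ∃ k : Fin 576, (⟨k⟩ : Cm) * Cm.tau = ⟨n⟩ * ⟨k⟩) := by decide +kernel

theorem zc_sOf : Cm.zc.sOf = 0 := by decide +kernel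

theorem zc_central : ∀ n : Fin 576, (⟨n⟩ : Cm) * Cm.zc = Cm.zc * ⟨n⟩ := by decide +kernel

/-- The centralizer of the involution `z` is the model and all involutions are conjugate. -/
structure Cfg {G : Type*} [Group G] (z : G) (φ : Cm →* G) : Prop where
  inj : Function.Injective φ
  range : ∀ g : G, g * z = z * g ↔ ∃ c, φ c = g
  hz : φ Cm.zc = z
  oneClass : ∀ u : G, u * u = 1 → u ≠ 1 → ∃ g, g * z * g⁻¹ = u
  seven : 7 ∣ Nat.card G

/-- Two involutions are conjugate or centralized by a third one. -/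
theorem conj_or_common {G : Type*} [Group G] [Finite G] {u v : G} (hu : u * u = 1) (hv : v * v = 1)
    (_huv : u ≠ v) : (∃ g, g * v * g⁻¹ = u) ∨ ∃ w, w * w = 1 ∧ w ≠ 1 ∧ w * u = u * w ∧ w * v = v * w := by
  obtain ⟨r, hr⟩ : ∃ r, r = u * v := ⟨_, rfl⟩
  have hu' : u⁻¹ = u := inv_eq_of_mul_eq_one_right hu
  have hv' : v⁻¹ = v := inv_eq_of_mul_eq_one_right hv
  have cu : ∀ k : ℕ, u * r ^ k * u⁻¹ = (r ^ k)⁻¹ := fun k => by
    rw [← conj_pow, ← inv_pow, hr, _root_.mul_inv_rev, hv', hu', ← mul_assoc, hu, one_mul]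
  have cv : ∀ k : ℕ, v * r ^ k * v⁻¹ = (r ^ k)⁻¹ := fun k => by
    rw [← conj_pow, ← inv_pow, hr, _root_.mul_inv_rev, hv', hu']
    simp [mul_assoc, hv]
  rcases Nat.even_or_odd' (orderOf r) with ⟨m, hm | hm⟩
  · refine Or.inr ⟨r ^ m, ?_, fun h => ?_, ?_⟩
    · rw [← pow_add, ← two_mul, ← hm, pow_orderOf_eq_one]
    · have := orderOf_dvd_of_pow_eq_one h
      have hp := orderOf_pos r
      have := Nat.le_of_dvd (by omega) this
      omega
    have hinv : (r ^ m)⁻¹ = r ^ m := inv_eq_of_mul_eq_one_right (by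
      rw [← pow_add, ← two_mul, ← hm, pow_orderOf_eq_one])
    constructor
    · have h := cu m
      rw [hinv, mul_inv_eq_iff_eq_mul] at h
      exact h.symm
    · have h := cv m
      rw [hinv, mul_inv_eq_iff_eq_mul] at h
      exact h.symm
  · left
    refine ⟨r ^ (m + 1), ?_⟩
    have h : v * r ^ (m + 1) * v⁻¹ = (r ^ (m + 1))⁻¹ := cv _
    calc r ^ (m + 1) * v * (r ^ (m + 1))⁻¹ = r ^ (m + 1) * v * (v * r ^ (m + 1) * v⁻¹) := by rw [h]
      _ = r ^ (m + 1) * r ^ (m + 1) * v := by rw [hv']; simp only [← mul_assoc]; simp [mul_assoc, hv]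
      _ = u := by
        rw [← pow_add, show m + 1 + (m + 1) = (2 * m + 1) + 1 by omega, pow_succ, ← hm,
          pow_orderOf_eq_one, one_mul, hr, mul_assoc, hv, mul_one]

/-- The model from two copies of `SL_2(3)` in standard position. -/
theorem exists_cfg_of_pre {G : Type*} [Group G] [Finite G] {f g : SL(2, ZMod 3) →* G} {z : G}
    {M E : Subgroup G} (X : Pre f g z M E) : ∃ φ : Cm →* G, Cfg z φ := by
  obtain ⟨t, w, ht, htz, htK, ⟨wx, wy, hw, hw2, hw1, hwz⟩, ⟨cw, hcw⟩, e, ce, he, he2, he1, hez, hce⟩ :=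
    X.exists_outer_involution
  obtain ⟨d, x, y, x', y', hdz, hdK, hx, hy, hx', hy', ax, ay, hd1, hd2, -⟩ := X.exists_d
  have htKs : ¬Pre.InK g f t := fun ⟨a, b, h⟩ => htK ⟨b, a, (X.pair.gp_symm _ _).symm.trans h⟩
  have hdKs : ¬Pre.InK g f d := fun ⟨a, b, h⟩ => hdK ⟨b, a, (X.pair.gp_symm _ _).symm.trans h⟩
  obtain ⟨f', hf, hfr, hf'⟩ := exists_frame f X.pair.inj₁ ht (X.norm₁ t htz)
    (X.not_inner hdz hdK ht htz htK hx hx' ax hd1 hd2)
  obtain ⟨g', hg, hgr, hg'⟩ := exists_frame g X.pair.inj₂ ht (X.norm₂ t htz)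
    (X.symm.not_inner (y := x) (y' := x') hdz hdKs ht htz htKs hy hy' ay
      (by rw [X.pair.gp_symm]; exact hd1)
      (by rw [X.pair.gp_symm, X.pair.gp_symm]; exact hd2))
  have rf : ∀ a, ∃ b, f b = f' a := fun a => MonoidHom.mem_range.1 (hfr ▸ ⟨a, rfl⟩ : f' a ∈ f.range)
  have rg : ∀ a, ∃ b, g b = g' a := fun a => MonoidHom.mem_range.1 (hgr ▸ ⟨a, rfl⟩ : g' a ∈ g.range)
  have neg : fc f' 12 = z ∧ fc g' 12 = z := by
    have key : ∀ {f f' : SL(2, ZMod 3) →* G}, Function.Injective f → Function.Injective f' →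
        f'.range = f.range → fc f' 12 = fc f 12 := by
      intro f f' hi hi' hr
      obtain ⟨b, hb⟩ := MonoidHom.mem_range.1 (hr ▸ ⟨_, rfl⟩ : fc f' 12 ∈ f.range)
      obtain ⟨k, hk⟩ := fc_surj f b
      rw [hb] at hk
      rcases center_fact k (fun j => fc_inj f hi (tm_lt k.2 j.2) (tm_lt j.2 k.2) (by
        rw [fc_mul f k.2 j.2, fc_mul f j.2 k.2, ← hk]
        obtain ⟨b', hb'⟩ := MonoidHom.mem_range.1 (hr.symm ▸ ⟨_, rfl⟩ : fc f j ∈ f'.range)
        obtain ⟨k', hk'⟩ := fc_surj f' b'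
        rw [hb'] at hk'
        rw [hk', ← fc_mul f' (by norm_num) k'.2, ← fc_mul f' k'.2 (by norm_num), (twelve_central k').1]))
        with h | h
      · rw [h] at hk
        exact absurd (fc_inj f' hi' (by norm_num) (by norm_num) (hk.trans (fc_zero f) |>.trans (fc_zero f').symm))
          (by norm_num)
      · rw [h] at hk; exact hk
    exact ⟨(key X.pair.inj₁ hf hfr).trans X.hz, (key X.pair.inj₂ hg hgr).trans X.hz₂⟩
  have P : Pair f' g' := by
    refine ⟨hf, hg, fun a b => ?_, fun a b h => ?_, neg.1.trans neg.2.symm⟩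
    · obtain ⟨a', ha⟩ := rf a; obtain ⟨b', hb⟩ := rg b
      rw [← ha, ← hb]; exact X.pair.comm _ _
    · obtain ⟨a', ha⟩ := rf (decZ a); obtain ⟨b', hb⟩ := rg (decZ b)
      obtain ⟨i, hi⟩ := fc_surj f a'; obtain ⟨j, hj⟩ := fc_surj g b'
      have h' : fc f i = fc g j := by rw [← hi, ← hj, ha, hb]; exact h
      rcases X.pair.meet i j h' with ⟨rfl, rfl⟩ | ⟨rfl, rfl⟩
      · refine Or.inl ⟨Fin.ext (fc_inj f' hf a.2 (by norm_num) ?_), Fin.ext (fc_inj g' hg b.2 (by norm_num) ?_)⟩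
        · rw [fc, ← ha, hi]; exact (fc_zero f).trans (fc_zero f').symm
        · rw [fc, ← hb, hj]; exact (fc_zero g).trans (fc_zero g').symm
      · refine Or.inr ⟨Fin.ext (fc_inj f' hf a.2 (by norm_num) ?_), Fin.ext (fc_inj g' hg b.2 (by norm_num) ?_)⟩
        · rw [fc, ← ha, hi]; exact X.hz.trans neg.1.symm
        · rw [fc, ← hb, hj]; exact X.hz₂.trans neg.2.symm
  have kk : ∀ u, Pre.InK f g u ↔ Pre.InK f' g' u := fun u => by
    constructor
    · rintro ⟨a, b, rfl⟩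
      obtain ⟨a', ha⟩ := MonoidHom.mem_range.1 (hfr.symm ▸ ⟨_, rfl⟩ : fc f a ∈ f'.range)
      obtain ⟨b', hb⟩ := MonoidHom.mem_range.1 (hgr.symm ▸ ⟨_, rfl⟩ : fc g b ∈ g'.range)
      obtain ⟨i, hi⟩ := fc_surj f' a'; obtain ⟨j, hj⟩ := fc_surj g' b'
      exact ⟨i, j, by rw [Pair.gp, Pair.gp, ← hi, ← hj, ha, hb]⟩
    · rintro ⟨a, b, rfl⟩
      obtain ⟨a', ha⟩ := rf (decZ a); obtain ⟨b', hb⟩ := rg (decZ b)
      obtain ⟨i, hi⟩ := fc_surj f a'; obtain ⟨j, hj⟩ := fc_surj g b'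
      exact ⟨i, j, by rw [Pair.gp, Pair.gp, ← hi, ← hj, ha, hb]; rfl⟩
  have hK1 : ∀ c : Cm, c.sOf = 0 → Pair.phiFun f' g' t c = Pair.gp f' g' c.xOf c.yOf := fun c hc => by
    simp [Pair.phiFun, Pair.upow, hc]
  have hK2 : ∀ c : Cm, c.sOf = 1 → Pair.phiFun f' g' t c = Pair.gp f' g' c.xOf c.yOf * t := fun c hc => by
    simp [Pair.phiFun, Pair.upow, hc]
  obtain ⟨φ, hφ⟩ : ∃ φ : Cm →* G, ∀ c, φ c = Pair.phiFun f' g' t c :=
    ⟨MonoidHom.mk' _ (P.phiFun_mul ht hf' hg'), fun _ => rfl⟩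
  have inK_s : ∀ c : Cm, Pre.InK f g (φ c) ↔ c.sOf = 0 := fun c => by
    refine ⟨fun h => ?_, fun h => ?_⟩
    · by_contra hc
      have hc1 : c.sOf = 1 := by have := c.sOf_lt; omega
      rw [hφ, hK2 c hc1] at h
      have h2 := X.inK_mul (X.inK_inv ((kk _).2 ⟨⟨_, c.xOf_lt⟩, ⟨_, c.yOf_lt'⟩, rfl⟩)) h
      rw [inv_mul_cancel_left] at h2
      exact htK h2
    · rw [hφ, hK1 c h]
      exact (kk _).2 ⟨⟨_, c.xOf_lt⟩, ⟨_, c.yOf_lt'⟩, rfl⟩
  have inj : Function.Injective φ := by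
    rw [injective_iff_map_eq_one]
    intro c hc
    have h0 : c.sOf = 0 := (inK_s c).1 (hc ▸ ⟨0, 0, X.gp_zero⟩)
    rw [hφ, hK1 c h0] at hc
    have e0 : Pair.gp f' g' c.xOf c.yOf = Pair.gp f' g' 0 0 := by
      rw [hc, Pair.gp, fc_zero, fc_zero, one_mul]
    rw [← Cm.ofSXY_coords c, h0]
    rcases P.gp_eq c.xOf_lt c.yOf_lt' (by norm_num) (by norm_num) e0 with ⟨a, b⟩ | ⟨-, b⟩
    · rw [← a, ← b]; rfl
    · exfalso
      have := c.yOf_lt
      unfold ng at b; omega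
  have hzc : φ Cm.zc = z := by
    rw [hφ, Cm.zc, P.phiFun_ofSXY t (by norm_num) (by norm_num) (by norm_num), Pair.gp, fc_zero, neg.1]
    simp [Pair.upow]
  have range : ∀ u : G, u * z = z * u ↔ ∃ c, φ c = u := fun u => by
    constructor
    · intro hu
      by_cases hK : Pre.InK f g u
      · obtain ⟨a, b, rfl⟩ := (kk u).1 hK
        exact ⟨Cm.ofSXY 0 a b, by
          rw [hφ, P.phiFun_ofSXY t (by norm_num) a.2 b.2]; simp [Pair.upow]⟩
      · obtain ⟨a, b, hab⟩ := (kk _).1 (X.index u t hu htz hK htK)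
        refine ⟨Cm.ofSXY 1 a b, ?_⟩
        rw [hφ, P.phiFun_ofSXY t (by norm_num) a.2 b.2, hab]
        simp [Pair.upow, mul_assoc, ht]
    · rintro ⟨c, rfl⟩
      rw [← hzc, ← map_mul, ← map_mul, show c = ⟨c.code⟩ from rfl, zc_central]
  refine ⟨φ, inj, range, hzc, ?_, ?_⟩
  · -- every involution centralizing `z` is a conjugate of it
    obtain ⟨w', rfl⟩ := (range w).1 (X.inK_comm_z ⟨wx, wy, hw⟩)
    obtain ⟨e', rfl⟩ := (range e).1 (X.inK_comm_z he)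
    obtain ⟨t', rfl⟩ := (range t).1 htz
    have sq : ∀ {c : Cm}, φ c * φ c = 1 → c * c = 1 := fun h => inj (by rw [map_mul, map_one]; exact h)
    have mid : ∀ {c : Cm}, Pre.InK f g (φ c) → φ c * φ c = 1 → φ c ≠ 1 → φ c ≠ z →
        ∃ k, k * Cm.ofSXY 0 1 1 = c * k := by
      intro c hc h2 h1 hne
      rcases class_fact c.code (sq h2) with h | h | ⟨-, k, hk⟩ | ⟨h, -⟩
      · exact absurd (congrArg φ h |>.trans (map_one φ)) h1
      · exact absurd (congrArg φ h |>.trans hzc) hne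
      · exact ⟨_, hk⟩
      · exact absurd h (by rw [show (⟨c.code⟩ : Cm) = c from rfl, (inK_s c).1 hc]; norm_num)
    obtain ⟨ke, hke⟩ := mid he he2 he1 hez
    obtain ⟨kw, hkw⟩ := mid ⟨wx, wy, hw⟩ hw2 hw1 hwz
    have conjc : ∀ {k a b : Cm}, k * a = b * k → φ b = φ k * φ a * (φ k)⁻¹ := fun h => by
      rw [← map_mul, h, map_mul, mul_inv_cancel_right]
    have c0z : ∃ g, g * z * g⁻¹ = φ (Cm.ofSXY 0 1 1) := ⟨(φ ke)⁻¹ * ce, by
      calc (φ ke)⁻¹ * ce * z * ((φ ke)⁻¹ * ce)⁻¹ = (φ ke)⁻¹ * (ce * z * ce⁻¹) * φ ke := by group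
        _ = _ := by rw [hce, conjc hke]; group⟩
    have t0 : ∃ k, k * Cm.tau = t' * k := by
      rcases class_fact t'.code (sq ht) with h | h | ⟨h, -⟩ | ⟨-, k, hk⟩
      · exact absurd ((inK_s t').2 (by rw [show t' = 1 from h]; rfl)) htK
      · exact absurd ((inK_s t').2 (by rw [show t' = Cm.zc from h, zc_sOf])) htK
      · exact absurd ((inK_s t').2 h) htK
      · exact ⟨_, hk⟩
    obtain ⟨kt, hkt⟩ := t0
    have tauz : ∃ g, g * z * g⁻¹ = φ Cm.tau := by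
      obtain ⟨g0, hg0⟩ := c0z
      refine ⟨(φ kt)⁻¹ * cw * φ kw * g0, ?_⟩
      calc (φ kt)⁻¹ * cw * φ kw * g0 * z * ((φ kt)⁻¹ * cw * φ kw * g0)⁻¹
          = (φ kt)⁻¹ * (cw * (φ kw * (g0 * z * g0⁻¹) * (φ kw)⁻¹) * cw⁻¹) * φ kt := by group
        _ = φ Cm.tau := by rw [hg0, ← conjc hkw, hcw, conjc hkt]; group
    have inH : ∀ c : Cm, c * c = 1 → c ≠ 1 → ∃ g, g * z * g⁻¹ = φ c := by
      intro c h2 h1
      rcases class_fact c.code h2 with h | h | ⟨-, k, hk⟩ | ⟨-, k, hk⟩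
      · exact absurd h h1
      · exact ⟨1, by rw [show c = Cm.zc from h, hzc]; group⟩
      · obtain ⟨g0, hg0⟩ := c0z
        exact ⟨φ ⟨k⟩ * g0, by rw [show φ c = _ from conjc hk, ← hg0]; group⟩
      · obtain ⟨g0, hg0⟩ := tauz
        exact ⟨φ ⟨k⟩ * g0, by rw [show φ c = _ from conjc hk, ← hg0]; group⟩
    intro u hu hu1
    by_cases huz : u = z
    · exact ⟨1, by rw [huz]; group⟩
    rcases conj_or_common hu X.z_sq huz with h | ⟨v, hv, hv1, hvu, hvz⟩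
    · exact h
    obtain ⟨c, rfl⟩ := (range v).1 hvz
    obtain ⟨gv, hgv⟩ := inH c (sq hv) (fun h => hv1 (by rw [h, map_one]))
    obtain ⟨c', hc'⟩ := (range (gv⁻¹ * u * gv)).1 (by
      rw [← hgv] at hvu
      calc gv⁻¹ * u * gv * z = gv⁻¹ * (u * (gv * z * gv⁻¹)) * gv := by group
        _ = gv⁻¹ * ((gv * z * gv⁻¹) * u) * gv := by rw [hvu]
        _ = z * (gv⁻¹ * u * gv) := by group)
    obtain ⟨g', hg''⟩ := inH c' (inj (by
        rw [map_mul, hc', map_one]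
        calc gv⁻¹ * u * gv * (gv⁻¹ * u * gv) = gv⁻¹ * (u * u) * gv := by group
          _ = 1 := by rw [hu]; group))
      (fun h => hu1 (by
        rw [h, map_one] at hc'
        calc u = gv * (gv⁻¹ * u * gv) * gv⁻¹ := by group
          _ = 1 := by rw [← hc']; group))
    exact ⟨gv * g', by
      calc gv * g' * z * (gv * g')⁻¹ = gv * (g' * z * g'⁻¹) * gv⁻¹ := by group
        _ = u := by rw [hg'', hc']; group⟩
  · exact (show 7 ∣ 1344 by norm_num).trans (X.cardM ▸ Subgroup.card_subgroup_dvd_card M)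

/-- The hypotheses of the statement give the model. -/
theorem exists_cfg {G : Type*} [Group G] [Finite G] {H H₁ H₂ M : Subgroup G} (h1 : H₁ ≤ H) (h2 : H₂ ≤ H)
    (hn1 : (H₁.subgroupOf H).Normal) (hn2 : (H₂.subgroupOf H).Normal) (hiso1 : Nonempty (↥H₁ ≃* SL(2, ZMod 3)))
    (hiso2 : Nonempty (↥H₂ ≃* SL(2, ZMod 3))) (hidx : (H₁ ⊔ H₂).relIndex H = 2)
    (hint1 : H₁ ⊓ H₂ = H₁ ⊓ Subgroup.centralizer (H₁ : Set G))
    (hint2 : H₁ ⊓ H₂ = H₂ ⊓ Subgroup.centralizer (H₂ : Set G))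
    (hHC : H = Subgroup.centralizer ((H₁ ⊓ H₂ : Subgroup G) : Set G)) [(Cfsg.pCore 2 ↥M).Normal]
    (hM : Nonempty ((↥M ⧸ Cfsg.pCore 2 ↥M) ≃* Matrix.SpecialLinearGroup (Fin 3) (ZMod 2)))
    (hOel : Cfsg.IsElementaryAbelian 2 (Cfsg.pCore 2 ↥M)) (hOcard : Nat.card ↥(Cfsg.pCore 2 ↥M) = 8)
    (hZin : H₁ ⊓ H₂ ≤ (Cfsg.pCore 2 ↥M).map M.subtype) : ∃ (z : G) (φ : Cm →* G), Cfg z φ := by
  obtain ⟨e₁⟩ := hiso1; obtain ⟨e₂⟩ := hiso2
  obtain ⟨f, hf⟩ : ∃ f : SL(2, ZMod 3) →* G, f = H₁.subtype.comp e₁.symm.toMonoidHom := ⟨_, rfl⟩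
  obtain ⟨g, hg⟩ : ∃ g : SL(2, ZMod 3) →* G, g = H₂.subtype.comp e₂.symm.toMonoidHom := ⟨_, rfl⟩
  have fi : Function.Injective f := hf ▸ H₁.subtype_injective.comp e₁.symm.injective
  have gi : Function.Injective g := hg ▸ H₂.subtype_injective.comp e₂.symm.injective
  have fm : ∀ x, f x ∈ H₁ := fun x => by rw [hf]; exact (e₁.symm x).2
  have gm : ∀ x, g x ∈ H₂ := fun x => by rw [hg]; exact (e₂.symm x).2
  have fs : ∀ u ∈ H₁, ∃ x, f x = u := fun u hu => ⟨e₁ ⟨u, hu⟩, by simp [hf]⟩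
  have gs : ∀ u ∈ H₂, ∃ x, g x = u := fun u hu => ⟨e₂ ⟨u, hu⟩, by simp [hg]⟩
  obtain ⟨z, hz⟩ : ∃ z, z = fc f 12 := ⟨_, rfl⟩
  have zin : ∀ {f : SL(2, ZMod 3) →* G} {A : Subgroup G}, (∀ x, f x ∈ A) → (∀ u ∈ A, ∃ x, f x = u) →
      fc f 12 ∈ A ⊓ Subgroup.centralizer (A : Set G) := fun {f A} hm hs =>
    ⟨hm _, Subgroup.mem_centralizer_iff.2 fun u hu => by
      obtain ⟨x, rfl⟩ := hs u hu
      obtain ⟨i, hi⟩ := fc_surj f x
      rw [hi, ← fc_mul f i.2 (by norm_num), ← fc_mul f (by norm_num) i.2, (twelve_central i).1]⟩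
  have zmem : z ∈ H₁ ⊓ H₂ := by rw [hint1, hz]; exact zin fm fs
  have zall : ∀ u ∈ H₁ ⊓ H₂, u = 1 ∨ u = z := by
    intro u hu
    rw [hint1] at hu
    obtain ⟨x, rfl⟩ := fs u hu.1
    obtain ⟨i, hi⟩ := fc_surj f x
    rcases center_fact i (fun j => fc_inj f fi (tm_lt i.2 j.2) (tm_lt j.2 i.2) (by
      rw [fc_mul f i.2 j.2, fc_mul f j.2 i.2, ← hi]
      exact (Subgroup.mem_centralizer_iff.1 hu.2 _ (fm _)).symm)) with rfl | rfl
    · exact Or.inl (hi.trans (fc_zero f))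
    · exact Or.inr (hi.trans hz.symm)
  have hzg : fc g 12 = z := by
    rcases zall (fc g 12) (by rw [hint2]; exact zin gm gs) with h | h
    · exact absurd (fc_inj g gi (by norm_num) (by norm_num) (h.trans (fc_zero g).symm)) (by norm_num)
    · exact h
  have memH : ∀ u, u ∈ H ↔ u * z = z * u := fun u => by
    rw [hHC, Subgroup.mem_centralizer_iff]
    refine ⟨fun h => (h z zmem).symm, fun h v hv => ?_⟩
    rcases zall v hv with rfl | rfl
    · simp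
    · exact h.symm
  have cnj : ∀ {A : Subgroup G}, A ≤ H → (A.subgroupOf H).Normal → ∀ u ∈ H, ∀ v ∈ A, u * v * u⁻¹ ∈ A :=
    fun {A} hA hn u hu v hv => Subgroup.mem_subgroupOf.1
      (hn.conj_mem ⟨v, hA hv⟩ (Subgroup.mem_subgroupOf.2 hv) ⟨u, hu⟩)
  have comm : ∀ a b, f a * g b = g b * f a := by
    intro a b
    have key : ∀ c, f c * g b * (f c)⁻¹ * (g b)⁻¹ = 1 ∨ f c * g b * (f c)⁻¹ * (g b)⁻¹ = z := fun c => by
      refine zall _ ⟨?_, ?_⟩
      · rw [show f c * g b * (f c)⁻¹ * (g b)⁻¹ = f c * (g b * (f c)⁻¹ * (g b)⁻¹) by group]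
        exact Subgroup.mul_mem _ (fm c) (cnj h1 hn1 _ (h2 (gm b)) _ (Subgroup.inv_mem _ (fm c)))
      · exact Subgroup.mul_mem _ (cnj h2 hn2 _ (h1 (fm c)) _ (gm b)) (Subgroup.inv_mem _ (gm b))
    have cz : ∀ u ∈ H, u * z = z * u := fun u hu => (memH u).1 hu
    have zz : z * z = 1 := by
      rw [hz, ← fc_mul f (by norm_num) (by norm_num), show tm 12 12 = 0 by decide +kernel, fc_zero]
    have sq : ∀ c, f c * f c * g b = g b * (f c * f c) := fun c => by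
      rcases key c with h | h
      · have e : f c * g b = g b * f c := mul_inv_eq_iff_eq_mul.1 (mul_inv_eq_one.1 h)
        rw [mul_assoc, e, ← mul_assoc, e, mul_assoc]
      · have e : f c * g b = z * g b * f c := by rw [← h]; group
        calc f c * f c * g b = f c * (z * g b * f c) := by rw [mul_assoc, e]
          _ = (f c * z) * g b * f c := by group
          _ = z * (z * g b * f c) * f c := by rw [cz _ (h1 (fm c)), mul_assoc z, e]
          _ = g b * (f c * f c) := by simp only [← mul_assoc, zz, one_mul]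
    obtain ⟨i, rfl⟩ := decZ_surj a
    obtain ⟨j, k, hjk⟩ := sq_gen i
    have : f (decZ i) = f (decZ j) * f (decZ j) * (f (decZ k) * f (decZ k)) := by
      have := fc_mul f (tm_lt j.2 j.2) (tm_lt k.2 k.2)
      rw [fc_mul f j.2 j.2, fc_mul f k.2 k.2, hjk] at this
      exact this
    rw [this, mul_assoc, sq, ← mul_assoc, sq, mul_assoc]
  have meet : ∀ a b : Fin 24, fc f a = fc g b → (a = 0 ∧ b = 0) ∨ (a = 12 ∧ b = 12) := fun a b h => by
    rcases zall (fc f a) ⟨fm _, h ▸ gm _⟩ with e | e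
    · exact Or.inl ⟨Fin.ext (fc_inj f fi a.2 (by norm_num) (e.trans (fc_zero f).symm)),
        Fin.ext (fc_inj g gi b.2 (by norm_num) ((h.symm.trans e).trans (fc_zero g).symm))⟩
    · exact Or.inr ⟨Fin.ext (fc_inj f fi a.2 (by norm_num) (e.trans hz)),
        Fin.ext (fc_inj g gi b.2 (by norm_num) ((h.symm.trans e).trans hzg.symm))⟩
  have P : Pair f g := ⟨fi, gi, comm, meet, hz.symm.trans hzg.symm⟩
  have inK : ∀ u, (∃ x y : Fin 24, Pair.gp f g x y = u) ↔ u ∈ H₁ ⊔ H₂ := fun u => by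
    constructor
    · rintro ⟨x, y, rfl⟩
      exact Subgroup.mul_mem_sup (fm _) (gm _)
    · intro hu
      have hle : H₁ ⊔ H₂ ≤ (f.noncommCoprod g comm).range := by
        refine sup_le (fun v hv => ?_) (fun v hv => ?_)
        · obtain ⟨x, rfl⟩ := fs v hv
          exact ⟨(x, 1), by show f x * g 1 = f x; rw [map_one, mul_one]⟩
        · obtain ⟨x, rfl⟩ := gs v hv
          exact ⟨(1, x), by show f 1 * g x = g x; rw [map_one, one_mul]⟩
      obtain ⟨⟨a, b⟩, hab⟩ := hle hu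
      obtain ⟨i, hi⟩ := fc_surj f a; obtain ⟨j, hj⟩ := fc_surj g b
      refine ⟨i, j, ?_⟩
      rw [Pair.gp, ← hi, ← hj, ← hab]
      rfl
  have hi2 : ((H₁ ⊔ H₂).subgroupOf H).index = 2 := hidx
  obtain ⟨E, hE⟩ : ∃ E, E = (Cfsg.pCore 2 ↥M).map M.subtype := ⟨_, rfl⟩
  have hEc := hOel.1
  have cardM : Nat.card M = 1344 := by
    rw [Subgroup.card_eq_card_quotient_mul_card_subgroup (Cfsg.pCore 2 ↥M), hOcard,
      Nat.card_congr hM.some.toEquiv]
    have : Nat.card (Matrix.SpecialLinearGroup (Fin 3) (ZMod 2)) = 168 := by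
      refine (Nat.card_eq_fintype_card (α := {M : Matrix (Fin 3) (Fin 3) (ZMod 2) // M.det = 1})).trans ?_
      rw [Fintype.card_subtype]
      decide +kernel
    rw [this]
  have X : Pre f g z M E := {
    pair := P
    hz := hz.symm
    norm₁ := fun u hu x => fs _ (cnj h1 hn1 u ((memH u).2 hu) _ (fm x))
    norm₂ := fun u hu x => gs _ (cnj h2 hn2 u ((memH u).2 hu) _ (gm x))
    outer := by
      by_contra hc
      push Not at hc
      have : (H₁ ⊔ H₂).subgroupOf H = ⊤ := Subgroup.subgroupOf_eq_top.2 fun u hu =>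
        (inK u).1 (hc u ((memH u).1 hu))
      rw [this, Subgroup.index_top] at hi2
      norm_num at hi2
    index := fun u v hu hv nu nv => by
      refine (inK _).2 (Subgroup.mem_subgroupOf.1
        ((Subgroup.mul_mem_iff_of_index_two hi2 (a := ⟨u, (memH u).2 hu⟩) (b := ⟨v, (memH v).2 hv⟩)).2 ?_))
      exact iff_of_false (fun h => nu ((inK u).2 (Subgroup.mem_subgroupOf.1 h)))
        (fun h => nv ((inK v).2 (Subgroup.mem_subgroupOf.1 h)))
    cardM := cardM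
    cardE := by rw [hE, Subgroup.card_map_of_injective M.subtype_injective, hOcard]
    elem := by
      rw [hE]; rintro _ ⟨a, ha, rfl⟩
      rw [← map_mul, ← pow_two, hOel.2 a ha, map_one]
    abelian := by
      rw [hE]; rintro _ ⟨a, ha, rfl⟩ _ ⟨b, hb, rfl⟩
      rw [← map_mul, ← map_mul]
      exact congrArg _ (congrArg Subtype.val (hEc.is_comm.comm ⟨a, ha⟩ ⟨b, hb⟩))
    leM := hE ▸ Subgroup.map_subtype_le _
    normE := by
      rw [hE]; rintro m hm _ ⟨a, ha, rfl⟩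
      exact ⟨_, (inferInstance : (Cfsg.pCore 2 ↥M).Normal).conj_mem a ha ⟨m, hm⟩, rfl⟩
    core := fun Y hY hp y hy => hE ▸ ⟨y, CfsgLib.Solvable.le_pCore hY hp hy, rfl⟩
    zE := hE ▸ hZin zmem }
  exact ⟨z, exists_cfg_of_pre X⟩

end CfsgLib.Recog.G2TwoLocal
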