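import Cfsg.Agent.Lib.Recog.G2TwoLocal.Beta
import Cfsg.Agent.Lib.AmalgamG2Three.Frame.Side
import Mathlib.GroupTheory.Commutator.Basic

/-!
The normaliser of the subgroup generated by a long element, with its odd core, is one side of the amalgam
of `G_2(3)`.
-/

set_option autoImplicit false
set_option maxRecDepth 100000
set_option linter.unusedSectionVars false
set_option linter.style.haveILetI false

namespace CfsgLib.Recog.G2TwoLocal

open Cm Subgroup CfsgLib.AmalgamG2Three.Frame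
open scoped commutatorElement

universe u

/-- Elements used to generate the central involution from conjugates. -/
def killList : List Cm := [1, bC, jB, jB * bC, bC * jB, bC⁻¹, jB * bC * jB⁻¹, tau, jB * tau, bC * tau]

theorem kill_fact : ∀ n : Fin 576, (⟨n⟩ : Cm) * aC * (⟨n⟩ : Cm)⁻¹ ∈ [aC, aC⁻¹] →
    (⟨n⟩ : Cm) ∈ [1, aC, aC⁻¹] ∨ ∃ d ∈ killList, ∃ e ∈ [(⟨n⟩ : Cm), (⟨n⟩ : Cm)⁻¹],
      ∃ m ∈ List.range 4, ∃ l ∈ [1, aC, aC⁻¹], ((⟨n⟩ : Cm) * (d * e * d⁻¹)) ^ m * l = zc ∨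
        (⟨n⟩ : Cm) * l = zc := by decide +kernel

theorem kill_mem : ∀ d ∈ killList, d * aC * d⁻¹ ∈ [aC, aC⁻¹] := by decide +kernel

theorem nl_card : (Finset.univ.filter fun c : Cm => c * aC * c⁻¹ ∈ [aC, aC⁻¹]).card = 144 := by
  decide +kernel

variable {G : Type u} [Group G] [Finite G]

/-- The normaliser of the subgroup generated by an element. -/
def nA (x : G) : Subgroup G := Subgroup.normalizer (Subgroup.zpowers x : Set G)

/-- The centre of the odd core. -/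
def zW (x : G) : Subgroup G := oddW x ⊓ Subgroup.centralizer (oddW x : Set G)

theorem mem_nA {x g : G} (hx : x * x * x = 1) (hx1 : x ≠ 1) :
    g ∈ nA x ↔ g * x * g⁻¹ = x ∨ g * x * g⁻¹ = x⁻¹ := by
  constructor
  · intro h
    rcases zpowers_of_cube hx
      ((Subgroup.mem_normalizer_iff.1 h x).1 (Subgroup.mem_zpowers x)) with e | e | e
    · exact absurd (conj_eq_one_iff.1 e) hx1
    · exact Or.inl e
    · exact Or.inr e
  · intro h
    refine mem_normalizer_fintype fun d hd => ?_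
    obtain ⟨i, rfl⟩ := Subgroup.mem_zpowers_iff.1 hd
    rw [← conj_zpow]
    rcases h with e | e <;> rw [e]
    · exact zpow_mem (Subgroup.mem_zpowers _) i
    · exact zpow_mem (inv_mem (Subgroup.mem_zpowers _)) i

/-- The elements of `A` acting trivially on a section. -/
def actKer (A : Subgroup G) {Y X : Subgroup G} (hY : ∀ g ∈ A, ∀ y ∈ Y, g * y * g⁻¹ ∈ Y)
    (hX : ∀ g ∈ A, ∀ x ∈ X, g * x * g⁻¹ ∈ X) : Subgroup G where
  carrier := {g | g ∈ A ∧ ∀ y ∈ Y, g * y * g⁻¹ * y⁻¹ ∈ X}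
  one_mem' := ⟨one_mem _, fun y _ => by
    rw [one_mul, inv_one, mul_one, mul_inv_cancel]; exact one_mem _⟩
  mul_mem' := fun {g h} hg hh => ⟨mul_mem hg.1 hh.1, fun y hy => by
    rw [show g * h * y * (g * h)⁻¹ * y⁻¹ = g * (h * y * h⁻¹ * y⁻¹) * g⁻¹ * (g * y * g⁻¹ * y⁻¹) by group]
    exact mul_mem (hX g hg.1 _ (hh.2 y hy)) (hg.2 y hy)⟩
  inv_mem' := fun {g} hg => ⟨inv_mem hg.1, fun y hy => by
    have h := hX g⁻¹ (inv_mem hg.1) _ (inv_mem (hg.2 y hy))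
    rw [show g⁻¹ * (g * y * g⁻¹ * y⁻¹)⁻¹ * g⁻¹⁻¹ = g⁻¹ * y * g⁻¹⁻¹ * y⁻¹ by group] at h
    exact h⟩

theorem mem_actKer {A Y X : Subgroup G} {hY : ∀ g ∈ A, ∀ y ∈ Y, g * y * g⁻¹ ∈ Y}
    {hX : ∀ g ∈ A, ∀ x ∈ X, g * x * g⁻¹ ∈ X} {g : G} :
    g ∈ actKer A hY hX ↔ g ∈ A ∧ ∀ y ∈ Y, g * y * g⁻¹ * y⁻¹ ∈ X := Iff.rfl

theorem actKer_normal {A Y X : Subgroup G} {hY : ∀ g ∈ A, ∀ y ∈ Y, g * y * g⁻¹ ∈ Y}
    {hX : ∀ g ∈ A, ∀ x ∈ X, g * x * g⁻¹ ∈ X} :
    ∀ g ∈ A, ∀ k ∈ actKer A hY hX, g * k * g⁻¹ ∈ actKer A hY hX := by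
  intro g hg k hk
  refine ⟨mul_mem (mul_mem hg hk.1) (inv_mem hg), fun y hy => ?_⟩
  have h := hX g hg _ (hk.2 _ (hY g⁻¹ (inv_mem hg) y hy))
  rw [show g * (k * (g⁻¹ * y * g⁻¹⁻¹) * k⁻¹ * (g⁻¹ * y * g⁻¹⁻¹)⁻¹) * g⁻¹ =
    g * k * g⁻¹ * y * (g * k * g⁻¹)⁻¹ * y⁻¹ by group] at h
  exact h

namespace Cfg

variable {z : G} {φ : Cm →* G} (X : Cfg z φ)

include X

theorem a_ne : φ aC ≠ 1 := fun h => by
  rw [← map_one φ] at h
  exact absurd (X.inj h) (by decide +kernel)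

theorem mem_A {g : G} : g ∈ nA (φ aC) ↔ g * φ aC * g⁻¹ = φ aC ∨ g * φ aC * g⁻¹ = (φ aC)⁻¹ :=
  mem_nA (cube_aC aC (by decide +kernel)) X.a_ne

theorem mem_A_of_comm {g : G} (h : g * φ aC = φ aC * g) : g ∈ nA (φ aC) :=
  X.mem_A.2 (Or.inl (mul_inv_eq_iff_eq_mul.2 h))

theorem phi_mem_A {c : Cm} : φ c ∈ nA (φ aC) ↔ c * aC * c⁻¹ ∈ [aC, aC⁻¹] := by
  rw [X.mem_A, ← map_inv φ c, ← map_inv φ aC, ← map_mul, ← map_mul, X.inj.eq_iff, X.inj.eq_iff]
  simp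

theorem z_mem_A : z ∈ nA (φ aC) := X.mem_A_of_comm X.z_comm_rep

theorem t_mem_A : φ tau ∈ nA (φ aC) := X.mem_A.2 (Or.inr (X.tau_rep (by decide +kernel)))

theorem jB_mem_A : φ jB ∈ nA (φ aC) := X.mem_A.2 (Or.inl X.jB_maps.1)

theorem b_mem_A : φ bC ∈ nA (φ aC) := X.mem_A_of_comm X.b_comm_a

theorem W_le_A : oddW (φ aC) ≤ nA (φ aC) := fun g hg => X.mem_A_of_comm (oddW_le _ g hg)

theorem A_norm_W {g : G} (hg : g ∈ nA (φ aC)) {y : G} (hy : y ∈ oddW (φ aC)) :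
    g * y * g⁻¹ ∈ oddW (φ aC) := oddW_norm (X.mem_A.1 hg) hy

theorem A_norm_D {g : G} (hg : g ∈ nA (φ aC)) {y : G} (hy : y ∈ Subgroup.zpowers (φ aC)) :
    g * y * g⁻¹ ∈ Subgroup.zpowers (φ aC) := (Subgroup.mem_normalizer_iff.1 hg y).1 hy

theorem A_norm_Z {g : G} (hg : g ∈ nA (φ aC)) {y : G} (hy : y ∈ zW (φ aC)) :
    g * y * g⁻¹ ∈ zW (φ aC) := by
  refine ⟨X.A_norm_W hg hy.1, Subgroup.mem_centralizer_iff.2 fun x hx => ?_⟩
  have h := Subgroup.mem_centralizer_iff.1 hy.2 _ (X.A_norm_W (inv_mem hg) hx)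
  calc x * (g * y * g⁻¹) = g * ((g⁻¹ * x * g⁻¹⁻¹) * y) * g⁻¹ := by group
    _ = g * (y * (g⁻¹ * x * g⁻¹⁻¹)) * g⁻¹ := by rw [h]
    _ = g * y * g⁻¹ * x := by group

/-- An element of the normaliser is an element of the odd core times one of the model. -/
theorem A_decomp {g : G} (hg : g ∈ nA (φ aC)) :
    ∃ w ∈ oddW (φ aC), ∃ c : Cm, g = w * φ c ∧ c * aC * c⁻¹ ∈ [aC, aC⁻¹] := by
  obtain ⟨e, he, hge⟩ : ∃ e : Cm, e * aC * e⁻¹ ∈ [aC, aC⁻¹] ∧ g * φ e * φ aC = φ aC * (g * φ e) := by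
    rcases X.mem_A.1 hg with h | h
    · exact ⟨1, by simp, by rw [map_one, mul_one]; exact mul_inv_eq_iff_eq_mul.1 h⟩
    · refine ⟨tau, by decide +kernel, ?_⟩
      have h1 : φ tau * φ aC = (φ aC)⁻¹ * φ tau := mul_inv_eq_iff_eq_mul.1 (X.tau_rep (by decide +kernel))
      have h2 : g * (φ aC)⁻¹ = φ aC * g := by
        rw [← mul_inv_eq_iff_eq_mul, ← conj_inv, h, inv_inv]
      rw [mul_assoc, h1, ← mul_assoc, h2, mul_assoc]
  obtain ⟨w, hw, c, hc, hwc⟩ := X.decomp (x := aC) (by decide +kernel) hge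
  refine ⟨w, hw, c * e⁻¹, by rw [map_mul, map_inv, ← mul_assoc, ← hwc, mul_inv_cancel_right], ?_⟩
  have he' : φ (c * e⁻¹) ∈ nA (φ aC) := by
    rw [map_mul, map_inv]
    exact mul_mem (X.mem_A_of_comm (X.comm_phi.2 hc)) (inv_mem (X.phi_mem_A.2 he))
  exact X.phi_mem_A.1 he'

/-- A normal subgroup of the normaliser lies in the odd core or contains the central involution. -/
theorem normal_le_or {K : Subgroup G} (hK : K ≤ nA (φ aC))
    (hn : ∀ g ∈ nA (φ aC), ∀ k ∈ K, g * k * g⁻¹ ∈ K) : K ≤ oddW (φ aC) ∨ z ∈ K := by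
  refine or_iff_not_imp_left.2 fun h => ?_
  obtain ⟨k, hk, hkW⟩ := SetLike.not_le_iff_exists.1 h
  obtain ⟨L, hL⟩ : ∃ L : Subgroup G, L = K ⊔ oddW (φ aC) := ⟨_, rfl⟩
  have hLn : ∀ g ∈ nA (φ aC), ∀ y ∈ L, g * y * g⁻¹ ∈ L := by
    intro g hg
    have hle : L ≤ L.comap (MulAut.conj g).toMonoidHom := by
      conv_lhs => rw [hL]
      exact sup_le (fun y hy => hL ▸ Subgroup.mem_sup_left (hn g hg y hy))
        (fun y hy => hL ▸ Subgroup.mem_sup_right (X.A_norm_W hg hy))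
    exact fun y hy => hle hy
  obtain ⟨w, hw, c, rfl, hc⟩ := X.A_decomp (hK hk)
  have hwL : w ∈ L := hL ▸ Subgroup.mem_sup_right hw
  have hcL : φ c ∈ L := by
    rw [← inv_mul_cancel_left w (φ c)]
    exact mul_mem (inv_mem hwL) (hL ▸ Subgroup.mem_sup_left hk)
  have haW := X.self_mem_oddW (x := aC) (by decide +kernel)
  have hlW : ∀ l ∈ [1, aC, aC⁻¹], φ l ∈ oddW (φ aC) := by
    intro l hl
    simp only [List.mem_cons, List.not_mem_nil, or_false] at hl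
    rcases hl with rfl | rfl | rfl
    · rw [map_one]; exact one_mem _
    · exact haW
    · rw [map_inv]; exact inv_mem haW
  have hzL : φ zc ∈ L := by
    rcases kill_fact c.code hc with h1 | ⟨d, hd, e, he, m, -, l, hl, h2 | h2⟩
    · exact absurd (mul_mem hw (hlW c h1)) hkW
    · rw [← h2, map_mul, map_pow, map_mul, map_mul, map_mul, map_inv]
      refine mul_mem (pow_mem (mul_mem hcL ?_) m) (hL ▸ Subgroup.mem_sup_right (hlW l hl))
      refine hLn _ (X.phi_mem_A.2 (kill_mem d hd)) _ ?_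
      simp only [List.mem_cons, List.not_mem_nil, or_false] at he
      rcases he with rfl | rfl
      · exact hcL
      · rw [map_inv]; exact inv_mem hcL
    · rw [← h2, map_mul]
      exact mul_mem hcL (hL ▸ Subgroup.mem_sup_right (hlW l hl))
  rw [X.hz, hL] at hzL
  have hWn : oddW (φ aC) ≤ Subgroup.normalizer (K : Set G) := fun g hg =>
    mem_normalizer_fintype fun y hy => hn g (X.W_le_A hg) y hy
  obtain ⟨k', hk', u, hu, hzu⟩ := (CfsgLib.Coprime.mem_sup_of_le_normalizer hWn).1 hzL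
  have hkz : k' = z * u⁻¹ := by rw [← hzu, mul_inv_cancel_right]
  have h2 : u⁻¹ * u⁻¹ ∈ K := by
    have h := hn z X.z_mem_A _ (mul_mem hk' (hn z X.z_mem_A _ hk'))
    rw [hkz] at h
    have e : z * (z * u⁻¹ * (z * (z * u⁻¹) * z⁻¹)) * z⁻¹ = (z * z) * u⁻¹ * (z * z) * u⁻¹ * (z * z)⁻¹ := by
      group
    rw [e, X.z_sq, inv_one, mul_one, mul_one, one_mul] at h
    exact h
  obtain ⟨n, hn2⟩ := odd_oddW (φ aC)
  have h1 : u⁻¹ = (u⁻¹ * u⁻¹) ^ (n + 1) := by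
    rw [← pow_two, ← pow_mul, show 2 * (n + 1) = Nat.card (oddW (φ aC)) + 1 by omega, pow_succ,
      oddW_pow _ (inv_mem hu), one_mul]
  have hu' : u ∈ K := (Subgroup.inv_mem_iff _).1 (h1 ▸ pow_mem h2 _)
  rw [← hzu]
  exact mul_mem hk' hu'

theorem A_index : ((oddW (φ aC)).subgroupOf (nA (φ aC))).index = 48 := by
  classical
  obtain ⟨Nc, hNc⟩ : ∃ Nc : Subgroup Cm, Nc = (nA (φ aC)).comap φ := ⟨_, rfl⟩
  have hmem : ∀ c, c ∈ Nc ↔ c * aC * c⁻¹ ∈ [aC, aC⁻¹] := fun c => by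
    rw [hNc, Subgroup.mem_comap, X.phi_mem_A]
  have h144 : Nat.card Nc = 144 := by
    rw [← nl_card, ← Nat.card_eq_finsetCard]
    exact Nat.card_congr (Equiv.subtypeEquivRight fun c => by
      rw [hmem c, Finset.mem_filter, and_iff_right (Finset.mem_univ c)])
  haveI : ((oddW (φ aC)).subgroupOf (nA (φ aC))).Normal :=
    ⟨fun y hy g => Subgroup.mem_subgroupOf.2 (X.A_norm_W g.2 (Subgroup.mem_subgroupOf.1 hy))⟩
  let f : Nc →* nA (φ aC) :=
    (φ.comp Nc.subtype).codRestrict _ fun c => by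
      show φ (c : Cm) ∈ nA (φ aC)
      rw [X.phi_mem_A]; exact (hmem _).1 c.2
  let π := (QuotientGroup.mk' ((oddW (φ aC)).subgroupOf (nA (φ aC)))).comp f
  have hsurj : Function.Surjective π := by
    intro q
    induction q using QuotientGroup.induction_on with
    | _ g =>
      obtain ⟨w, hw, c, hgc, hc⟩ := X.A_decomp g.2
      refine ⟨⟨c, (hmem c).2 hc⟩, QuotientGroup.eq.2 (Subgroup.mem_subgroupOf.2 ?_)⟩
      show (φ c)⁻¹ * (g : G) ∈ oddW (φ aC)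
      rw [hgc, ← mul_assoc]
      have h := X.A_norm_W (inv_mem (X.phi_mem_A.2 hc)) hw
      rwa [inv_inv] at h
  have hker : Nat.card π.ker = 3 := by
    rw [← X.card_zpowers_rep (x := aC) (by decide +kernel)]
    have hin : ∀ c : Nc, π c = 1 ↔ φ (c : Cm) ∈ oddW (φ aC) := fun c =>
      (QuotientGroup.eq_one_iff (f c)).trans Subgroup.mem_subgroupOf
    refine Nat.card_congr (Equiv.ofBijective (fun c : π.ker => (⟨φ ((c : Nc) : Cm), ?_⟩ : Subgroup.zpowers (φ aC))) ⟨?_, ?_⟩)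
    · rw [← X.oddW_z_eq]
      exact ⟨(hin c).1 c.2, mem_cent.2 ((X.range _).2 ⟨_, rfl⟩)⟩
    · exact fun c d h => Subtype.ext (Subtype.ext (X.inj (congrArg Subtype.val h)))
    · rintro ⟨y, hy⟩
      have hy' : y ∈ oddW (φ aC) ⊓ Subgroup.centralizer ({z} : Set G) := X.oddW_z_eq.symm ▸ hy
      obtain ⟨c, rfl⟩ := (X.range y).1 (mem_cent.1 hy'.2)
      refine ⟨⟨⟨c, (hmem c).2 (X.phi_mem_A.1 (X.W_le_A hy'.1))⟩, ?_⟩, rfl⟩
      exact (hin _).2 hy'.1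
  have h := Subgroup.card_eq_card_quotient_mul_card_subgroup π.ker
  rw [Nat.card_congr (QuotientGroup.quotientKerEquivOfSurjective π hsurj).toEquiv, hker, h144,
    ← Subgroup.index_eq_card] at h
  omega

end Cfg

namespace Norm

variable {z : G} {φ φ' : Cm →* G} {X : Cfg z φ} (P : Norm X φ')

include P

theorem mem_kt : φ' aC ∈ Cfg.kt X ∧ φ' bC ∈ Cfg.kt X := by rw [P.kt_eq]; exact aC_mem_p9Sub φ'

theorem q_mem : jconj φ (φ' bC) ∈ Cfg.kzt X ∧ jconj φ (jconj φ (φ' bC)) = (φ' bC)⁻¹ :=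
  X.jconj_kt P.mem_kt.2

theorem kzt_eq : Cfg.kzt X = (p9Sub φ').map (MulAut.conj (φ jB)).toMonoidHom := by
  refine (Subgroup.eq_of_le_of_card_ge ?_ ?_).symm
  · rintro _ ⟨y, hy, rfl⟩
    exact (X.jconj_kt (P.kt_eq.symm ▸ hy)).1
  · rw [Subgroup.card_map_of_injective (MulAut.conj (φ jB)).injective, P.frame.card_p9, X.card_kzt, P.card]

theorem card_W : Nat.card (oddW (φ aC)) = 243 := by rw [X.card_oddW_a, P.card]; norm_num

/-- The short element of the weight is central in the odd core. -/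
theorem s_central : φ' bC ∈ zW (φ aC) := by
  obtain ⟨hrk, hsk⟩ := P.mem_kt
  obtain ⟨hsa, hsw⟩ := X.mem_kt.1 hsk
  obtain ⟨s, hs⟩ : ∃ s, s = φ' bC := ⟨_, rfl⟩
  rw [← hs] at hsk hsa hsw ⊢
  obtain ⟨C, hC⟩ : ∃ C, C = oddW (φ aC) ⊓ Subgroup.centralizer ({s} : Set G) := ⟨_, rfl⟩
  have hinv : ∀ g ∈ nA (φ aC), (g * s * g⁻¹ = s ∨ g * s * g⁻¹ = s⁻¹) → ∀ y ∈ C, g * y * g⁻¹ ∈ C := by
    intro g hgA hg y hy
    rw [hC] at hy ⊢
    refine ⟨X.A_norm_W hgA hy.1, mem_cent.2 ?_⟩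
    have e : g * y * g⁻¹ * (g * s * g⁻¹) = g * s * g⁻¹ * (g * y * g⁻¹) := by
      rw [conj_mul, mem_cent.1 hy.2, ← conj_mul]
    rcases hg with hg | hg <;> rw [hg] at e
    · exact e
    · exact Commute.inv_right_iff.1 e
  have hCle : C ≤ oddW (φ aC) := hC ▸ inf_le_left
  have hCc := X.card_T (K := C) (Odd.of_dvd_nat (odd_oddW _) (Subgroup.card_dvd_of_le hCle))
    (hinv z X.z_mem_A (Or.inr hsw.2.2))
    (hinv _ X.t_mem_A (Or.inl (mul_inv_eq_iff_eq_mul.2 hsw.2.1.symm)))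
  have e1 : C ⊓ Subgroup.centralizer ({z} : Set G) = Subgroup.zpowers (φ aC) := by
    rw [hC, inf_right_comm, X.oddW_z_eq]
    exact inf_eq_left.2 (Subgroup.zpowers_le.2 (mem_cent.2 hsa.symm))
  have e2 : C ⊓ Subgroup.centralizer ({φ tau} : Set G) = Cfg.kt X := by
    refine le_antisymm (fun y hy => ⟨hCle hy.1, hy.2⟩) (fun y hy => ?_)
    refine ⟨?_, hy.2⟩
    rw [hC]
    refine ⟨hy.1, mem_cent.2 ?_⟩
    exact p9Sub_comm (P.kt_eq ▸ hy) (hs ▸ (aC_mem_p9Sub φ').2)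
  have e3 : C ⊓ Subgroup.centralizer ({z * φ tau} : Set G) = Cfg.kzt X := by
    refine le_antisymm (fun y hy => ⟨hCle hy.1, hy.2⟩) (fun y hy => ?_)
    refine ⟨?_, hy.2⟩
    rw [hC]
    refine ⟨hy.1, mem_cent.2 ?_⟩
    rw [P.kzt_eq] at hy
    obtain ⟨k, hk, rfl⟩ := hy
    obtain ⟨c, hc, rfl⟩ := hk
    obtain ⟨i, j, hij⟩ := p9_eq c hc
    show jconj φ (φ' c) * s = s * jconj φ (φ' c)
    rw [hij, map_mul, map_pow, map_pow, ← jconj_mul]
    refine ((Commute.mul_left ?_ ?_) : Commute _ s).eq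
    · rw [jconj, ← conj_pow]
      exact Commute.pow_left (hs ▸ P.s_p.symm) i
    · rw [jconj, ← conj_pow]
      exact Commute.pow_left (hs ▸ P.s_q.symm) j
  rw [e1, e2, e3, X.card_kzt, P.card, X.card_zpowers_rep (by decide +kernel)] at hCc
  have hCW : C = oddW (φ aC) := Subgroup.eq_of_le_of_card_ge hCle (by rw [hCc, P.card_W])
  refine ⟨hsk.1, Subgroup.mem_centralizer_iff.2 fun y hy => ?_⟩
  have hy' : y ∈ C := hCW.symm ▸ hy
  rw [hC] at hy'
  exact mem_cent.1 hy'.2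

theorem q_central : jconj φ (φ' bC) ∈ zW (φ aC) := X.A_norm_Z X.jB_mem_A P.s_central

theorem a_central_W : φ aC ∈ zW (φ aC) :=
  ⟨X.self_mem_oddW (by decide +kernel), Subgroup.mem_centralizer_iff.2 fun y hy => oddW_le _ y hy⟩

theorem s_ne : φ' bC ≠ 1 := fun h => P.s_b (by rw [h, one_mul, mul_one])

theorem zt_part : zW (φ aC) ⊓ Subgroup.centralizer ({φ tau} : Set G) = Subgroup.zpowers (φ' bC) := by
  refine (Subgroup.eq_of_le_of_card_ge
    (Subgroup.zpowers_le.2 (Subgroup.mem_inf.2 ⟨P.s_central, mem_cent.2 (X.mem_kt.1 P.mem_kt.2).2.2.1⟩)) ?_).symm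
  rw [P.frame.card_zpowers_rep (x := bC) (by decide +kernel)]
  have hle : zW (φ aC) ⊓ Subgroup.centralizer ({φ tau} : Set G) ≤ Cfg.kt X :=
    inf_le_inf_right _ inf_le_left
  have hd := Subgroup.card_dvd_of_le hle
  rw [P.card] at hd
  have hne : Nat.card ↥(zW (φ aC) ⊓ Subgroup.centralizer ({φ tau} : Set G)) ≠ 9 := fun h => by
    have he := Subgroup.eq_of_le_of_card_ge hle (by rw [P.card, h])
    have hr := (he.symm ▸ P.mem_kt.1 :
      φ' aC ∈ zW (φ aC) ⊓ Subgroup.centralizer ({φ tau} : Set G)).1.2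
    exact P.r_p (Subgroup.mem_centralizer_iff.1 hr _ (X.jconj_kt P.mem_kt.1).1.1).symm
  have hle9 := Nat.le_of_dvd (by norm_num) hd
  interval_cases Nat.card ↥(zW (φ aC) ⊓ Subgroup.centralizer ({φ tau} : Set G)) <;> omega

theorem zzt_part :
    zW (φ aC) ⊓ Subgroup.centralizer ({z * φ tau} : Set G) = Subgroup.zpowers (jconj φ (φ' bC)) := by
  obtain ⟨-, h2, -, h4⟩ := X.jB_maps
  refine le_antisymm (fun y hy => ?_)
    (Subgroup.zpowers_le.2 (Subgroup.mem_inf.2 ⟨P.q_central, mem_cent.2 (X.mem_kzt.1 P.q_mem.1).2.2.1⟩))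
  have hy' : φ jB * y * (φ jB)⁻¹ ∈ zW (φ aC) ⊓ Subgroup.centralizer ({φ tau} : Set G) := by
    refine ⟨X.A_norm_Z X.jB_mem_A hy.1, mem_cent.2 ?_⟩
    rw [← h4, conj_mul, mem_cent.1 hy.2, ← conj_mul]
  rw [P.zt_part] at hy'
  obtain ⟨i, hi⟩ := Subgroup.mem_zpowers_iff.1 hy'
  have hz : φ jB * φ jB = z := by rw [← map_mul, j_facts.2.2.2.2.2.2.2.2.2, X.hz]
  refine Subgroup.mem_zpowers_iff.2 ⟨-i, ?_⟩
  calc jconj φ (φ' bC) ^ (-i) = φ jB * ((φ' bC) ^ i)⁻¹ * (φ jB)⁻¹ := by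
        rw [jconj, conj_zpow, zpow_neg]
    _ = (φ jB * φ jB) * y⁻¹ * (φ jB * φ jB)⁻¹ := by rw [hi]; group
    _ = y := by
      rw [hz]
      have hyw := (X.mem_kzt.1 ⟨hy.1.1, hy.2⟩).2.2.2
      rw [← conj_inv, hyw, inv_inv]

theorem card_zW : Nat.card (zW (φ aC)) = 27 := by
  have e1 : zW (φ aC) ⊓ Subgroup.centralizer ({z} : Set G) = Subgroup.zpowers (φ aC) := by
    refine le_antisymm ?_ (Subgroup.zpowers_le.2 ⟨P.a_central_W, mem_cent.2 X.z_comm_rep.symm⟩)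
    rw [← X.oddW_z_eq]
    exact inf_le_inf_right _ inf_le_left
  rw [X.card_T (K := zW (φ aC))
    (Odd.of_dvd_nat (odd_oddW _) (Subgroup.card_dvd_of_le inf_le_left))
    (fun y hy => X.A_norm_Z X.z_mem_A hy) (fun y hy => X.A_norm_Z X.t_mem_A hy),
    e1, P.zt_part, P.zzt_part, X.card_zpowers_rep (by decide +kernel),
    P.frame.card_zpowers_rep (x := bC) (by decide +kernel)]
  rw [show Nat.card (Subgroup.zpowers (jconj φ (φ' bC))) =
      Nat.card (Subgroup.zpowers (φ' bC)) by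
    show Nat.card (Subgroup.zpowers ((MulAut.conj (φ jB)).toMonoidHom (φ' bC))) = _
    rw [← MonoidHom.map_zpowers]
    exact Subgroup.card_map_of_injective (MulAut.conj (φ jB)).injective]
  rw [P.frame.card_zpowers_rep (x := bC) (by decide +kernel)]

theorem comm_eq : Subgroup.zpowers (φ aC) = ⁅oddW (φ aC), oddW (φ aC)⁆ := by
  refine le_antisymm ?_ (Subgroup.commutator_le.2 fun y hy y' hy' => ?_)
  · obtain ⟨hrk, -⟩ := P.mem_kt
    have hm := Subgroup.commutator_mem_commutator hrk.1 (X.jconj_kt hrk).1.1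
    have hd := X.comm_mod_a hrk.1 (X.jconj_kt hrk).1.1
    rw [← commutatorElement_def] at hd
    have hne : ⁅φ' aC, jconj φ (φ' aC)⁆ ≠ 1 := fun h =>
      P.r_p (commutatorElement_eq_one_iff_commute.1 h).eq
    rw [Subgroup.zpowers_le]
    rcases zpowers_of_cube (cube_aC aC (by decide +kernel)) hd with h | h | h
    · exact absurd h hne
    · exact h ▸ hm
    · rw [h] at hm; exact (Subgroup.inv_mem_iff _).1 hm
  · rw [commutatorElement_def]; exact X.comm_mod_a hy hy'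

theorem side : Side (nA (φ aC)) (oddW (φ aC)) (zW (φ aC)) (Subgroup.zpowers (φ aC)) := by
  have hDZ : Subgroup.zpowers (φ aC) ≤ zW (φ aC) := Subgroup.zpowers_le.2 P.a_central_W
  obtain ⟨hrk, hsk⟩ := P.mem_kt
  refine ⟨X.W_le_A, fun g hg x hx => X.A_norm_W hg hx, rfl, P.comm_eq, hDZ, P.card_W, ?_, ?_, X.A_index,
    ?_, ?_, rfl⟩
  · have h := ((zW (φ aC)).subgroupOf (oddW (φ aC))).card_mul_index
    have hle : zW (φ aC) ≤ oddW (φ aC) := inf_le_left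
    rw [Nat.card_congr (Subgroup.subgroupOfEquivOfLe hle).toEquiv,
      P.card_zW, P.card_W] at h
    omega
  · have h := ((Subgroup.zpowers (φ aC)).subgroupOf (zW (φ aC))).card_mul_index
    rw [Nat.card_congr (Subgroup.subgroupOfEquivOfLe hDZ).toEquiv, P.card_zW,
      X.card_zpowers_rep (by decide +kernel)] at h
    omega
  · intro g hg
    refine ⟨fun hgW x hx => hDZ (X.comm_mod_a hgW hx), fun h => ?_⟩
    obtain ⟨K, hK⟩ : ∃ K, K = actKer (nA (φ aC)) (fun g hg y hy => X.A_norm_W hg hy)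
        (fun g hg y hy => X.A_norm_Z hg hy) := ⟨_, rfl⟩
    rcases X.normal_le_or (K := K) (hK ▸ fun k hk => hk.1) (hK ▸ actKer_normal) with hle | hzK
    · exact hle (hK ▸ ⟨hg, h⟩)
    · exfalso
      rw [hK] at hzK
      have h1 := hzK.2 _ hrk.1
      obtain ⟨hrc, -, hinv⟩ := (X.mem_kt.1 hrk).2
      rw [hinv, show (φ' aC)⁻¹ * (φ' aC)⁻¹ = φ' aC by
        rw [← _root_.mul_inv_rev, inv_eq_iff_mul_eq_one, hrc]] at h1
      exact P.r_p (Subgroup.mem_centralizer_iff.1 h1.2 _ (X.jconj_kt hrk).1.1).symm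
  · intro g hg
    refine ⟨fun hgW x hx => ?_, fun h => ?_⟩
    · rw [← Subgroup.mem_centralizer_iff.1 hx.2 g hgW |>.symm]
      simp
    obtain ⟨K, hK⟩ : ∃ K, K = actKer (nA (φ aC)) (fun g hg y hy => X.A_norm_Z hg hy)
        (fun g hg y hy => X.A_norm_D hg hy) := ⟨_, rfl⟩
    rcases X.normal_le_or (K := K) (hK ▸ fun k hk => hk.1) (hK ▸ actKer_normal) with hle | hzK
    · exact hle (hK ▸ ⟨hg, h⟩)
    · exfalso
      rw [hK] at hzK
      have h1 := hzK.2 _ P.s_central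
      obtain ⟨hsc, -, hinv⟩ := (X.mem_kt.1 hsk).2
      rw [hinv, show (φ' bC)⁻¹ * (φ' bC)⁻¹ = φ' bC by
        rw [← _root_.mul_inv_rev, inv_eq_iff_mul_eq_one, hsc]] at h1
      obtain ⟨i, hi⟩ := Subgroup.mem_zpowers_iff.1 h1
      refine P.s_b ?_
      rw [← hi]
      exact Commute.zpow_left X.b_comm_a.symm i

end Norm

/-- The side of the amalgam at any long element. -/
theorem Cfg.side {z : G} {φ : Cm →* G} (X : Cfg z φ) :
    Side (nA (φ aC)) (oddW (φ aC)) (zW (φ aC)) (Subgroup.zpowers (φ aC)) := by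
  obtain ⟨φ₁, X₁, e, -, φ', P⟩ := canNorm X
  exact e ▸ P.side

end CfsgLib.Recog.G2TwoLocal
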