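import Cfsg.Agent.Lib.Recog.G2TwoLocal.Weights
import Cfsg.Agent.Lib.Recog.G2TwoLocal.Chain
import Cfsg.Agent.Lib.Recog.G2TwoLocal.ExcCase
import Mathlib.GroupTheory.Nilpotent

/-!
The three possible sizes of the odd cores: the smallest one is the exceptional case, in the others the
element of the second class fixes either a whole weight or one line in each.
-/

set_option autoImplicit false
set_option maxRecDepth 100000
set_option linter.unusedSectionVars false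
set_option linter.style.haveILetI false

namespace CfsgLib.Recog.G2TwoLocal

open Cm Subgroup

universe u

theorem three_rep : ∀ n : Fin 576, (⟨n⟩ : Cm) * ⟨n⟩ * ⟨n⟩ = 1 →
    (⟨n⟩ : Cm) = 1 ∨ ∃ x ∈ reps, ∃ k : Fin 576, (⟨k⟩ : Cm) * x = ⟨n⟩ * ⟨k⟩ := by decide +kernel

variable {G : Type u} [Group G] [Finite G]

namespace Cfg

variable {z : G} {φ : Cm →* G} (X : Cfg z φ)

include X

theorem cent_pair_one {y : G} (h1 : y * φ bC = φ bC * y)
    (h2 : y * φ (jB * bC * jB⁻¹) = φ (jB * bC * jB⁻¹) * y) (hi : z * y * z⁻¹ = y⁻¹)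
    (h3 : y * y * y = 1) : y = 1 := by
  obtain ⟨S, hS⟩ : ∃ S : Subgroup Cm, S = (Subgroup.centralizer ({y} : Set G)).comap φ := ⟨_, rfl⟩
  have mS : ∀ c, c ∈ S ↔ φ c * y = y * φ c := fun c => by rw [hS, Subgroup.mem_comap, mem_cent]
  have hb : bC ∈ S := (mS _).2 h1.symm
  have hb' : jB * bC * jB⁻¹ ∈ S := (mS _).2 h2.symm
  have hz : zc ∈ S := by
    rcases b_pair_gen with h | h <;> rw [← h]
    · exact mul_mem (mul_mem (mul_mem hb hb') hb) (mul_mem (mul_mem hb hb') hb)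
    · exact mul_mem (mul_mem (mul_mem hb (inv_mem hb')) hb) (mul_mem (mul_mem hb (inv_mem hb')) hb)
  have h := (mS _).1 hz
  rw [X.hz] at h
  rw [h, mul_inv_cancel_right] at hi
  have hyy : y * y = 1 := by nth_rewrite 2 [hi]; exact mul_inv_cancel y
  rw [hyy, one_mul] at h3
  exact h3

/-- An element of odd order normalising the subgroup of order nine centralizes it. -/
theorem comm_b_of_norm {y : G} (ho : ∃ n, Odd n ∧ y ^ n = 1) (hb : y * φ bC * y⁻¹ ∈ p9Sub φ) :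
    y * φ bC = φ bC * y := by
  obtain ⟨c, hc, hce⟩ := hb
  rcases X.fusion (x := bC) (by decide +kernel) hc hce.symm with h | h
  · rw [h] at hce
    exact mul_inv_eq_iff_eq_mul.1 hce.symm
  · rw [h, map_inv] at hce
    obtain ⟨n, ⟨m, rfl⟩, hy⟩ := ho
    have h2 : Commute (y * y) (φ bC) := by
      refine mul_inv_eq_iff_eq_mul.1 ?_
      calc y * y * φ bC * (y * y)⁻¹ = y * (y * φ bC * y⁻¹) * y⁻¹ := by group
        _ = (y * φ bC * y⁻¹)⁻¹ := by nth_rewrite 1 [← hce]; group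
        _ = φ bC := by rw [← hce, inv_inv]
    have e : y = (y * y) ^ (m + 1) := by
      rw [← pow_two, ← pow_mul, show 2 * (m + 1) = 2 * m + 1 + 1 by ring, pow_succ, hy, one_mul]
    rw [e]
    exact h2.pow_left _

theorem a_central {y d : G} (hy : y ∈ oddW (φ aC)) (hd : d ∈ Subgroup.zpowers (φ aC)) :
    y * d * y⁻¹ = d := by
  obtain ⟨i, rfl⟩ := Subgroup.mem_zpowers_iff.1 hd
  rw [← conj_zpow, oddW_le _ y hy, mul_inv_cancel_right]

/-- The central involution inverts the odd core modulo the element. -/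
theorem inv_mod_a {y : G} (hy : y ∈ oddW (φ aC)) : z * y * z⁻¹ * y ∈ Subgroup.zpowers (φ aC) := by
  have hzi := inv_sq X.z_sq
  obtain ⟨c, hc⟩ : ∃ c, c = y⁻¹ * (z * y * z⁻¹) := ⟨_, rfl⟩
  have hcW : c ∈ oddW (φ aC) := hc ▸ mul_mem (inv_mem hy) (X.oddW_z_inv hy)
  have hci : z * c * z⁻¹ = c⁻¹ := by
    rw [hc, hzi]
    simp only [_root_.mul_inv_rev, inv_inv, hzi, mul_assoc]
    rw [X.z_sq, mul_one]
  obtain ⟨k, hk⟩ := odd_oddW (φ aC)
  obtain ⟨s, hs⟩ : ∃ s, s = c ^ (k + 1) := ⟨_, rfl⟩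
  have hs2 : s * s = c := by
    rw [hs, ← pow_add, show k + 1 + (k + 1) = Nat.card (oddW (φ aC)) + 1 by omega, pow_succ,
      oddW_pow _ hcW, one_mul]
  have hsW : s ∈ oddW (φ aC) := hs ▸ pow_mem hcW _
  have hzs : z * s * z⁻¹ = s⁻¹ := by rw [hs, ← conj_pow, hci, inv_pow]
  have hy' : z * y * z⁻¹ = y * s * s := by rw [mul_assoc y s s, hs2, hc, mul_inv_cancel_left]
  have hr : y * s ∈ Subgroup.zpowers (φ aC) := by
    rw [← X.oddW_z_eq]
    refine ⟨mul_mem hy hsW, mem_cent.2 ?_⟩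
    have e : z * (y * s) * z⁻¹ = y * s := by
      calc z * (y * s) * z⁻¹ = (z * y * z⁻¹) * (z * s * z⁻¹) := by group
        _ = y * s := by rw [hy', hzs]; group
    exact (mul_inv_eq_iff_eq_mul.1 e).symm
  have e : z * y * z⁻¹ * y = (y * s) * (y * s) := by
    rw [hy']
    have h2 := a_central X hsW hr
    calc y * s * s * y = (y * s) * (s * (y * s) * s⁻¹) := by group
      _ = _ := by rw [h2]
  rw [e]; exact mul_mem hr hr

theorem comm_mod_a {y y' : G} (hy : y ∈ oddW (φ aC)) (hy' : y' ∈ oddW (φ aC)) :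
    y * y' * y⁻¹ * y'⁻¹ ∈ Subgroup.zpowers (φ aC) := by
  have h1 := X.inv_mod_a (inv_mem hy)
  have h2 := X.inv_mod_a (inv_mem hy')
  have h3 := X.inv_mod_a (mul_mem (inv_mem hy) (inv_mem hy'))
  have e : z * (y⁻¹ * y'⁻¹) * z⁻¹ * (y⁻¹ * y'⁻¹) =
      (z * y⁻¹ * z⁻¹ * y⁻¹) * (y * (z * y'⁻¹ * z⁻¹ * y'⁻¹) * y⁻¹) * (y * y' * y⁻¹ * y'⁻¹) := by group
  rw [a_central X hy h2] at e
  rw [e] at h3
  have := mul_mem (inv_mem (mul_mem h1 h2)) h3
  rwa [inv_mul_cancel_left] at this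

theorem cube_mod_a {y : G} (hy : y ∈ oddW (φ aC)) : y ^ 3 ∈ Subgroup.zpowers (φ aC) := by
  have hn : ((Subgroup.zpowers (φ aC)).subgroupOf (oddW (φ aC))).Normal :=
    ⟨fun d hd w => Subgroup.mem_subgroupOf.2 (by
      show (w : G) * (d : G) * (w : G)⁻¹ ∈ _
      rw [a_central X w.2 (Subgroup.mem_subgroupOf.1 hd)]; exact Subgroup.mem_subgroupOf.1 hd)⟩
  obtain ⟨K, hK⟩ : ∃ K : Subgroup G, ∀ u, u ∈ K ↔ u ∈ oddW (φ aC) ∧ u ^ 3 ∈ Subgroup.zpowers (φ aC) := by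
    refine ⟨{
      carrier := {u | u ∈ oddW (φ aC) ∧ u ^ 3 ∈ Subgroup.zpowers (φ aC)}
      one_mem' := ⟨one_mem _, by rw [one_pow]; exact one_mem _⟩
      mul_mem' := ?_
      inv_mem' := fun h => ⟨inv_mem h.1, by rw [inv_pow]; exact inv_mem h.2⟩ }, fun u => Iff.rfl⟩
    rintro u v ⟨hu, hu3⟩ ⟨hv, hv3⟩
    refine ⟨mul_mem hu hv, ?_⟩
    have hc : Commute (QuotientGroup.mk' ((Subgroup.zpowers (φ aC)).subgroupOf (oddW (φ aC))) ⟨u, hu⟩)
        (QuotientGroup.mk' ((Subgroup.zpowers (φ aC)).subgroupOf (oddW (φ aC))) ⟨v, hv⟩) := by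
      refine commutatorElement_eq_one_iff_commute.1 ?_
      rw [← map_commutatorElement]
      exact (QuotientGroup.eq_one_iff _).2 (Subgroup.mem_subgroupOf.2 (X.comm_mod_a hu hv))
    have h := hc.mul_pow 3
    rw [← map_mul, ← map_pow, ← map_pow, ← map_pow,
      show QuotientGroup.mk' _ ((⟨u, hu⟩ : oddW (φ aC)) ^ 3) = 1 from
        (QuotientGroup.eq_one_iff _).2 (Subgroup.mem_subgroupOf.2 (by simpa using hu3)),
      show QuotientGroup.mk' _ ((⟨v, hv⟩ : oddW (φ aC)) ^ 3) = 1 from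
        (QuotientGroup.eq_one_iff _).2 (Subgroup.mem_subgroupOf.2 (by simpa using hv3)), one_mul] at h
    have h2 := Subgroup.mem_subgroupOf.1 ((QuotientGroup.eq_one_iff _).1 h)
    simpa using h2
  have hle : K ≤ oddW (φ aC) := fun u hu => ((hK u).1 hu).1
  have hW : Nat.card (oddW (φ aC)) = Nat.card K := by
    have hinv : ∀ g : G, (g * φ aC * g⁻¹ = φ aC ∨ g * φ aC * g⁻¹ = (φ aC)⁻¹) → ∀ u ∈ K,
        g * u * g⁻¹ ∈ K := by
      intro g hg u hu
      obtain ⟨h1, h2⟩ := (hK u).1 hu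
      refine (hK _).2 ⟨oddW_norm hg h1, ?_⟩
      rw [conj_pow]
      obtain ⟨i, hi⟩ := Subgroup.mem_zpowers_iff.1 h2
      rw [← hi, ← conj_zpow]
      rcases hg with hg | hg <;> rw [hg]
      · exact zpow_mem (Subgroup.mem_zpowers _) i
      · exact zpow_mem (inv_mem (Subgroup.mem_zpowers _)) i
    have hi3 : ∀ t : G, oddW (φ aC) ⊓ Subgroup.centralizer ({t} : Set G) =
        K ⊓ Subgroup.centralizer ({t} : Set G) ∨ (t ≠ z ∧ t ≠ φ tau ∧ t ≠ z * φ tau) := by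
      intro t
      by_cases ht : t = z ∨ t = φ tau ∨ t = z * φ tau
      swap
      · push Not at ht; exact Or.inr ht
      refine Or.inl (le_antisymm (fun u hu => ⟨(hK u).2 ⟨hu.1, ?_⟩, hu.2⟩)
        (inf_le_inf_right _ hle))
      rcases ht with rfl | ht
      · rw [← X.oddW_z_eq]; exact pow_mem hu 3
      · have h := X.oddW_wt_t (by decide +kernel) ht hu.1 (mem_cent.1 hu.2)
        rw [pow_succ, pow_two, h.1]; exact one_mem _
    rw [X.card_oddW (by decide +kernel), X.card_T (K := K)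
      (Odd.of_dvd_nat (odd_oddW (φ aC)) (Subgroup.card_dvd_of_le hle))
      (hinv z (Or.inl (by rw [X.z_comm_rep, mul_inv_cancel_right])))
      (hinv _ (Or.inr (X.tau_rep (by decide +kernel))))]
    rw [(hi3 z).resolve_right (fun h => h.1 rfl), (hi3 (φ tau)).resolve_right (fun h => h.2.1 rfl),
      (hi3 (z * φ tau)).resolve_right (fun h => h.2.2 rfl)]
  rw [← Subgroup.eq_of_le_of_card_ge hle hW.le] at hy
  exact ((hK y).1 hy).2

theorem b_comm_a : φ bC * φ aC = φ aC * φ bC := X.comm_phi.2 tau_facts.2.2.2.2.2.2.2.2.2.2.symm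

theorem fixed_comm {y : G} (hy : y ∈ oddW (φ aC))
    (h : φ bC * y * (φ bC)⁻¹ * y⁻¹ ∈ Subgroup.zpowers (φ aC)) : y * φ bC = φ bC * y := by
  refine X.comm_b_of_norm ⟨_, odd_oddW _, oddW_pow _ hy⟩ ?_
  obtain ⟨i, hi⟩ := Subgroup.mem_zpowers_iff.1 h
  have ha : φ aC ∈ p9Sub φ := ⟨aC, by decide +kernel, rfl⟩
  have hb : φ bC ∈ p9Sub φ := ⟨bC, by decide +kernel, rfl⟩
  have e : y * φ bC * y⁻¹ = (φ bC * y * (φ bC)⁻¹ * y⁻¹)⁻¹ * φ bC := by group
  rw [e, ← hi]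
  exact mul_mem (inv_mem (zpow_mem ha i)) hb

/-- The fixed parts of the two weights. -/
theorem fixed_bounds :
    Nat.card ↥(kt X ⊓ Subgroup.centralizer ({φ bC} : Set G)) *
      Nat.card ↥(kzt X ⊓ Subgroup.centralizer ({φ bC} : Set G)) ≤ Nat.card (kt X) ∧
    Nat.card (kt X) ^ 2 ≤ (Nat.card ↥(kt X ⊓ Subgroup.centralizer ({φ bC} : Set G)) *
      Nat.card ↥(kzt X ⊓ Subgroup.centralizer ({φ bC} : Set G))) ^ 3 := by
  constructor
  · rw [← Nat.card_prod]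
    obtain ⟨h1, -, h3, h4⟩ := X.jB_maps
    have hm : ∀ l : ↥(kzt X ⊓ Subgroup.centralizer ({φ bC} : Set G)),
        φ jB * (l : G) * (φ jB)⁻¹ ∈ kt X := fun l =>
      ⟨oddW_norm (Or.inl h1) l.2.1.1, mem_cent.2 (by
        rw [← h4, conj_mul, mem_cent.1 l.2.1.2, ← conj_mul])⟩
    refine Nat.card_le_card_of_injective (fun p => (⟨(p.1 : G) * (φ jB * (p.2 : G) * (φ jB)⁻¹),
      mul_mem p.1.2.1 (hm p.2)⟩ : kt X)) fun p q h => ?_
    have e : (p.1 : G) * (φ jB * (p.2 : G) * (φ jB)⁻¹) = q.1 * (φ jB * (q.2 : G) * (φ jB)⁻¹) :=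
      congrArg Subtype.val h
    obtain ⟨k, hk⟩ : ∃ k, k = (q.1 : G)⁻¹ * p.1 := ⟨_, rfl⟩
    have hk' : k = φ jB * ((q.2 : G) * (p.2 : G)⁻¹) * (φ jB)⁻¹ := by
      rw [hk, inv_mul_eq_iff_eq_mul]
      calc (p.1 : G) = (p.1 : G) * (φ jB * (p.2 : G) * (φ jB)⁻¹) * (φ jB * (p.2 : G) * (φ jB)⁻¹)⁻¹ := by group
        _ = _ := by rw [e]; group
    have hkK : k ∈ kt X ⊓ Subgroup.centralizer ({φ bC} : Set G) := hk ▸ mul_mem (inv_mem q.1.2) p.1.2
    have hk1 : k = 1 := by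
      refine X.cent_pair_one (mem_cent.1 hkK.2) ?_ (X.mem_kt.1 hkK.1).2.2.2 (X.mem_kt.1 hkK.1).2.1
      have h5 : (q.2 : G) * (p.2 : G)⁻¹ ∈ Subgroup.centralizer ({φ bC} : Set G) :=
        mul_mem q.2.2.2 (inv_mem p.2.2.2)
      rw [hk', map_mul, map_mul, map_inv, conj_mul, mem_cent.1 h5, ← conj_mul]
    refine Prod.ext (Subtype.ext (inv_mul_eq_one.1 (hk.symm.trans hk1)).symm) (Subtype.ext ?_)
    rw [hk1, eq_comm, conj_eq_one_iff, mul_inv_eq_one] at hk'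
    exact hk'.symm
  · have hbW : ∀ y ∈ oddW (φ aC), φ bC * y * (φ bC)⁻¹ ∈ oddW (φ aC) :=
      fun y hy => oddW_normal X.b_comm_a hy
    have hbD : ∀ d ∈ Subgroup.zpowers (φ aC), φ bC * d * (φ bC)⁻¹ = d := by
      intro d hd
      obtain ⟨i, rfl⟩ := Subgroup.mem_zpowers_iff.1 hd
      rw [← conj_zpow, X.b_comm_a, mul_inv_cancel_right]
    have h := chain_bound (b := φ bC) (K := Subgroup.centralizer ({φ bC} : Set G))
      (Subgroup.zpowers_le.2 (X.self_mem_oddW (x := aC) (by decide +kernel)))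
      (fun y hy d hd => a_central X hy hd) (fun y hy y' hy' => X.comm_mod_a hy hy')
      (fun y hy => X.cube_mod_a hy) hbW hbD
      (by rw [← map_pow, show (bC : Cm) ^ 3 = 1 by decide +kernel, map_one])
      (fun y hy hD => mem_cent.2 (X.fixed_comm hy hD))
    rw [X.card_oddW_a, X.card_zpowers_rep (by decide +kernel)] at h
    have hcomm : ∀ g : G, (g * φ bC * g⁻¹ = φ bC ∨ g * φ bC * g⁻¹ = (φ bC)⁻¹) →
        ∀ y, y * φ bC = φ bC * y → g * y * g⁻¹ * φ bC = φ bC * (g * y * g⁻¹) := by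
      intro g hg y hy
      have e : g * y * g⁻¹ * (g * φ bC * g⁻¹) = g * φ bC * g⁻¹ * (g * y * g⁻¹) := by
        rw [conj_mul, hy, ← conj_mul]
      rcases hg with hg | hg <;> rw [hg] at e
      · exact e
      · exact (Commute.inv_right_iff (a := g * y * g⁻¹)).1 e
    have hK : Nat.card ↥(oddW (φ aC) ⊓ Subgroup.centralizer ({φ bC} : Set G)) =
        3 * Nat.card ↥(kt X ⊓ Subgroup.centralizer ({φ bC} : Set G)) *
          Nat.card ↥(kzt X ⊓ Subgroup.centralizer ({φ bC} : Set G)) := by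
      rw [X.card_T (K := oddW (φ aC) ⊓ Subgroup.centralizer ({φ bC} : Set G))
        (Odd.of_dvd_nat (odd_oddW _) (Subgroup.card_dvd_of_le inf_le_left))
        (fun y hy => ⟨X.oddW_z_inv hy.1, mem_cent.2 (hcomm z (Or.inl
          (by rw [X.z_comm_rep, mul_inv_cancel_right])) y (mem_cent.1 hy.2))⟩)
        (fun y hy => ⟨X.oddW_t_inv (by decide +kernel) hy.1, mem_cent.2 (hcomm _ (Or.inr
          (X.tau_rep (by decide +kernel))) y (mem_cent.1 hy.2))⟩)]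
      have e1 : oddW (φ aC) ⊓ Subgroup.centralizer ({φ bC} : Set G) ⊓ Subgroup.centralizer ({z} : Set G) =
          Subgroup.zpowers (φ aC) := by
        rw [inf_right_comm, X.oddW_z_eq]
        exact inf_eq_left.2 (Subgroup.zpowers_le.2 (mem_cent.2 X.b_comm_a.symm))
      have e2 : oddW (φ aC) ⊓ Subgroup.centralizer ({φ bC} : Set G) ⊓
          Subgroup.centralizer ({φ tau} : Set G) = kt X ⊓ Subgroup.centralizer ({φ bC} : Set G) :=
        inf_right_comm _ _ _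
      have e3 : oddW (φ aC) ⊓ Subgroup.centralizer ({φ bC} : Set G) ⊓
          Subgroup.centralizer ({z * φ tau} : Set G) = kzt X ⊓ Subgroup.centralizer ({φ bC} : Set G) :=
        inf_right_comm _ _ _
      rw [e1, e2, e3, X.card_zpowers_rep (by decide +kernel)]
    rw [hK] at h
    nlinarith [h]

/-- The smallest case is impossible. -/
theorem kt_ne_one (hn : Nat.card (kt X) = 1) : False := by
  have hk0 : kt X = ⊥ := Subgroup.card_eq_one.1 hn
  have hk0' : kzt X = ⊥ := Subgroup.card_eq_one.1 (X.card_kzt.trans hn)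
  have hbb : Nat.card (kt X.preSigma) = 1 := by
    obtain ⟨-, h2⟩ := X.preSigma.fixed_bounds
    have key : ∀ {S : Subgroup G} {t : G}, (t = φ tau ∨ t = z * φ tau) →
        (∀ y ∈ S, y * φ aC = φ aC * y ∧ Wt z t y) → Nat.card S = 1 := by
      intro S t ht hS
      rw [Subgroup.card_eq_one, Subgroup.eq_bot_iff_forall]
      intro y hy
      rcases ht with rfl | rfl
      · exact Subgroup.mem_bot.1 (hk0 ▸ X.mem_kt.2 (hS y hy))
      · exact Subgroup.mem_bot.1 (hk0' ▸ X.mem_kzt.2 (hS y hy))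
    have et : (φ.comp sigma) tau = φ tau := congrArg φ sigma_facts.2.2.1
    have eb : (φ.comp sigma) bC = φ aC := congrArg φ sigma_facts.2.1
    rw [key (Or.inl rfl) (S := kt X.preSigma ⊓ Subgroup.centralizer ({(φ.comp sigma) bC} : Set G))
      (fun y hy => ⟨eb ▸ mem_cent.1 hy.2, et ▸ (X.preSigma.mem_kt.1 hy.1).2⟩),
      key (Or.inr rfl) (S := kzt X.preSigma ⊓ Subgroup.centralizer ({(φ.comp sigma) bC} : Set G))
      (fun y hy => ⟨eb ▸ mem_cent.1 hy.2, et ▸ (X.preSigma.mem_kzt.1 hy.1).2⟩)] at h2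
    have hp : 0 < Nat.card (kt X.preSigma) := Nat.card_pos
    nlinarith
  have hA : ∀ {ψ : Cm →* G} (Y : Cfg z ψ), Nat.card (kt Y) = 1 → ∀ g : G,
      g * ψ aC = ψ aC * g → g * z = z * g := by
    intro ψ Y hY g hg
    obtain ⟨w, hw, c, -, rfl⟩ := Y.decomp (by decide +kernel) hg
    have hW : oddW (ψ aC) = Subgroup.zpowers (ψ aC) := by
      refine (Subgroup.eq_of_le_of_card_ge (Subgroup.zpowers_le.2 (Y.self_mem_oddW (by decide +kernel))) ?_).symm
      rw [Y.card_oddW_a, hY, Y.card_zpowers_rep (by decide +kernel)]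
      norm_num
    rw [hW] at hw
    have h1 : w * z = z * w := by
      obtain ⟨i, rfl⟩ := Subgroup.mem_zpowers_iff.1 hw
      exact (Commute.zpow_left (Y.z_comm_rep (x := aC)).symm i)
    rw [mul_assoc, (Y.range _).2 ⟨c, rfl⟩, ← mul_assoc, h1, mul_assoc]
  have hB : ∀ g : G, g * φ bC = φ bC * g → g * z = z * g := fun g hg =>
    hA X.preSigma hbb g (by rw [MonoidHom.comp_apply, sigma_facts.1]; exact hg)
  have hD : ∀ x ∈ [cC, dC], ∀ g : G, g * φ x = φ x * g → g * z = z * g := by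
    intro x hx g hg
    haveI : Fact (Nat.Prime 3) := ⟨Nat.prime_three⟩
    have hxr : x ∈ reps := by
      simp only [List.mem_cons, List.not_mem_nil, or_false] at hx
      rcases hx with rfl | rfl <;> decide +kernel
    obtain ⟨w, hw, c, -, rfl⟩ := X.decomp hxr hg
    suffices h1 : w * z = z * w by
      rw [mul_assoc, (X.range _).2 ⟨c, rfl⟩, ← mul_assoc, h1, mul_assoc]
    have hP : IsPGroup 3 (p9Sub φ) := IsPGroup.of_card (n := 2) (by rw [X.card_p9]; norm_num)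
    have hW : IsPGroup 3 (oddW (φ x)) := by
      have cube : ∀ {S : Subgroup G}, (∀ y ∈ S, y * y * y = 1) → ∃ k, Nat.card S = 3 ^ k := fun hS =>
        IsPGroup.iff_card.1 fun y => ⟨1, Subtype.ext (by
          simp only [Subgroup.coe_pow, Subgroup.coe_one, pow_succ, pow_zero, one_mul]
          exact hS _ y.2)⟩
      obtain ⟨i, hi⟩ := cube (S := oddW (φ x) ⊓ Subgroup.centralizer ({z} : Set G)) fun y hy => by
        obtain ⟨d, hd, h3⟩ := X.cube_of_odd (mem_cent.1 hy.2) ⟨_, odd_oddW _, oddW_pow _ hy.1⟩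
        rw [← hd, ← map_mul, ← map_mul, h3, map_one]
      obtain ⟨j, hj⟩ := cube (S := oddW (φ x) ⊓ Subgroup.centralizer ({φ tau} : Set G)) fun y hy =>
        (X.oddW_wt_t hxr (Or.inl rfl) hy.1 (mem_cent.1 hy.2)).1
      obtain ⟨k, hk⟩ := cube (S := oddW (φ x) ⊓ Subgroup.centralizer ({z * φ tau} : Set G)) fun y hy =>
        (X.oddW_wt_t hxr (Or.inr rfl) hy.1 (mem_cent.1 hy.2)).1
      exact IsPGroup.of_card (n := i + j + k) (by rw [X.card_oddW hxr, hi, hj, hk, pow_add, pow_add])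
    have hPn : p9Sub φ ≤ normalizer (oddW (φ x) : Set G) := by
      rintro _ ⟨d, hd, rfl⟩
      refine mem_normalizer_fintype fun y hy => oddW_normal ?_ hy
      have hcomm : ∀ d ∈ p9, ∀ x ∈ [cC, dC], d * x = x * d := by decide +kernel
      exact X.comm_phi.2 (hcomm d hd x hx)
    have hN : IsPGroup 3 ↥(oddW (φ x) ⊔ p9Sub φ) := IsPGroup.to_sup_of_normal_left' hW hP hPn
    have key : oddW (φ x) ⊔ p9Sub φ ≤ p9Sub φ := by
      by_contra hne
      have hlt : (p9Sub φ).subgroupOf (oddW (φ x) ⊔ p9Sub φ) < ⊤ := lt_top_iff_ne_top.2 fun h =>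
        hne (Subgroup.subgroupOf_eq_top.1 h)
      haveI := hN.isNilpotent
      obtain ⟨⟨n, hnN⟩, hn1, hn2⟩ := SetLike.exists_of_lt
        (Group.normalizerCondition_of_isNilpotent _ hlt)
      rw [Subgroup.mem_subgroupOf] at hn2
      have hcj : ∀ p ∈ p9Sub φ, n * p * n⁻¹ ∈ p9Sub φ := fun p hp =>
        Subgroup.mem_subgroupOf.1 ((Subgroup.mem_normalizer_iff.1 hn1 ⟨p, le_sup_right (a := oddW (φ x)) hp⟩).1
          (Subgroup.mem_subgroupOf.2 hp))
      obtain ⟨e, he⟩ := IsPGroup.iff_orderOf.1 hN ⟨n, hnN⟩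
      have hodd : ∃ m, Odd m ∧ n ^ m = 1 := ⟨3 ^ e, Odd.pow (by decide), by
        rw [← he, Subgroup.orderOf_mk, pow_orderOf_eq_one]⟩
      have hbn := X.comm_b_of_norm hodd (hcj _ ⟨bC, by decide +kernel, rfl⟩)
      have hzn := hB n hbn
      obtain ⟨d, rfl, hd3⟩ := X.cube_of_odd hzn hodd
      have han : φ d * φ aC = φ aC * φ d := by
        have h := X.preSigma.comm_b_of_norm hodd (by
          obtain ⟨p, hp, hpe⟩ := hcj _ ⟨aC, by decide +kernel, rfl⟩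
          have hs : ∀ p ∈ p9, sigma p ∈ p9 := by decide +kernel
          refine ⟨sigma p, hs p hp, ?_⟩
          rw [MonoidHom.comp_apply, MonoidHom.comp_apply, sigma_facts.2.1, sigma_sigma]
          exact hpe)
        rwa [MonoidHom.comp_apply, sigma_facts.2.1] at h
      rcases cent_a_b d.code (X.comm_phi.1 han) (X.comm_phi.1 hbn) with h | h
      · exact hn2 ⟨d, h, rfl⟩
      · have h3 := (p9_cube _ h).1
        have hc : Commute d zc := zc_central d.code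
        have hz2 : d * zc * (d * zc) * (d * zc) = d * d * d * (zc * zc * zc) := by
          have h := hc.mul_pow 3
          simpa only [pow_succ, pow_zero, one_mul] using h
        rw [show (⟨d.code⟩ : Cm) = d from rfl, hz2, hd3, one_mul] at h3
        exact absurd h3 (by decide +kernel)
    obtain ⟨d, -, rfl⟩ := key (Subgroup.mem_sup_left hw)
    exact (X.range _).2 ⟨d, rfl⟩
  refine X.false_of_small fun c h3 h1 g hg => ?_
  rcases three_rep c.code (by rw [← h3, pow_succ, pow_two]) with h | ⟨x, hx, k, hk⟩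
  · exact absurd h h1
  have hk' : φ c = φ ⟨k⟩ * φ x * (φ ⟨k⟩)⁻¹ := by
    rw [← map_mul, hk, map_mul, mul_inv_cancel_right]
  have hkz : φ ⟨k⟩ * z = z * φ ⟨k⟩ := (X.range _).2 ⟨_, rfl⟩
  have hgx : (φ ⟨k⟩)⁻¹ * g * φ ⟨k⟩ * φ x = φ x * ((φ ⟨k⟩)⁻¹ * g * φ ⟨k⟩) := by
    rw [hk'] at hg
    calc (φ ⟨k⟩)⁻¹ * g * φ ⟨k⟩ * φ x = (φ ⟨k⟩)⁻¹ * (g * (φ ⟨k⟩ * φ x * (φ ⟨k⟩)⁻¹)) * φ ⟨k⟩ := by group
      _ = φ x * ((φ ⟨k⟩)⁻¹ * g * φ ⟨k⟩) := by rw [hg]; group
  have h : (φ ⟨k⟩)⁻¹ * g * φ ⟨k⟩ * z = z * ((φ ⟨k⟩)⁻¹ * g * φ ⟨k⟩) := by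
    simp only [reps, List.mem_cons, List.not_mem_nil, or_false] at hx
    rcases hx with rfl | rfl | rfl | rfl
    · exact hA X hn _ hgx
    · exact hB _ hgx
    · exact hD cC (by simp) _ hgx
    · exact hD dC (by simp) _ hgx
  calc g * z = φ ⟨k⟩ * ((φ ⟨k⟩)⁻¹ * g * φ ⟨k⟩ * z) * (φ ⟨k⟩)⁻¹ := by
        rw [mul_assoc ((φ ⟨k⟩)⁻¹ * g) (φ ⟨k⟩) z, hkz]; group
    _ = φ ⟨k⟩ * (z * ((φ ⟨k⟩)⁻¹ * g * φ ⟨k⟩)) * (φ ⟨k⟩)⁻¹ := by rw [h]
    _ = (φ ⟨k⟩ * z) * (φ ⟨k⟩)⁻¹ * g := by group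
    _ = z * g := by rw [hkz]; group

theorem card_kt : Nat.card (kt X) = 3 ∨ Nat.card (kt X) = 9 :=
  (X.card_wt (kt X) fun _ hy => (X.mem_kt.1 hy).2).resolve_left fun h => X.kt_ne_one h

end Cfg

/-- The element of the second class fixes a whole weight, or a line in each weight. -/
structure Whole {z : G} {φ : Cm →* G} (X : Cfg z φ) : Prop where
  le : Cfg.kt X ≤ Subgroup.centralizer ({φ bC} : Set G)
  bot : Cfg.kzt X ⊓ Subgroup.centralizer ({φ bC} : Set G) = ⊥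

theorem Cfg.exists_split {z : G} {φ : Cm →* G} (X : Cfg z φ) :
    (∃ φ', ∃ X' : Cfg z φ', Sib φ φ' ∧ φ' aC = φ aC ∧ φ' bC = φ bC ∧ Whole X') ∨
    (Nat.card (Cfg.kt X) = 9 ∧
      Nat.card ↥(Cfg.kt X ⊓ Subgroup.centralizer ({φ bC} : Set G)) = 3 ∧
      Nat.card ↥(Cfg.kzt X ⊓ Subgroup.centralizer ({φ bC} : Set G)) = 3) := by
  obtain ⟨hle, hge⟩ := X.fixed_bounds
  have hi := Subgroup.card_dvd_of_le
    (inf_le_left : Cfg.kt X ⊓ Subgroup.centralizer ({φ bC} : Set G) ≤ Cfg.kt X)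
  have hj := Subgroup.card_dvd_of_le
    (inf_le_left : Cfg.kzt X ⊓ Subgroup.centralizer ({φ bC} : Set G) ≤ Cfg.kzt X)
  rw [X.card_kzt] at hj
  obtain ⟨n, hn⟩ : ∃ n, n = Nat.card (Cfg.kt X) := ⟨_, rfl⟩
  rw [← hn] at hle hge hi hj ⊢
  obtain ⟨i, hii⟩ : ∃ i, i = Nat.card ↥(Cfg.kt X ⊓ Subgroup.centralizer ({φ bC} : Set G)) := ⟨_, rfl⟩
  obtain ⟨j, hjj⟩ : ∃ j, j = Nat.card ↥(Cfg.kzt X ⊓ Subgroup.centralizer ({φ bC} : Set G)) := ⟨_, rfl⟩
  rw [← hii, ← hjj] at hle hge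
  rw [← hii] at hi ⊢
  rw [← hjj] at hj ⊢
  have hnc : n = 3 ∨ n = 9 := hn ▸ X.card_kt
  have cases : (i = n ∧ j = 1) ∨ (i = 1 ∧ j = n) ∨ (n = 9 ∧ i = 3 ∧ j = 3) := by
    have key : ∀ n ∈ [3, 9], ∀ i ∈ List.range 10, ∀ j ∈ List.range 10, i ∣ n → j ∣ n →
        i * j ≤ n → n ^ 2 ≤ (i * j) ^ 3 →
        (i = n ∧ j = 1) ∨ (i = 1 ∧ j = n) ∨ (n = 9 ∧ i = 3 ∧ j = 3) := by decide +kernel
    have hn9 : n ≤ 9 := by rcases hnc with h | h <;> omega
    have hn0 : 0 < n := by rcases hnc with h | h <;> omega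
    exact key n (by simpa using hnc) i (List.mem_range.2 (by have := Nat.le_of_dvd hn0 hi; omega))
      j (List.mem_range.2 (by have := Nat.le_of_dvd hn0 hj; omega)) hi hj hle hge
  rcases cases with ⟨h1, h2⟩ | ⟨h1, h2⟩ | h
  · refine Or.inl ⟨φ, X, Sib.refl φ, rfl, rfl, ?_, Subgroup.card_eq_one.1 (hjj.symm.trans h2)⟩
    exact inf_eq_left.1 (Subgroup.eq_of_le_of_card_ge inf_le_left (by rw [← hn, ← hii, h1]))
  · refine Or.inl ⟨_, X.preAlpha, sib_alpha φ, congrArg φ alpha_facts.1, congrArg φ alpha_facts.2.1, ?_⟩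
    have eb : (φ.comp alpha) bC = φ bC := congrArg φ alpha_facts.2.1
    have ea : (φ.comp alpha) aC = φ aC := congrArg φ alpha_facts.1
    have et : (φ.comp alpha) tau = z * φ tau := by
      rw [MonoidHom.comp_apply, alpha_facts.2.2.1, map_mul, X.hz]
    have e1 : Cfg.kt X.preAlpha = Cfg.kzt X := by
      show oddW _ ⊓ _ = oddW _ ⊓ _
      rw [ea, et]
    have e2 : Cfg.kzt X.preAlpha = Cfg.kt X := by
      show oddW _ ⊓ _ = oddW _ ⊓ _
      rw [ea, et, ← mul_assoc, X.z_sq, one_mul]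
    refine ⟨?_, ?_⟩
    · rw [e1, eb]
      exact inf_eq_left.1 (Subgroup.eq_of_le_of_card_ge inf_le_left (by rw [X.card_kzt, ← hn, ← hjj, h2]))
    · rw [e2, eb]; exact Subgroup.card_eq_one.1 (hii.symm.trans h1)
  · exact Or.inr h

end CfsgLib.Recog.G2TwoLocal
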