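import Cfsg.Agent.Lib.Recog.G2TwoLocal.Cent

/-!
Frames at the other involutions of the four-group and the shape of the subgroups whose elements are
fixed by one of them and inverted by the others.
-/

set_option autoImplicit false
set_option maxRecDepth 100000
set_option linter.unusedSectionVars false
set_option linter.style.haveILetI false

namespace CfsgLib.Recog.G2TwoLocal

open Cm Subgroup

universe u

variable {G : Type u} [Group G] [Finite G]

/-- The two frames define the same classes. -/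
def Sib (φ φ' : Cm →* G) : Prop := ∀ y, (IsA φ' y ↔ IsA φ y) ∧ (IsB φ' y ↔ IsB φ y)

theorem Sib.refl (φ : Cm →* G) : Sib φ φ := fun _ => ⟨Iff.rfl, Iff.rfl⟩

theorem Sib.trans {φ φ' φ'' : Cm →* G} (h : Sib φ φ') (h' : Sib φ' φ'') : Sib φ φ'' :=
  fun y => ⟨(h' y).1.trans (h y).1, (h' y).2.trans (h y).2⟩

theorem class_conj_iff (g u y : G) :
    (∃ h, h * (g * u * g⁻¹) * h⁻¹ = y ∨ h * (g * u * g⁻¹) * h⁻¹ = y⁻¹) ↔
      ∃ h, h * u * h⁻¹ = y ∨ h * u * h⁻¹ = y⁻¹ := by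
  have e : ∀ h : G, h * (g * u * g⁻¹) * h⁻¹ = h * g * u * (h * g)⁻¹ := fun h => by group
  constructor
  · rintro ⟨h, hh⟩; exact ⟨h * g, by simpa only [← e] using hh⟩
  · rintro ⟨h, hh⟩; exact ⟨h * g⁻¹, by rw [e, inv_mul_cancel_right]; exact hh⟩

theorem sib_conj (φ : Cm →* G) (g : G) : Sib φ ((MulAut.conj g).toMonoidHom.comp φ) :=
  fun y => ⟨class_conj_iff g (φ aC) y, class_conj_iff g (φ bC) y⟩

theorem sib_inner (φ : Cm →* G) (k : Cm) : Sib φ (φ.comp (MulAut.conj k).toMonoidHom) := by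
  intro y
  have e : ∀ c : Cm, (φ.comp (MulAut.conj k).toMonoidHom) c = φ k * φ c * (φ k)⁻¹ := fun c => by
    show φ (k * c * k⁻¹) = _
    rw [map_mul, map_mul, map_inv]
  refine ⟨?_, ?_⟩
  · unfold IsA; rw [e]; exact class_conj_iff (φ k) (φ aC) y
  · unfold IsB; rw [e]; exact class_conj_iff (φ k) (φ bC) y

theorem sib_alpha (φ : Cm →* G) : Sib φ (φ.comp alpha) := by
  intro y
  unfold IsA IsB
  rw [MonoidHom.comp_apply, MonoidHom.comp_apply, alpha_facts.1, alpha_facts.2.1]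
  exact ⟨Iff.rfl, Iff.rfl⟩

theorem isA_sigma (φ : Cm →* G) (y : G) :
    (IsA (φ.comp sigma) y ↔ IsB φ y) ∧ (IsB (φ.comp sigma) y ↔ IsA φ y) := by
  unfold IsA IsB
  rw [MonoidHom.comp_apply, MonoidHom.comp_apply, sigma_facts.1, sigma_facts.2.1]
  exact ⟨Iff.rfl, Iff.rfl⟩

theorem isA_inv {φ : Cm →* G} {y : G} (h : IsA φ y) : IsA φ y⁻¹ := by
  obtain ⟨g, hg⟩ := h
  exact ⟨g, by rw [inv_inv]; exact hg.symm⟩

theorem isA_conj {φ : Cm →* G} {y : G} (h : IsA φ y) (k : G) : IsA φ (k * y * k⁻¹) := by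
  obtain ⟨g, hg⟩ := h
  refine ⟨k * g, ?_⟩
  have e : k * g * φ aC * (k * g)⁻¹ = k * (g * φ aC * g⁻¹) * k⁻¹ := by group
  rcases hg with hg | hg
  · exact Or.inl (by rw [e, hg])
  · exact Or.inr (by rw [e, hg]; group)

theorem isB_conj {φ : Cm →* G} {y : G} (h : IsB φ y) (k : G) : IsB φ (k * y * k⁻¹) := by
  rw [← (isA_sigma φ _).1] at h ⊢
  exact isA_conj h k

theorem isA_base (φ : Cm →* G) : IsA φ (φ aC) := ⟨1, Or.inl (by group)⟩

theorem isB_base (φ : Cm →* G) : IsB φ (φ bC) := ⟨1, Or.inl (by group)⟩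

theorem zpowers_of_cube {y : G} (h : y * y * y = 1) {v : G} (hv : v ∈ Subgroup.zpowers y) :
    v = 1 ∨ v = y ∨ v = y⁻¹ := by
  obtain ⟨i, rfl⟩ := Subgroup.mem_zpowers_iff.1 hv
  have e : y ^ (3 : ℤ) = 1 := by
    rw [show (3 : ℤ) = ((3 : ℕ) : ℤ) by norm_num, zpow_natCast, pow_succ, pow_two, h]
  have h3 : i = 3 * (i / 3) + i % 3 := (Int.mul_ediv_add_emod i 3).symm
  rw [h3, zpow_add, zpow_mul, e, one_zpow, one_mul]
  rcases (show i % 3 = 0 ∨ i % 3 = 1 ∨ i % 3 = 2 by omega) with k | k | k <;> rw [k]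
  · exact Or.inl (zpow_zero y)
  · exact Or.inr (Or.inl (zpow_one y))
  · refine Or.inr (Or.inr ?_)
    rw [zpow_two]
    exact eq_inv_of_mul_eq_one_left h

namespace Cfg

variable {z : G} {φ : Cm →* G} (X : Cfg z φ)

include X

theorem t_z : φ tau * z = z * φ tau := X.t_comm

/-- A frame at `τ` whose outer involution is `z`. -/
theorem exists_frame_tau : ∃ φ' : Cm →* G, Cfg (φ tau) φ' ∧ φ' tau = z ∧ Sib φ φ' := by
  obtain ⟨g, h1, h2⟩ := X.exists_swap
  refine ⟨(MulAut.conj g).toMonoidHom.comp φ, ?_, h2, sib_conj φ g⟩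
  have := X.conjFrame g
  rwa [h1] at this

theorem sib_z {φ' : Cm →* G} (X' : Cfg (φ tau) φ') (ht : φ' tau = z ∨ φ' tau = z * φ tau) {y : G} :
    Wt z (φ tau) y ↔ ∃ c ∈ inv25, φ' c = y := by
  rw [← X'.wt_z_iff]
  rcases ht with ht | ht <;> rw [ht]
  constructor
  · rintro ⟨h1, h2, h3⟩
    refine ⟨h1, h2, ?_⟩
    have e : φ tau * y * (φ tau)⁻¹ = y := mul_inv_eq_iff_eq_mul.2 h2.symm
    calc z * φ tau * y * (z * φ tau)⁻¹ = z * (φ tau * y * (φ tau)⁻¹) * z⁻¹ := by group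
      _ = y⁻¹ := by rw [e, h3]
  · rintro ⟨h1, h2, h3⟩
    refine ⟨h1, h2, ?_⟩
    have e : φ tau * y * (φ tau)⁻¹ = y := mul_inv_eq_iff_eq_mul.2 h2.symm
    calc z * y * z⁻¹ = z * (φ tau * y * (φ tau)⁻¹) * z⁻¹ := by rw [e]
      _ = z * φ tau * y * (z * φ tau)⁻¹ := by group
      _ = y⁻¹ := h3

/-- A group of weight elements is trivial, cyclic or the standard one of a frame at `τ`. -/
theorem wt_group (K : Subgroup G) (hK : ∀ y ∈ K, Wt z (φ tau) y) :
    K = ⊥ ∨ (∃ φ', Cfg (φ tau) φ' ∧ (φ' tau = z ∨ φ' tau = z * φ tau) ∧ Sib φ φ' ∧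
        ∃ x ∈ reps, K = Subgroup.zpowers (φ' x)) ∨
      ∃ φ', Cfg (φ tau) φ' ∧ (φ' tau = z ∨ φ' tau = z * φ tau) ∧ Sib φ φ' ∧ K = p9Sub φ' := by
  obtain ⟨ψ, Y, hY, hS⟩ := X.exists_frame_tau
  have hpre : ∀ y ∈ K, ∃ c ∈ inv25, ψ c = y := fun y hy => (X.sib_z Y (Or.inl hY)).1 (hK y hy)
  have hin : ∀ {c : Cm}, ψ c ∈ K → c ∈ inv25 := fun {c} hc => by
    obtain ⟨d, hd, he⟩ := hpre _ hc
    exact Y.inj he ▸ hd
  have frame : ∀ k : Cm, (k * tau * k⁻¹ = tau ∨ k * tau * k⁻¹ = zc * tau) →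
      Cfg (φ tau) (ψ.comp (MulAut.conj k).toMonoidHom) ∧
      ((ψ.comp (MulAut.conj k).toMonoidHom) tau = z ∨ (ψ.comp (MulAut.conj k).toMonoidHom) tau = z * φ tau) ∧
      Sib φ (ψ.comp (MulAut.conj k).toMonoidHom) := by
    intro k hk
    refine ⟨Y.preInner k, ?_, hS.trans (sib_inner ψ k)⟩
    rcases hk with hk | hk
    · left; show ψ (k * tau * k⁻¹) = z; rw [hk, hY]
    · right; show ψ (k * tau * k⁻¹) = z * φ tau; rw [hk, map_mul, Y.hz, hY, X.t_comm]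
  by_cases hb : K = ⊥
  · exact Or.inl hb
  obtain ⟨⟨y, hyK⟩, hy1⟩ := (Subgroup.bot_or_exists_ne_one K).resolve_left hb |> fun ⟨y, hy, h1⟩ =>
    (⟨⟨y, hy⟩, h1⟩ : ∃ y : K, (y : G) ≠ 1)
  obtain ⟨c, hc, rfl⟩ := hpre y hyK
  by_cases hcyc : K ≤ Subgroup.zpowers (ψ c)
  · right; left
    rcases axis_rep c hc with rfl | ⟨k, -, x, hx, hkx, hkt⟩
    · exact absurd (map_one ψ) hy1
    obtain ⟨F1, F2, F3⟩ := frame k hkt
    refine ⟨_, F1, F2, F3, x, hx, le_antisymm ?_ ?_⟩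
    · show K ≤ Subgroup.zpowers (ψ (k * x * k⁻¹))
      rw [hkx]; exact hcyc
    · show Subgroup.zpowers (ψ (k * x * k⁻¹)) ≤ K
      rw [hkx, Subgroup.zpowers_le]; exact hyK
  right; right
  obtain ⟨v, hvK, hvc⟩ := SetLike.not_le_iff_exists.1 hcyc
  obtain ⟨d, hd, rfl⟩ := hpre v hvK
  rcases inv25_group c hc d hd (hin (by rw [map_mul]; exact mul_mem hyK hvK))
      (hin (by rw [map_mul, map_inv]; exact mul_mem hyK (inv_mem hvK))) with hdeg | ⟨n, hn⟩
  · exfalso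
    simp only [pairDeg, Bool.or_eq_true, beq_iff_eq] at hdeg
    rcases hdeg with ((h | h) | h) | h
    · exact hy1 (by show ψ c = 1; rw [h]; exact map_one ψ)
    · exact hvc (by rw [h, map_one]; exact one_mem _)
    · exact hvc (h ▸ Subgroup.mem_zpowers _)
    · exact hvc (by rw [h, map_inv]; exact inv_mem (Subgroup.mem_zpowers _))
  simp only [pairTest, Bool.and_eq_true, List.contains_iff_mem, List.all_eq_true, List.any_eq_true,
    List.mem_range, beq_iff_eq, Bool.not_eq_true'] at hn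
  obtain ⟨⟨⟨hc', hd'⟩, hmax⟩, hgen⟩ := hn
  obtain ⟨k, -, hk1, hk2, hkt, -, -⟩ := grp_conj n
  simp only [List.all_eq_true, decide_eq_true_eq] at hk1 hk2
  obtain ⟨F1, F2, F3⟩ := frame k hkt
  refine ⟨_, F1, F2, F3, le_antisymm ?_ ?_⟩
  · intro u hu
    obtain ⟨e, he, rfl⟩ := hpre u hu
    have hg : e ∈ grp n := by
      by_contra hne
      have h := hmax e he
      have m : ∀ {f : Cm}, ψ f ∈ K → inv25.contains f = true := fun hf => List.contains_iff_mem.2 (hin hf)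
      have m1 : inv25.contains (e * c) = true := m (by rw [map_mul]; exact mul_mem hu hyK)
      have m2 : inv25.contains (e * c⁻¹) = true := m (by
        rw [map_mul, map_inv]; exact mul_mem hu (inv_mem hyK))
      have m3 : inv25.contains (e * d) = true := m (by rw [map_mul]; exact mul_mem hu hvK)
      have m4 : inv25.contains (e * d⁻¹) = true := m (by
        rw [map_mul, map_inv]; exact mul_mem hu (inv_mem hvK))
      have m5 : inv25.contains (e * (c * d)) = true := m (by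
        rw [map_mul, map_mul]; exact mul_mem hu (mul_mem hyK hvK))
      have m6 : inv25.contains (e * (c * d)⁻¹) = true := m (by
        rw [map_mul, map_inv, map_mul]; exact mul_mem hu (inv_mem (mul_mem hyK hvK)))
      simp [grpTest] at h
      refine hne (h (List.contains_iff_mem.1 m1) (List.contains_iff_mem.1 m2)
        (List.contains_iff_mem.1 m3) (List.contains_iff_mem.1 m4) (List.contains_iff_mem.1 m5) ?_)
      rw [← _root_.mul_inv_rev]
      exact List.contains_iff_mem.1 m6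
    refine ⟨k⁻¹ * e * k, hk1 e hg, ?_⟩
    show ψ (k * (k⁻¹ * e * k) * k⁻¹) = ψ e
    congr 1; group
  · rintro _ ⟨e, he, rfl⟩
    show ψ (k * e * k⁻¹) ∈ K
    obtain ⟨i, -, j, -, hij⟩ := hgen _ (hk2 e he)
    rw [hij, map_mul, map_pow, map_pow]
    exact mul_mem (pow_mem hyK i) (pow_mem hvK j)

theorem card_p9 : Nat.card (p9Sub φ) = 9 := by
  have hnd : p9.toFinset.card = 9 := by decide +kernel
  rw [← hnd, ← Nat.card_eq_finsetCard]
  refine (Nat.card_congr (Equiv.ofBijective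
    (fun c : p9.toFinset => (⟨φ c.1, c.1, List.mem_toFinset.1 c.2, rfl⟩ : p9Sub φ))
    ⟨fun c d h => Subtype.ext (X.inj (congrArg Subtype.val h)), ?_⟩)).symm
  rintro ⟨_, c, hc, rfl⟩
  exact ⟨⟨c, List.mem_toFinset.2 hc⟩, rfl⟩

theorem card_zpowers_rep {x : Cm} (hx : x ∈ reps) : Nat.card (Subgroup.zpowers (φ x)) = 3 := by
  haveI : Fact (Nat.Prime 3) := ⟨Nat.prime_three⟩
  rw [Nat.card_zpowers]
  refine orderOf_eq_prime ?_ fun h => (reps_cube x hx).2.1 (X.inj (by rw [h, map_one]))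
  rw [← map_pow, pow_succ, pow_two, (reps_cube x hx).1, map_one]

theorem card_wt (K : Subgroup G) (hK : ∀ y ∈ K, Wt z (φ tau) y) :
    Nat.card K = 1 ∨ Nat.card K = 3 ∨ Nat.card K = 9 := by
  rcases X.wt_group K hK with h | ⟨φ', F, -, -, x, hx, h⟩ | ⟨φ', F, -, -, h⟩
  · exact Or.inl (by rw [h, Subgroup.card_bot])
  · exact Or.inr (Or.inl (by rw [h, F.card_zpowers_rep hx]))
  · exact Or.inr (Or.inr (by rw [h, F.card_p9]))

theorem self_mem_oddW {x : Cm} (hx : x ∈ reps) : φ x ∈ oddW (φ x) := by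
  refine le_oddW (N := Subgroup.zpowers (φ x)) ?_ ?_ ?_ (Subgroup.mem_zpowers _)
  · intro y hy
    obtain ⟨i, rfl⟩ := Subgroup.mem_zpowers_iff.1 hy
    exact (Commute.zpow_self (φ x) i).eq
  · rw [X.card_zpowers_rep hx]; decide
  · intro g hg y hy
    obtain ⟨i, rfl⟩ := Subgroup.mem_zpowers_iff.1 hy
    rw [← conj_zpow, hg, mul_inv_cancel_right]
    exact zpow_mem (Subgroup.mem_zpowers _) i

/-- The part of the odd core fixed by `z`, for the long element. -/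
theorem oddW_z_eq : oddW (φ aC) ⊓ Subgroup.centralizer ({z} : Set G) = Subgroup.zpowers (φ aC) := by
  refine le_antisymm (fun y hy => ?_) ?_
  · obtain ⟨c, hc, rfl⟩ := X.oddW_zpart (by decide +kernel) hy.1 (mem_cent.1 hy.2)
    rw [zpart, if_pos rfl] at hc
    simp only [List.mem_cons, List.not_mem_nil, or_false] at hc
    rcases hc with rfl | rfl | rfl
    · rw [map_one]; exact one_mem _
    · exact Subgroup.mem_zpowers _
    · rw [map_mul]; exact mul_mem (Subgroup.mem_zpowers _) (Subgroup.mem_zpowers _)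
  · rw [Subgroup.zpowers_le]
    exact ⟨X.self_mem_oddW (by decide +kernel), mem_cent.2 X.z_comm_rep.symm⟩

/-- The weight part of the odd core of the long element. -/
def kt (_ : Cfg z φ) : Subgroup G := oddW (φ aC) ⊓ Subgroup.centralizer ({φ tau} : Set G)

/-- The other weight part. -/
def kzt (_ : Cfg z φ) : Subgroup G := oddW (φ aC) ⊓ Subgroup.centralizer ({z * φ tau} : Set G)

theorem mem_kt {y : G} : y ∈ kt X ↔ y * φ aC = φ aC * y ∧ Wt z (φ tau) y :=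
  ⟨fun h => ⟨oddW_le _ _ h.1, X.oddW_wt_t (by decide +kernel) (Or.inl rfl) h.1 (mem_cent.1 h.2)⟩,
    fun h => ⟨X.wt_mem (by decide +kernel) h.1 h.2, mem_cent.2 h.2.2.1⟩⟩

theorem mem_kzt {y : G} : y ∈ kzt X ↔ y * φ aC = φ aC * y ∧ Wt z (z * φ tau) y :=
  ⟨fun h => ⟨oddW_le _ _ h.1, X.oddW_wt_t (by decide +kernel) (Or.inr rfl) h.1 (mem_cent.1 h.2)⟩,
    fun h => ⟨X.wt_mem (by decide +kernel) h.1 h.2, mem_cent.2 h.2.2.1⟩⟩

theorem jB_maps : φ jB * φ aC * (φ jB)⁻¹ = φ aC ∧ φ jB * φ tau * (φ jB)⁻¹ = z * φ tau ∧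
    φ jB * z * (φ jB)⁻¹ = z ∧ φ jB * (z * φ tau) * (φ jB)⁻¹ = φ tau := by
  have h1 : φ jB * φ aC * (φ jB)⁻¹ = φ aC := by
    rw [← map_inv, ← map_mul, ← map_mul, j_facts.1, mul_inv_cancel_right]
  have h2 : φ jB * φ tau * (φ jB)⁻¹ = z * φ tau := by
    rw [← map_inv, ← map_mul, ← map_mul, j_facts.2.2.2.2.2.2.1, map_mul, X.hz]
  have h3 : φ jB * z * (φ jB)⁻¹ = z := mul_inv_eq_iff_eq_mul.2 ((X.range _).2 ⟨_, rfl⟩)
  refine ⟨h1, h2, h3, ?_⟩
  rw [conj_mul.symm, h3, h2, ← mul_assoc, X.z_sq, one_mul]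

theorem card_kzt : Nat.card (kzt X) = Nat.card (kt X) := by
  obtain ⟨h1, h2, h3, h4⟩ := X.jB_maps
  have key : ∀ {t t' : G}, φ jB * t * (φ jB)⁻¹ = t' →
      Nat.card ↥(oddW (φ aC) ⊓ Subgroup.centralizer ({t} : Set G)) ≤
        Nat.card ↥(oddW (φ aC) ⊓ Subgroup.centralizer ({t'} : Set G)) := by
    intro t t' ht
    rw [← Subgroup.card_map_of_injective (f := (MulAut.conj (φ jB)).toMonoidHom) (MulAut.conj (φ jB)).injective]
    refine Subgroup.card_le_of_le ?_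
    rintro _ ⟨y, hy, rfl⟩
    refine ⟨oddW_norm (Or.inl h1) hy.1, mem_cent.2 ?_⟩
    show φ jB * y * (φ jB)⁻¹ * t' = t' * (φ jB * y * (φ jB)⁻¹)
    rw [← ht, conj_mul, mem_cent.1 hy.2, ← conj_mul]
  exact le_antisymm (key h4) (key h2)

theorem card_oddW_a : Nat.card (oddW (φ aC)) = 3 * Nat.card (kt X) ^ 2 := by
  rw [X.card_oddW (by decide +kernel), X.oddW_z_eq, X.card_zpowers_rep (by decide +kernel)]
  show 3 * Nat.card (kt X) * Nat.card (kzt X) = _
  rw [X.card_kzt]; ring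

end Cfg

end CfsgLib.Recog.G2TwoLocal
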