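import Cfsg.Agent.Lib.Recog.G2TwoLocal.Split

/-!
Consequences of the element of the second class fixing a whole weight, and the comparison of frames.
-/

set_option autoImplicit false
set_option maxRecDepth 100000
set_option linter.unusedSectionVars false
set_option linter.style.haveILetI false

namespace CfsgLib.Recog.G2TwoLocal

open Cm Subgroup

universe u

variable {G : Type u} [Group G] [Finite G]

/-- Elements of one of the subgroups of order nine commute. -/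
theorem p9Sub_comm {φ : Cm →* G} {y y' : G} (h : y ∈ p9Sub φ) (h' : y' ∈ p9Sub φ) :
    y * y' = y' * y := by
  obtain ⟨c, hc, rfl⟩ := h
  obtain ⟨d, hd, rfl⟩ := h'
  have hcomm : ∀ c ∈ p9, ∀ d ∈ p9, c * d = d * c := by decide +kernel
  rw [← map_mul, hcomm c hc d hd, map_mul]

theorem aC_mem_p9Sub (φ : Cm →* G) : φ aC ∈ p9Sub φ ∧ φ bC ∈ p9Sub φ :=
  ⟨⟨aC, by decide +kernel, rfl⟩, ⟨bC, by decide +kernel, rfl⟩⟩

namespace Cfg

variable {z : G} {φ : Cm →* G} (X : Cfg z φ)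

include X

/-- The long class is unique inside a group of order nine. -/
theorem isA_unique {y : G} (hy : y ∈ p9Sub φ) (hA : IsA φ y) : y = φ aC ∨ y = (φ aC)⁻¹ := by
  obtain ⟨c, hc, rfl⟩ := hy
  obtain ⟨g, hg⟩ := hA
  rcases hg with hg | hg
  · rcases X.fusion (by decide +kernel) hc hg with rfl | rfl
    · exact Or.inl rfl
    · exact Or.inr (map_inv φ aC)
  · rw [← map_inv] at hg
    rcases X.fusion (by decide +kernel) (p9_closed.2 c hc) hg with h | h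
    · refine Or.inr ?_
      rw [← map_inv]; exact congrArg φ (by rw [← h, inv_inv])
    · exact Or.inl (congrArg φ (inv_injective h))

theorem isB_unique {y : G} (hy : y ∈ p9Sub φ) (hB : IsB φ y) : y = φ bC ∨ y = (φ bC)⁻¹ := by
  have h := X.preSigma.isA_unique (y := y) (by
    obtain ⟨c, hc, rfl⟩ := hy
    have hs : ∀ p ∈ p9, sigma p ∈ p9 := by decide +kernel
    exact ⟨sigma c, hs c hc, congrArg φ (sigma_sigma c)⟩) ((isA_sigma φ y).1.2 hB)
  rwa [MonoidHom.comp_apply, sigma_facts.1] at h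

theorem wt_symm {t y : G} (ht : t = φ tau ∨ t = z * φ tau) :
    Wt z t y ↔ Wt (z * t) t y := by
  have e : ∀ {y : G}, y * t = t * y → z * t * y * (z * t)⁻¹ = z * y * z⁻¹ := fun {y} h => by
    rw [_root_.mul_inv_rev, mul_assoc z t y, ← h]; group
  exact ⟨fun h => ⟨h.1, h.2.1, by rw [e h.2.1]; exact h.2.2⟩,
    fun h => ⟨h.1, h.2.1, by rw [← e h.2.1]; exact h.2.2⟩⟩

/-- A nontrivial group of weight elements, with a frame whose outer involution is `z`. -/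
theorem wt_group' (K : Subgroup G) (hK : ∀ y ∈ K, Wt z (φ tau) y) :
    K = ⊥ ∨ (∃ φ', Cfg (φ tau) φ' ∧ φ' tau = z ∧ Sib φ φ' ∧
        ∃ x ∈ reps, K = Subgroup.zpowers (φ' x)) ∨
      ∃ φ', Cfg (φ tau) φ' ∧ φ' tau = z ∧ Sib φ φ' ∧ K = p9Sub φ' := by
  have flip : ∀ {φ' : Cm →* G}, Cfg (φ tau) φ' → φ' tau = z * φ tau →
      (φ'.comp alpha) tau = z := fun {φ'} Y h => by
    rw [MonoidHom.comp_apply, alpha_facts.2.2.1, map_mul, Y.hz, h, ← mul_assoc, X.t_comm, mul_assoc,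
      X.t_sq, mul_one]
  have ha : ∀ c ∈ p9, alpha c = c := by decide +kernel
  have hr : ∀ c ∈ reps, alpha c = c := by decide +kernel
  rcases X.wt_group K hK with h | ⟨φ', F, ht, hS, x, hx, h⟩ | ⟨φ', F, ht, hS, h⟩
  · exact Or.inl h
  · right; left
    rcases ht with ht | ht
    · exact ⟨φ', F, ht, hS, x, hx, h⟩
    · exact ⟨_, F.preAlpha, flip F ht, hS.trans (sib_alpha φ'), x, hx, by
        rw [h, MonoidHom.comp_apply, hr x hx]⟩
  · right; right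
    rcases ht with ht | ht
    · exact ⟨φ', F, ht, hS, h⟩
    · refine ⟨_, F.preAlpha, flip F ht, hS.trans (sib_alpha φ'), h.trans (SetLike.ext fun y => ?_)⟩
      constructor <;> rintro ⟨c, hc, rfl⟩
      · exact ⟨c, hc, congrArg φ' (ha c hc)⟩
      · exact ⟨c, hc, (congrArg φ' (ha c hc)).symm⟩

theorem card_oddW_eq {y y' g : G} (h : g * y * g⁻¹ = y' ∨ g * y * g⁻¹ = y'⁻¹) :
    Nat.card (oddW y) = Nat.card (oddW y') := by
  have le : ∀ {y y' g : G}, (g * y * g⁻¹ = y' ∨ g * y * g⁻¹ = y'⁻¹) →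
      Nat.card (oddW y) ≤ Nat.card (oddW y') := by
    intro y y' g h
    rw [← Subgroup.card_map_of_injective (f := (MulAut.conj g).toMonoidHom) (MulAut.conj g).injective]
    refine Subgroup.card_le_of_le ?_
    rintro _ ⟨w, hw, rfl⟩
    refine oddW_conj (fun u => ?_) hw
    have e : u * y = y * u ↔ g * u * g⁻¹ * (g * y * g⁻¹) = g * y * g⁻¹ * (g * u * g⁻¹) := by
      rw [conj_mul, conj_mul]
      exact (MulAut.conj g).injective.eq_iff.symm
    rw [e]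
    rcases h with h | h <;> rw [h]
    exact Commute.inv_right_iff (a := g * u * g⁻¹)
  refine le_antisymm (le h) (le (g := g⁻¹) ?_)
  rcases h with h | h
  · exact Or.inl (by rw [← h]; group)
  · exact Or.inr (by
      rw [show y' = (g * y * g⁻¹)⁻¹ by rw [h, inv_inv]]; group)

/-- The size of the weights is the same in all frames with the same class. -/
theorem card_kt_eq {z' : G} {ψ : Cm →* G} (Y : Cfg z' ψ) (h : IsA φ (ψ aC)) :
    Nat.card (kt Y) = Nat.card (kt X) := by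
  obtain ⟨g, hg⟩ := h
  have e := X.card_oddW_eq hg
  rw [X.card_oddW_a, Y.card_oddW_a] at e
  exact (Nat.pow_left_injective (by norm_num) (mul_left_cancel₀ (by norm_num) e)).symm

/-- The part of the odd core fixed by the second element. -/
theorem fixed_rep (hbot : kzt X ⊓ Subgroup.centralizer ({φ bC} : Set G) = ⊥)
    (hle : kt X ≤ Subgroup.centralizer ({φ bC} : Set G)) :
    (∀ u ∈ oddW (φ aC), u * φ bC = φ bC * u → ∃ d ∈ Subgroup.zpowers (φ aC), ∃ k ∈ kt X, u = d * k) ∧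
    (∀ u ∈ oddW (φ aC), ∃ c ∈ oddW (φ aC), c * φ bC = φ bC * c ∧ ∃ v ∈ kzt X, u = c * v) := by
  classical
  obtain ⟨S, hS⟩ : ∃ S, S = oddW (φ aC) ⊓ Subgroup.centralizer ({φ bC} : Set G) := ⟨_, rfl⟩
  have za : ∀ d ∈ Subgroup.zpowers (φ aC), d ∈ S := fun d hd => hS ▸ ⟨
    Subgroup.zpowers_le.2 (X.self_mem_oddW (x := aC) (by decide +kernel)) hd,
    Subgroup.zpowers_le.2 (mem_cent.2 X.b_comm_a.symm) hd⟩
  have ka : ∀ k ∈ kt X, k ∈ S := fun k hk => hS ▸ ⟨hk.1, hle hk⟩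
  have cW : Nat.card (oddW (φ aC)) = 3 * Nat.card (kt X) ^ 2 := X.card_oddW_a
  have hsub : ∀ p : Subgroup.zpowers (φ aC) × kt X, (p.1 : G) * p.2 ∈ S :=
    fun p => mul_mem (za _ p.1.2) (ka _ p.2.2)
  have inj1 : Function.Injective fun p : Subgroup.zpowers (φ aC) × kt X => (⟨_, hsub p⟩ : S) := by
    intro p q h
    have e : (p.1 : G) * p.2 = q.1 * q.2 := congrArg Subtype.val h
    have e2 : (q.1 : G)⁻¹ * p.1 = q.2 * (p.2 : G)⁻¹ := by
      rw [inv_mul_eq_iff_eq_mul, ← mul_assoc, ← e, mul_inv_cancel_right]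
    have m1 : (q.1 : G)⁻¹ * p.1 ∈ Subgroup.zpowers (φ aC) := mul_mem (inv_mem q.1.2) p.1.2
    have m2 : (q.1 : G)⁻¹ * p.1 ∈ kt X := e2 ▸ mul_mem q.2.2 (inv_mem p.2.2)
    have h1 : (q.1 : G)⁻¹ * p.1 = 1 :=
      X.eq_one_of_odd_tau (mem_cent.1 (X.oddW_z_eq.symm.le m1).2) (mem_cent.1 m2.2)
        ⟨_, odd_oddW _, oddW_pow _ m2.1⟩
    rw [h1, eq_comm, mul_inv_eq_one] at e2
    exact Prod.ext (Subtype.ext (inv_mul_eq_one.1 h1).symm) (Subtype.ext e2.symm)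
  have hsub2 : ∀ p : S × kzt X, (p.1 : G) * p.2 ∈ oddW (φ aC) := fun p =>
    mul_mem (hS ▸ p.1.2 : (p.1 : G) ∈ oddW (φ aC) ⊓ Subgroup.centralizer ({φ bC} : Set G)).1 p.2.2.1
  have inj2 : Function.Injective fun p : S × kzt X => (⟨_, hsub2 p⟩ : oddW (φ aC)) := by
    intro p q h
    have e : (p.1 : G) * p.2 = q.1 * q.2 := congrArg Subtype.val h
    have e2 : (q.1 : G)⁻¹ * p.1 = q.2 * (p.2 : G)⁻¹ := by
      rw [inv_mul_eq_iff_eq_mul, ← mul_assoc, ← e, mul_inv_cancel_right]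
    have m1 : (q.1 : G)⁻¹ * p.1 ∈ S := mul_mem (inv_mem q.1.2) p.1.2
    have m2 : (q.1 : G)⁻¹ * p.1 ∈ kzt X := e2 ▸ mul_mem q.2.2 (inv_mem p.2.2)
    have m1' := hS.le m1
    have h1 : (q.1 : G)⁻¹ * p.1 = 1 := Subgroup.mem_bot.1 (hbot.le ⟨m2, m1'.2⟩)
    rw [h1, eq_comm, mul_inv_eq_one] at e2
    exact Prod.ext (Subtype.ext (inv_mul_eq_one.1 h1).symm) (Subtype.ext e2.symm)
  have c1 := Nat.card_le_card_of_injective _ inj1
  have c2 := Nat.card_le_card_of_injective _ inj2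
  rw [Nat.card_prod, X.card_zpowers_rep (by decide +kernel)] at c1
  rw [Nat.card_prod, cW, X.card_kzt] at c2
  have cS : Nat.card S = 3 * Nat.card (kt X) := by
    have hp : 0 < Nat.card (kt X) := Nat.card_pos
    refine le_antisymm ?_ c1
    nlinarith
  haveI : Fintype (Subgroup.zpowers (φ aC) × kt X) := Fintype.ofFinite _
  haveI : Fintype S := Fintype.ofFinite _
  haveI : Fintype (kzt X) := Fintype.ofFinite _
  haveI : Fintype (oddW (φ aC)) := Fintype.ofFinite _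
  have b1 := (Fintype.bijective_iff_injective_and_card _).2 ⟨inj1, by
    rw [← Nat.card_eq_fintype_card, ← Nat.card_eq_fintype_card, Nat.card_prod,
      X.card_zpowers_rep (by decide +kernel), cS]⟩
  have b2 := (Fintype.bijective_iff_injective_and_card _).2 ⟨inj2, by
    rw [← Nat.card_eq_fintype_card, ← Nat.card_eq_fintype_card, Nat.card_prod, cS, cW, X.card_kzt]
    ring⟩
  refine ⟨fun u hu hub => ?_, fun u hu => ?_⟩
  · obtain ⟨p, hp⟩ := b1.2 ⟨u, hS ▸ ⟨hu, mem_cent.2 hub⟩⟩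
    exact ⟨p.1, p.1.2, p.2, p.2.2, (congrArg Subtype.val hp).symm⟩
  · obtain ⟨p, hp⟩ := b2.2 ⟨u, hu⟩
    have h := (hS ▸ p.1.2 : (p.1 : G) ∈ oddW (φ aC) ⊓ Subgroup.centralizer ({φ bC} : Set G))
    exact ⟨p.1, h.1, mem_cent.1 h.2, p.2, p.2.2, (congrArg Subtype.val hp).symm⟩

end Cfg

namespace Whole

variable {z : G} {φ : Cm →* G} {X : Cfg z φ} (P : Whole X)

include P

/-- The second element moves the other weight into the fixed part. -/
theorem move {v : G} (hv : v ∈ Cfg.kzt X) :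
    ∃ d ∈ Subgroup.zpowers (φ aC), ∃ k ∈ Cfg.kt X, φ bC * v * (φ bC)⁻¹ * v⁻¹ = d * k := by
  obtain ⟨hrep, hdec⟩ := X.fixed_rep P.bot P.le
  have hn : ∀ u ∈ oddW (φ aC), φ bC * u * (φ bC)⁻¹ ∈ oddW (φ aC) := fun u hu =>
    oddW_normal X.b_comm_a hu
  -- `≡` modulo the fixed part
  have hfix : ∀ u ∈ oddW (φ aC), ∀ c ∈ oddW (φ aC), c * φ bC = φ bC * c →
      u * c * u⁻¹ ∈ oddW (φ aC) ∧ u * c * u⁻¹ * φ bC = φ bC * (u * c * u⁻¹) := by
    intro u hu c hc hcb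
    have hd := X.comm_mod_a hu hc
    refine ⟨mul_mem (mul_mem hu hc) (inv_mem hu), ?_⟩
    have e : u * c * u⁻¹ = u * c * u⁻¹ * c⁻¹ * c := by group
    obtain ⟨i, hi⟩ := Subgroup.mem_zpowers_iff.1 hd
    rw [e, ← hi]
    exact ((Commute.zpow_left X.b_comm_a.symm i).mul_left hcb)
  obtain ⟨hv1, hv2⟩ := X.mem_kzt.1 hv
  have ht : φ tau * v * (φ tau)⁻¹ = v⁻¹ := by
    have h := hv2.2.1
    calc φ tau * v * (φ tau)⁻¹ = z⁻¹ * (z * φ tau * v * (φ tau)⁻¹) := by group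
      _ = z⁻¹ * (v * (z * φ tau) * (φ tau)⁻¹) := by rw [h]
      _ = z⁻¹ * v * z := by group
      _ = v⁻¹ := by rw [Cfg.inv_sq X.z_sq, ← hv2.2.2, Cfg.inv_sq X.z_sq]
  have htb : φ tau * φ bC * (φ tau)⁻¹ = (φ bC)⁻¹ := X.tau_rep (by decide +kernel)
  obtain ⟨c, hc, hcb, v', hv', he⟩ := hdec _ (hn v hv.1)
  obtain ⟨c', hc'⟩ : ∃ c', c' = φ tau * c * (φ tau)⁻¹ := ⟨_, rfl⟩
  have hc'W : c' ∈ oddW (φ aC) := hc' ▸ X.oddW_t_inv (by decide +kernel) hc
  have hc'b : c' * φ bC = φ bC * c' := by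
    have e : c' * (φ bC)⁻¹ = (φ bC)⁻¹ * c' := by rw [hc', ← htb, conj_mul, hcb, ← conj_mul]
    exact (Commute.inv_right_iff (a := c')).1 e
  have hv't : φ tau * v' * (φ tau)⁻¹ = v'⁻¹ := by
    obtain ⟨-, h'⟩ := X.mem_kzt.1 hv'
    calc φ tau * v' * (φ tau)⁻¹ = z⁻¹ * (z * φ tau * v' * (φ tau)⁻¹) := by group
      _ = z⁻¹ * (v' * (z * φ tau) * (φ tau)⁻¹) := by rw [h'.2.1]
      _ = z⁻¹ * v' * z := by group
      _ = v'⁻¹ := by rw [Cfg.inv_sq X.z_sq, ← h'.2.2, Cfg.inv_sq X.z_sq]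
  have e1 : (φ bC)⁻¹ * v * φ bC = v' * c'⁻¹ := by
    have h := congrArg (fun u => (φ tau * u * (φ tau)⁻¹)⁻¹) he
    simp only [← conj_mul, ← conj_inv, htb, hv't, inv_inv] at h
    rw [ht] at h
    rw [← hc'] at h
    simpa [mul_assoc] using h
  obtain ⟨q, hq⟩ : ∃ q, q = (φ bC)⁻¹ * v * φ bC * (φ bC * v * (φ bC)⁻¹)⁻¹ := ⟨_, rfl⟩
  have hqf : q ∈ oddW (φ aC) ∧ q * φ bC = φ bC * q := by
    have : q = (v' * c'⁻¹ * v'⁻¹) * c⁻¹ := by rw [hq, e1, he]; group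
    rw [this]
    obtain ⟨f1, f2⟩ := hfix v' hv'.1 c'⁻¹ (inv_mem hc'W) (Commute.inv_left hc'b)
    exact ⟨mul_mem f1 (inv_mem hc), (Commute.mul_left f2 (Commute.inv_left hcb))⟩
  have hb3 : φ bC * φ bC * φ bC = 1 := by
    rw [← map_mul, ← map_mul, (reps_cube bC (by decide +kernel)).1, map_one]
  have hb2 : φ bC * φ bC = (φ bC)⁻¹ := eq_inv_of_mul_eq_one_left hb3
  have key : v * ((φ bC)⁻¹ * v * φ bC)⁻¹ = q := by
    have h : φ bC * q * (φ bC)⁻¹ = v * ((φ bC)⁻¹ * v * φ bC)⁻¹ := by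
      rw [hq]
      calc φ bC * ((φ bC)⁻¹ * v * φ bC * (φ bC * v * (φ bC)⁻¹)⁻¹) * (φ bC)⁻¹
          = v * (φ bC * φ bC) * v⁻¹ * (φ bC * φ bC)⁻¹ := by group
        _ = _ := by rw [hb2]; group
    rw [← h, ← hqf.2, mul_inv_cancel_right]
  have hres : φ bC * v * (φ bC)⁻¹ * v⁻¹ = q := by
    have h2 : φ bC * q * (φ bC)⁻¹ = q := mul_inv_eq_iff_eq_mul.2 hqf.2.symm
    rw [← h2, ← key]
    group
  rw [hres]
  exact hrep q hqf.1 hqf.2

/-- A nontrivial element of the moved weight moves the second element outside the subgroup of order nine. -/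
theorem move_ne {v : G} (hv : v ∈ Cfg.kzt X) (hv1 : v ≠ 1) {d k : G} (hd : d ∈ Subgroup.zpowers (φ aC))
    (h : φ bC * v * (φ bC)⁻¹ * v⁻¹ = d * k) : k ≠ 1 := by
  rintro rfl
  rw [mul_one] at h
  exact hv1 (Subgroup.mem_bot.1 (P.bot ▸ ⟨hv, mem_cent.2 (X.fixed_comm hv.1 (h ▸ hd))⟩))

theorem kt_sigma : Cfg.kt X.preSigma = Cfg.kt X ∧ Whole X.preSigma := by
  have et : (φ.comp sigma) tau = φ tau := congrArg φ sigma_facts.2.2.1
  have ea : (φ.comp sigma) aC = φ bC := congrArg φ sigma_facts.1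
  have eb : (φ.comp sigma) bC = φ aC := congrArg φ sigma_facts.2.1
  have hle : Cfg.kt X ≤ Cfg.kt X.preSigma := fun y hy => X.preSigma.mem_kt.2
    ⟨by rw [ea]; exact mem_cent.1 (P.le hy), by rw [et]; exact (X.mem_kt.1 hy).2⟩
  have hi : Cfg.kt X.preSigma ⊓ Subgroup.centralizer ({(φ.comp sigma) bC} : Set G) = Cfg.kt X := by
    refine le_antisymm (fun y hy => ?_) (fun y hy => ⟨hle hy, ?_⟩)
    · exact X.mem_kt.2 ⟨eb ▸ mem_cent.1 hy.2, et ▸ (X.preSigma.mem_kt.1 hy.1).2⟩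
    · rw [eb]; exact mem_cent.2 (X.mem_kt.1 hy).1
  have hj : Cfg.kzt X.preSigma ⊓ Subgroup.centralizer ({(φ.comp sigma) bC} : Set G) = ⊥ := by
    rw [Subgroup.eq_bot_iff_forall]
    intro y hy
    obtain ⟨h1, h2⟩ := X.preSigma.mem_kzt.1 hy.1
    refine Subgroup.mem_bot.1 (P.bot ▸ ⟨X.mem_kzt.2 ⟨eb ▸ mem_cent.1 hy.2, et ▸ h2⟩, mem_cent.2 ?_⟩)
    rwa [ea] at h1
  have h2 := X.preSigma.fixed_bounds.2
  rw [hi, hj, Subgroup.card_bot, mul_one] at h2
  have hs := Subgroup.card_le_of_le hle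
  have hEq : Cfg.kt X.preSigma = Cfg.kt X := by
    refine (Subgroup.eq_of_le_of_card_ge hle ?_).symm
    rcases X.card_kt with e | e <;> rcases X.preSigma.card_kt with e' | e' <;> rw [e, e'] at hs h2 ⊢ <;>
      first | omega | (exfalso; norm_num at h2)
  refine ⟨hEq, ⟨?_, hj⟩⟩
  rw [hEq, eb]
  exact fun y hy => mem_cent.2 (X.mem_kt.1 hy).1

end Whole

end CfsgLib.Recog.G2TwoLocal
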